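import Mathlib

/-!
# Descent of algebras along a flat ring map
-/

set_option autoImplicit false
set_option linter.style.haveILetI false
set_option linter.unusedVariables false
universe u
open CategoryTheory CategoryTheory.Limits AlgebraicGeometry
open scoped TensorProduct

namespace Groth.Agent.SchDesc

/-- Descent of an algebra with a descent coaction along a flat ring map. -/
theorem bijective_mul_equalizer {R R' B : Type u} [CommRing R] [CommRing R'] [CommRing B] [Algebra R R']
    [Module.Flat R R'] [Algebra R' B] [Algebra R B] [IsScalarTower R R' B]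
    (θ : B →ₐ[R] B ⊗[R] R') (ha : ∀ r' : R', θ (algebraMap R' B r') = 1 ⊗ₜ r')
    (hb : ∀ b, Algebra.TensorProduct.lift (AlgHom.id R B) (IsScalarTower.toAlgHom R R' B)
      (fun _ _ => Commute.all _ _) (θ b) = b)
    (hc : ∀ b, Algebra.TensorProduct.map θ (AlgHom.id R R') (θ b) =
      Algebra.TensorProduct.map (Algebra.TensorProduct.includeLeft : B →ₐ[R] B ⊗[R] R') (AlgHom.id R R') (θ b)) :
    Function.Bijective (Algebra.TensorProduct.lift
      (AlgHom.equalizer θ Algebra.TensorProduct.includeLeft).val (IsScalarTower.toAlgHom R R' B)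
      (fun _ _ => Commute.all _ _)) := by
  let j : B →ₐ[R] B ⊗[R] R' := Algebra.TensorProduct.includeLeft
  let B₀ := AlgHom.equalizer θ j
  let m : B ⊗[R] R' →ₐ[R] B :=
    Algebra.TensorProduct.lift (AlgHom.id R B) (IsScalarTower.toAlgHom R R' B) (fun _ _ => Commute.all _ _)
  let μ : B₀ ⊗[R] R' →ₐ[R] B :=
    Algebra.TensorProduct.lift B₀.val (IsScalarTower.toAlgHom R R' B) (fun _ _ => Commute.all _ _)
  show Function.Bijective μ
  have hθμ : θ.comp μ = Algebra.TensorProduct.map B₀.val (AlgHom.id R R') := by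
    apply Algebra.TensorProduct.ext'
    intro b r
    show θ (μ (b ⊗ₜ r)) = (b : B) ⊗ₜ r
    rw [show μ (b ⊗ₜ r) = (b : B) * algebraMap R' B r from Algebra.TensorProduct.lift_tmul ..,
      map_mul, ha, show θ (b : B) = (b : B) ⊗ₜ 1 from b.2, Algebra.TensorProduct.tmul_mul_tmul,
      mul_one, one_mul]
  let ι : Subalgebra.toSubmodule B₀ →ₗ[R] B := (Subalgebra.toSubmodule B₀).subtype
  let g : B →ₗ[R] B ⊗[R] R' := θ.toLinearMap - j.toLinearMap
  have hex : Function.Exact ι g := fun b => by
    constructor
    · intro hb0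
      exact ⟨⟨b, sub_eq_zero.mp hb0⟩, rfl⟩
    · rintro ⟨c, rfl⟩
      exact sub_eq_zero.mpr c.2
  have hinj : Function.Injective (ι.rTensor R') :=
    Module.Flat.rTensor_preserves_injective_linearMap ι Subtype.val_injective
  have hex' : Function.Exact (ι.rTensor R') (g.rTensor R') := Module.Flat.rTensor_exact R' hex
  have hmap : ∀ t : B₀ ⊗[R] R', ι.rTensor R' t = Algebra.TensorProduct.map B₀.val (AlgHom.id R R') t := by
    intro t
    induction t using TensorProduct.induction_on with
    | zero => exact (map_zero (ι.rTensor R')).trans (map_zero _).symm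
    | tmul b r => rfl
    | add a b ha hb => exact (map_add (ι.rTensor R') a b).trans ((congrArg₂ (· + ·) ha hb).trans (map_add _ a b).symm)
  refine ⟨fun a b e => hinj ?_, fun b => ?_⟩
  · rw [hmap, hmap, ← hθμ]
    exact congrArg θ e
  · have h0 : g.rTensor R' (θ b) = 0 := by
      have h1 : ∀ t, g.rTensor R' t = Algebra.TensorProduct.map θ (AlgHom.id R R') t -
          Algebra.TensorProduct.map j (AlgHom.id R R') t := by
        intro t
        induction t using TensorProduct.induction_on with
        | zero => simp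
        | tmul b r => simp [g, TensorProduct.sub_tmul]
        | add a b ha hb => simp only [map_add, ha, hb]; abel
      rw [h1, sub_eq_zero]
      exact hc b
    obtain ⟨t, ht⟩ := (hex' _).mp h0
    refine ⟨t, ?_⟩
    have h2 : θ (μ t) = θ b := by
      show (θ.comp μ) t = θ b
      rw [hθμ, ← hmap]
      exact ht
    calc μ t = m (θ (μ t)) := (hb _).symm
      _ = m (θ b) := by rw [h2]
      _ = b := hb b

/-- Global sections of a base change along a flat map of affine schemes. -/
theorem isPushout_appTop {X Y S T : Scheme.{u}} {g : Y ⟶ X} {iY : Y ⟶ T} {iX : X ⟶ S} {f : T ⟶ S}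
    (H : IsPullback g iY iX f) [Flat f] [IsAffine S] [IsAffine T] [CompactSpace X] [QuasiSeparatedSpace X] :
    IsPushout iX.appTop f.appTop g.appTop iY.appTop := by
  have h := (isIso_pushoutSection_iff H (US := ⊤) (UT := ⊤) (UX := ⊤) (UY := ⊤) le_top le_top (by simp)).mp
    (isIso_pushoutSection_of_isQuasiSeparated_of_flat_right H (US := ⊤) (UT := ⊤) (UX := ⊤) (UY := ⊤)
      le_top le_top (by simp) (isAffineOpen_top S) (isAffineOpen_top T) isCompact_univ isQuasiSeparated_univ)
  have e : ∀ {A B : Scheme.{u}} (k : A ⟶ B) (hk : (⊤ : A.Opens) ≤ k ⁻¹ᵁ ⊤),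
      k.appLE ⊤ ⊤ hk = k.appTop := fun k hk => (Scheme.Hom.app_eq_appLE k).symm
  rwa [e, e, e, e] at h

/-- Two ring maps out of a pushout, compared with a tensor product. -/
theorem exists_iso_tensor {R A A' C : Type u} [CommRing R] [CommRing A] [CommRing A'] [CommRing C]
    [Algebra R A] [Algebra R A'] {i : A →+* C} {i' : A' →+* C}
    (h : IsPushout (CommRingCat.ofHom (algebraMap R A)) (CommRingCat.ofHom (algebraMap R A'))
      (CommRingCat.ofHom i) (CommRingCat.ofHom i')) :
    ∃ e : A ⊗[R] A' ≃+* C, (∀ a, e (a ⊗ₜ 1) = i a) ∧ ∀ a, e (1 ⊗ₜ a) = i' a := by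
  let φ := (CommRingCat.isPushout_tensorProduct R A A').isoIsPushout _ _ h
  refine ⟨φ.commRingCatIsoToRingEquiv, fun a => ?_, fun a => ?_⟩
  · exact ConcreteCategory.congr_hom ((CommRingCat.isPushout_tensorProduct R A A').inl_isoIsPushout_hom _ _ h) a
  · exact ConcreteCategory.congr_hom ((CommRingCat.isPushout_tensorProduct R A A').inr_isoIsPushout_hom _ _ h) a

end Groth.Agent.SchDesc
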