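import Mathlib

/-!
# Fpqc covering morphisms
-/

set_option autoImplicit false
set_option linter.style.haveILetI false
universe u
open CategoryTheory CategoryTheory.Limits AlgebraicGeometry

namespace Groth.Agent.SchDesc

/-- Flat surjective morphisms forming a quasi-compact cover. -/
class IsFpqc {X S : Scheme.{u}} (p : X ⟶ S) : Prop where
  flat : Flat p
  surjective : Surjective p
  qcc : QuasiCompactCover (PreZeroHypercover.singleton.{0} p)

attribute [instance] IsFpqc.flat IsFpqc.surjective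

variable {X S : Scheme.{u}} {p : X ⟶ S}

theorem IsFpqc.of_quasiCompact (p : X ⟶ S) [Flat p] [Surjective p] [QuasiCompact p] : IsFpqc p :=
  ⟨‹_›, ‹_›, QuasiCompactCover.singleton p⟩

theorem IsFpqc.of_locallyOfFinitePresentation (p : X ⟶ S) [Flat p] [Surjective p]
    [LocallyOfFinitePresentation p] : IsFpqc p :=
  ⟨‹_›, ‹_›, ⟨fun {U} hU => .of_isOpenMap (fun _ => p.continuous) (fun _ => p.isOpenMap)
    (fun x _ => ⟨⟨⟩, p.surjective x⟩) U.2 hU.isCompact⟩⟩

theorem IsFpqc.of_isPullback {X' S' : Scheme.{u}} {g' : X' ⟶ X} {p' : X' ⟶ S'} {g : S' ⟶ S}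
    (h : IsPullback g' p' p g) [IsFpqc p] : IsFpqc p' := by
  refine ⟨MorphismProperty.of_isPullback h inferInstance,
    MorphismProperty.of_isPullback h inferInstance, ?_⟩
  haveI : QuasiCompactCover (PreZeroHypercover.singleton.{0} p) := IsFpqc.qcc
  exact QuasiCompactCover.of_hom (𝒱 := (PreZeroHypercover.singleton.{0} p).pullback₁ g)
    { s₀ := fun _ => ⟨⟩
      h₀ := fun _ => h.flip.isoPullback.inv
      w₀ := fun _ => h.flip.isoPullback_inv_fst }

instance [IsFpqc p] : EffectiveEpi p := by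
  rw [← Sieve.effectiveEpimorphic_singleton,
    Presieve.EffectiveEpimorphic.iff_forall_isSheafFor_yoneda]
  intro Z
  refine (GrothendieckTopology.Subcanonical.isSheaf_of_isRepresentable
    (J := Scheme.fpqcTopology) _).isSheafFor _ (Precoverage.generate_mem_toGrothendieck ⟨?_, ?_⟩)
  · rw [← PreZeroHypercover.presieve₀_singleton, Scheme.presieve₀_mem_qcPrecoverage_iff]
    exact IsFpqc.qcc
  · rw [← Presieve.ofArrows_pUnit.{0}]
    exact (p.cover (P := @Flat) inferInstance).mem₀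

/-- An affine scheme covering a given affine open. -/
theorem IsFpqc.exists_affine (p : X ⟶ S) [IsFpqc p] {U : S.Opens} (hU : IsAffineOpen U) :
    ∃ (Q : Scheme.{u}) (q : Q ⟶ X) (l : Q ⟶ (U : Scheme.{u})), IsAffine Q ∧ Flat q ∧
      LocallyOfFinitePresentation q ∧ q ≫ p = l ≫ U.ι ∧ Flat l ∧ Surjective l ∧ QuasiCompact l := by
  haveI : QuasiCompactCover (PreZeroHypercover.singleton.{0} p) := IsFpqc.qcc
  obtain ⟨n, idx, V, hV, hcov⟩ :=
    QuasiCompactCover.exists_isAffineOpen_of_isCompact (PreZeroHypercover.singleton.{0} p) hU.isCompact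
  let Y : ULift.{u} (Fin n) → Scheme.{u} := fun k => (V k.down : Scheme.{u})
  haveI : ∀ k, IsAffine (Y k) := fun k => hV k.down
  let q : ∐ Y ⟶ X := Sigma.desc fun k => (V k.down).ι
  haveI : Flat q := IsZariskiLocalAtSource.sigmaDesc fun k => (inferInstance : Flat (V k.down).ι)
  haveI : LocallyOfFinitePresentation q :=
    IsZariskiLocalAtSource.sigmaDesc fun k => (inferInstance : LocallyOfFinitePresentation (V k.down).ι)
  have hrange : Set.range (q ≫ p) = (U : Set S) := by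
    ext s
    constructor
    · rintro ⟨z, rfl⟩
      obtain ⟨k, y, rfl⟩ : ∃ k, ∃ y : Y k, Sigma.ι Y k y = z := by
        obtain ⟨k, y, hy⟩ := (sigmaOpenCover Y).exists_eq z
        exact ⟨k, y, hy⟩
      rw [← hcov, ← Scheme.Hom.comp_apply, ← Category.assoc, Sigma.ι_desc, Scheme.Hom.comp_apply]
      exact Set.mem_iUnion.mpr ⟨k.down, _, y.2, rfl⟩
    · rw [← hcov]
      rintro hs
      obtain ⟨k, z, hz, rfl⟩ := Set.mem_iUnion.mp hs
      refine ⟨Sigma.ι Y ⟨k⟩ ⟨z, hz⟩, ?_⟩
      rw [← Scheme.Hom.comp_apply, ← Category.assoc, Sigma.ι_desc, Scheme.Hom.comp_apply]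
      rfl
  let l : ∐ Y ⟶ (U : Scheme.{u}) := IsOpenImmersion.lift U.ι (q ≫ p) (by rw [hrange, Scheme.Opens.range_ι])
  have hl : l ≫ U.ι = q ≫ p := IsOpenImmersion.lift_fac _ _ _
  haveI : IsAffine (U : Scheme.{u}) := hU
  refine ⟨_, q, l, inferInstance, inferInstance, inferInstance, hl.symm, ?_, ⟨fun u => ?_⟩, inferInstance⟩
  · have hpb : IsPullback (𝟙 (∐ Y)) l (l ≫ U.ι) U.ι :=
      ⟨⟨Category.id_comp _⟩, ⟨PullbackCone.isLimitAux' _ fun c =>
        ⟨c.fst, Category.comp_id _, (cancel_mono U.ι).mp ((Category.assoc _ _ _).trans c.condition),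
          fun hm _ => (Category.comp_id _).symm.trans hm⟩⟩⟩
    exact MorphismProperty.of_isPullback hpb (by rw [hl]; infer_instance)
  · obtain ⟨z, hz⟩ : (u.1 : S) ∈ Set.range (q ≫ p) := hrange ▸ u.2
    refine ⟨z, U.ι.isOpenEmbedding.injective ?_⟩
    rw [← Scheme.Hom.comp_apply, hl]
    exact hz

theorem IsFpqc.isQuotientMap (p : X ⟶ S) [IsFpqc p] : Topology.IsQuotientMap p := by
  refine ⟨⟨TopologicalSpace.ext (funext fun O => propext ⟨fun (hO : IsOpen O) =>
    isOpen_coinduced.mpr (hO.preimage p.continuous), fun hO => ?_⟩)⟩, p.surjective⟩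
  replace hO : IsOpen (p ⁻¹' O) := hO
  show IsOpen O
  rw [isOpen_iff_forall_mem_open]
  intro s hs
  obtain ⟨U, hU, hsU, -⟩ := exists_isAffineOpen_mem_and_subset (U := ⊤)
    (show s ∈ (⊤ : S.Opens) from trivial)
  obtain ⟨Q, q, l, _, _, _, hql, hl, hls, hlq⟩ := IsFpqc.exists_affine p hU
  have h1 : IsOpen (l ⁻¹' (U.ι ⁻¹' O)) := by
    have : l ⁻¹' (U.ι ⁻¹' O) = q ⁻¹' (p ⁻¹' O) := by
      ext z
      simp only [Set.mem_preimage]
      rw [← Scheme.Hom.comp_apply, ← hql, Scheme.Hom.comp_apply]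
    rw [this]; exact hO.preimage q.continuous
  have h2 := ((Flat.isQuotientMap_of_surjective l).isOpen_preimage).mp h1
  exact ⟨U.ι '' (U.ι ⁻¹' O), Set.image_preimage_subset _ _, U.ι.isOpenEmbedding.isOpenMap _ h2,
    ⟨⟨s, hsU⟩, hs, rfl⟩⟩

/-- Isomorphisms descend along fpqc covering morphisms. -/
theorem IsFpqc.isIso_of_isPullback {Y Y' : Scheme.{u}} {g : Y ⟶ S} {g' : Y' ⟶ X} {e : Y' ⟶ Y}
    [IsFpqc p] (h : IsPullback e g' g p) [IsIso g'] : IsIso g := by
  let 𝒰 : S.OpenCover := S.openCoverOfIsOpenCover (fun U : S.affineOpens => (U.1 : S.Opens))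
    (top_le_iff.mp fun s _ => by
      obtain ⟨U, hU, hsU, -⟩ := exists_isAffineOpen_mem_and_subset (U := ⊤)
        (show s ∈ (⊤ : S.Opens) from trivial)
      exact TopologicalSpace.Opens.mem_iSup.mpr ⟨⟨U, hU⟩, hsU⟩)
  refine IsZariskiLocalAtTarget.of_openCover (P := MorphismProperty.isomorphisms Scheme.{u}) 𝒰
    fun (U : S.affineOpens) => ?_
  obtain ⟨Q, q, l, _, _, _, hql, hl, hls, hlq⟩ := IsFpqc.exists_affine p U.2
  show IsIso (pullback.snd g U.1.ι)
  have h2 : IsIso (pullback.snd g' q) :=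
    MorphismProperty.pullback_snd (P := MorphismProperty.isomorphisms Scheme.{u}) _ _ ‹_›
  have h1 := (IsPullback.of_hasPullback g' q).paste_horiz h
  rw [hql] at h1
  let top : pullback g' q ⟶ pullback g U.1.ι :=
    pullback.lift (pullback.fst g' q ≫ e) (pullback.snd g' q ≫ l) (by
      rw [Category.assoc, h.w, pullback.condition_assoc, hql, Category.assoc])
  have ht₁ : top ≫ pullback.fst g U.1.ι = pullback.fst g' q ≫ e := pullback.lift_fst _ _ _
  have ht₂ : top ≫ pullback.snd g U.1.ι = pullback.snd g' q ≫ l := pullback.lift_snd _ _ _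
  have h3 : IsPullback top (pullback.snd g' q) (pullback.snd g U.1.ι) l :=
    IsPullback.of_right (by rw [ht₁]; exact h1) ht₂ (IsPullback.of_hasPullback g U.1.ι)
  exact MorphismProperty.of_isPullback_of_descendsAlong (P := MorphismProperty.isomorphisms Scheme.{u})
    (Q := @Surjective ⊓ @Flat ⊓ @QuasiCompact) h3.flip ⟨⟨hls, hl⟩, hlq⟩ h2

end Groth.Agent.SchDesc
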