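import Groth.Prelude.Def_DescFam
import Groth.Agent.SchDesc.Cover

/-!
# From families to single morphisms
-/

set_option autoImplicit false
set_option linter.style.haveILetI false
universe u
open CategoryTheory CategoryTheory.Limits AlgebraicGeometry

namespace Groth.Agent.SchDesc

variable {S : Scheme.{u}} {ι : Type u} {X : ι → Scheme.{u}} {f : ∀ i, X i ⟶ S}

theorem hom_ext_of_isEmpty {A B : Scheme.{u}} [IsEmpty A] (a b : A ⟶ B) : a = b :=
  isInitialOfIsEmpty.hom_ext a b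

theorem isEmpty_or_eq {V : ι → Scheme.{u}} {T : Scheme.{u}} {i j : ι} (a : T ⟶ V i) (b : T ⟶ V j)
    (h : a ≫ Sigma.ι V i = b ≫ Sigma.ι V j) : IsEmpty T ∨ i = j := by
  by_cases hij : i = j
  · exact .inr hij
  · exact .inl (isEmpty_of_commSq_sigmaι_of_ne ⟨h⟩ hij)

theorem isFpqc_sigmaDesc (hf : Presieve.ofArrows X f ∈ Scheme.fpqcPrecoverage S) :
    IsFpqc (Sigma.desc f) := by
  obtain ⟨h₁, h₂⟩ := hf
  have h₂' := Scheme.presieve₀_mem_precoverage_iff (P := @Flat)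
    (E := ({ I₀ := ι, X := X, f := f } : PreZeroHypercover.{u} S)) |>.mp h₂
  haveI : QuasiCompactCover ({ I₀ := ι, X := X, f := f } : PreZeroHypercover.{u} S) :=
    Scheme.presieve₀_mem_qcPrecoverage_iff.mp h₁
  refine ⟨IsZariskiLocalAtSource.sigmaDesc fun i => h₂'.2 i, ⟨fun s => ?_⟩, ?_⟩
  · obtain ⟨i, y, hy⟩ := h₂'.1 s
    exact ⟨Sigma.ι X i y, by rw [← Scheme.Hom.comp_apply, Sigma.ι_desc]; exact hy⟩
  · exact QuasiCompactCover.of_hom (𝒱 := ({ I₀ := ι, X := X, f := f } : PreZeroHypercover.{u} S))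
      { s₀ := fun _ => ⟨⟩
        h₀ := fun i => Sigma.ι X i
        w₀ := fun i => Sigma.ι_desc f i }

variable (D : _root_.Desc.SchDDFam f)

/-- The underlying schemes. -/
abbrev famV (i : ι) : Scheme.{u} := (D.obj i).left

/-- The coproduct of the structure maps. -/
noncomputable abbrev famHom : ∐ famV D ⟶ ∐ X := Limits.Sigma.map fun i => (D.obj i).hom

theorem ι_famHom (i : ι) : Sigma.ι (famV D) i ≫ famHom D = (D.obj i).hom ≫ Sigma.ι X i := Limits.Sigma.ι_map (fun i => (D.obj i).hom) i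

theorem isPullback_famHom (i : ι) :
    IsPullback (Sigma.ι (famV D) i) (D.obj i).hom (famHom D) (Sigma.ι X i) := by
  refine IsPullback.flip (IsOpenImmersion.isPullback _ _ _ _ (ι_famHom D i) ?_)
  refine TopologicalSpace.Opens.ext (Set.ext fun v => ⟨?_, ?_⟩)
  · rintro ⟨w, hw⟩
    obtain ⟨⟨j, v'⟩, rfl⟩ := (sigmaMk (famV D)).surjective v
    rw [sigmaMk_mk, ← Scheme.Hom.comp_apply, ι_famHom, Scheme.Hom.comp_apply] at hw
    obtain ⟨rfl, -⟩ := Sigma.mk.inj ((sigmaι_eq_iff _ _ _ _ _).mp hw)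
    exact ⟨v', (sigmaMk_mk _ _ _).symm⟩
  · rintro ⟨w, rfl⟩
    exact ⟨(D.obj i).hom w, by rw [← Scheme.Hom.comp_apply, ← ι_famHom]; rfl⟩

/-- The relation given by the gluing bijections of the components. -/
def Rel {T : Scheme.{u}} (x₀ x₁ : T ⟶ ∐ X) (v w : T ⟶ ∐ famV D) : Prop :=
  ∀ ⦃R : Scheme.{u}⦄ (g : R ⟶ T) ⦃i j : ι⦄ (a : R ⟶ X i) (b : R ⟶ X j), g ≫ x₀ = a ≫ Sigma.ι X i →
    g ≫ x₁ = b ≫ Sigma.ι X j → ∀ (h : a ≫ f i = b ≫ f j) (va : _root_.Desc.Lifts (D.obj i) a),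
      va.1 ≫ Sigma.ι (famV D) i = g ≫ v → (D.φ a b h va).1 ≫ Sigma.ι (famV D) j = g ≫ w

/-- The open on which a point lies in a given component. -/
noncomputable def piece {T : Scheme.{u}} (x₀ x₁ : T ⟶ ∐ X) (k : ι × ι) : T.Opens :=
  x₀ ⁻¹ᵁ (Sigma.ι X k.1).opensRange ⊓ x₁ ⁻¹ᵁ (Sigma.ι X k.2).opensRange

/-- The cover of a scheme by pieces. -/
noncomputable def pieceCover {T : Scheme.{u}} (x₀ x₁ : T ⟶ ∐ X) : T.OpenCover :=
  T.openCoverOfIsOpenCover (piece x₀ x₁) (top_le_iff.mp fun t _ => by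
    obtain ⟨⟨i, a⟩, ha⟩ := (sigmaMk X).surjective (x₀ t)
    obtain ⟨⟨j, b⟩, hb⟩ := (sigmaMk X).surjective (x₁ t)
    exact TopologicalSpace.Opens.mem_iSup.mpr
      ⟨(i, j), ⟨a, (sigmaMk_mk _ _ _).symm.trans ha⟩, ⟨b, (sigmaMk_mk _ _ _).symm.trans hb⟩⟩)

theorem exists_piece {T : Scheme.{u}} (x₀ x₁ : T ⟶ ∐ X) (k : ι × ι) :
    ∃ (a : (piece x₀ x₁ k : Scheme.{u}) ⟶ X k.1) (b : (piece x₀ x₁ k : Scheme.{u}) ⟶ X k.2),
      (piece x₀ x₁ k).ι ≫ x₀ = a ≫ Sigma.ι X k.1 ∧ (piece x₀ x₁ k).ι ≫ x₁ = b ≫ Sigma.ι X k.2 :=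
  ⟨IsOpenImmersion.lift (Sigma.ι X k.1) _ (by rintro _ ⟨t, rfl⟩; exact t.2.1),
    IsOpenImmersion.lift (Sigma.ι X k.2) _ (by rintro _ ⟨t, rfl⟩; exact t.2.2),
    (IsOpenImmersion.lift_fac _ _ _).symm, (IsOpenImmersion.lift_fac _ _ _).symm⟩

theorem cond {T R : Scheme.{u}} {x₀ x₁ : T ⟶ ∐ X} (h : x₀ ≫ Sigma.desc f = x₁ ≫ Sigma.desc f)
    {g : R ⟶ T} {i j : ι} {a : R ⟶ X i} {b : R ⟶ X j} (ha : g ≫ x₀ = a ≫ Sigma.ι X i)
    (hb : g ≫ x₁ = b ≫ Sigma.ι X j) : a ≫ f i = b ≫ f j := by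
  rw [← Sigma.ι_desc f i, ← Sigma.ι_desc f j, ← reassoc_of% ha, ← reassoc_of% hb, h]

theorem exists_component {T R : Scheme.{u}} {x : T ⟶ ∐ X} {v : T ⟶ ∐ famV D} (hv : v ≫ famHom D = x)
    {g : R ⟶ T} {i : ι} {a : R ⟶ X i} (ha : g ≫ x = a ≫ Sigma.ι X i) :
    ∃ va : _root_.Desc.Lifts (D.obj i) a, va.1 ≫ Sigma.ι (famV D) i = g ≫ v :=
  ⟨⟨(isPullback_famHom D i).lift (g ≫ v) a (by rw [Category.assoc, hv, ha]),
    (isPullback_famHom D i).lift_snd _ _ _⟩, (isPullback_famHom D i).lift_fst _ _ _⟩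

theorem Rel.unique {T : Scheme.{u}} {x₀ x₁ : T ⟶ ∐ X} (h : x₀ ≫ Sigma.desc f = x₁ ≫ Sigma.desc f)
    {v w w' : T ⟶ ∐ famV D} (hv : v ≫ famHom D = x₀) (hw : Rel D x₀ x₁ v w) (hw' : Rel D x₀ x₁ v w') :
    w = w' := by
  refine (pieceCover x₀ x₁).hom_ext _ _ fun (k : ι × ι) => ?_
  show (piece x₀ x₁ k).ι ≫ w = (piece x₀ x₁ k).ι ≫ w'
  obtain ⟨a, b, ha, hb⟩ := exists_piece x₀ x₁ k
  obtain ⟨va, hva⟩ := exists_component D hv ha
  exact (hw _ a b ha hb (cond h ha hb) va hva).symm.trans (hw' _ a b ha hb (cond h ha hb) va hva)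

theorem Rel.exists_lift {T : Scheme.{u}} {x₀ x₁ : T ⟶ ∐ X} (h : x₀ ≫ Sigma.desc f = x₁ ≫ Sigma.desc f)
    (v : T ⟶ ∐ famV D) (hv : v ≫ famHom D = x₀) :
    ∃ w : T ⟶ ∐ famV D, w ≫ famHom D = x₁ ∧ Rel D x₀ x₁ v w := by
  choose a b ha hb using exists_piece x₀ x₁
  choose va hva using fun k => exists_component D hv (ha k)
  let w₀ : ∀ k : ι × ι, (piece x₀ x₁ k : Scheme.{u}) ⟶ ∐ famV D := fun k =>
    (D.φ (a k) (b k) (cond h (ha k) (hb k)) (va k)).1 ≫ Sigma.ι (famV D) k.2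
  -- agreement with any local datum
  have key : ∀ (k : ι × ι) {R : Scheme.{u}} (r : R ⟶ (piece x₀ x₁ k : Scheme.{u})) (g : R ⟶ T)
      (_ : r ≫ (piece x₀ x₁ k).ι = g) {i j : ι} (a' : R ⟶ X i) (b' : R ⟶ X j)
      (_ : g ≫ x₀ = a' ≫ Sigma.ι X i) (_ : g ≫ x₁ = b' ≫ Sigma.ι X j) (h' : a' ≫ f i = b' ≫ f j)
      (va' : _root_.Desc.Lifts (D.obj i) a'),
      va'.1 ≫ Sigma.ι (famV D) i = g ≫ v → r ≫ w₀ k = (D.φ a' b' h' va').1 ≫ Sigma.ι (famV D) j := by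
    intro k R r g hg i j a' b' ha' hb' h' va' hva'
    have e₀ : (r ≫ a k) ≫ Sigma.ι X k.1 = a' ≫ Sigma.ι X i := by
      rw [Category.assoc, ← ha, reassoc_of% hg, ha']
    have e₁ : (r ≫ b k) ≫ Sigma.ι X k.2 = b' ≫ Sigma.ι X j := by
      rw [Category.assoc, ← hb, reassoc_of% hg, hb']
    rcases isEmpty_or_eq _ _ e₀ with hR | rfl
    · exact hom_ext_of_isEmpty _ _
    rcases isEmpty_or_eq _ _ e₁ with hR | rfl
    · exact hom_ext_of_isEmpty _ _
    have e₂ : va'.1 = r ≫ (va k).1 := by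
      rw [← cancel_mono (Sigma.ι (famV D) k.1), hva', Category.assoc, hva, reassoc_of% hg]
    show r ≫ _ ≫ _ = _
    rw [← Category.assoc]
    congr 1
    exact (D.φ_natural r (a k) (b k) _ a' b' ((cancel_mono _).mp e₀) ((cancel_mono _).mp e₁) h'
      (va k) va' e₂).symm
  let 𝒰 := pieceCover x₀ x₁
  have hcompat : ∀ k l : ι × ι, pullback.fst (𝒰.f k) (𝒰.f l) ≫ w₀ k = pullback.snd (𝒰.f k) (𝒰.f l) ≫ w₀ l := by
    intro k l
    let r' : _ ⟶ (piece x₀ x₁ l : Scheme.{u}) := pullback.snd (𝒰.f k) (𝒰.f l)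
    show _ = r' ≫ _ ≫ _
    rw [← Category.assoc]
    refine (key k _ _ pullback.condition (r' ≫ a l) (r' ≫ b l) ?_ ?_
      (by rw [Category.assoc, Category.assoc, cond h (ha l) (hb l)])
      ⟨r' ≫ (va l).1, by rw [Category.assoc, (va l).2]⟩ ?_).trans ?_
    · show (r' ≫ (piece x₀ x₁ l).ι) ≫ x₀ = _
      rw [Category.assoc, ha, Category.assoc]; rfl
    · show (r' ≫ (piece x₀ x₁ l).ι) ≫ x₁ = _
      rw [Category.assoc, hb, Category.assoc]; rfl
    · show _ = (r' ≫ (piece x₀ x₁ l).ι) ≫ v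
      rw [Category.assoc, hva, Category.assoc]; rfl
    · congr 1
      exact D.φ_natural r' (a l) (b l) _ _ _ rfl rfl _ (va l) _ rfl
  refine ⟨𝒰.glueMorphisms w₀ hcompat, 𝒰.hom_ext _ _ fun k => ?_, ?_⟩
  · rw [Scheme.Cover.ι_glueMorphisms_assoc]
    show (_ ≫ _) ≫ famHom D = (piece x₀ x₁ k).ι ≫ x₁
    rw [Category.assoc, ι_famHom, reassoc_of% (D.φ _ _ _ (va k)).2, hb]
  · intro R g i j a' b' ha' hb' h' va' hva'
    refine Scheme.Cover.hom_ext (𝒰.pullback₁ g) _ _ fun (k : ι × ι) => ?_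
    show pullback.fst g (𝒰.f k) ≫ _ = pullback.fst g (𝒰.f k) ≫ g ≫ _
    rw [pullback.condition_assoc, Scheme.Cover.ι_glueMorphisms, ← Category.assoc]
    refine Eq.trans ?_ (key k (pullback.snd g (𝒰.f k)) (pullback.fst g (𝒰.f k) ≫ g) pullback.condition.symm
      (pullback.fst g (𝒰.f k) ≫ a') (pullback.fst g (𝒰.f k) ≫ b')
      (by simp only [Category.assoc, ha']) (by simp only [Category.assoc, hb'])
      (by simp only [Category.assoc, h'])
      ⟨pullback.fst g (𝒰.f k) ≫ va'.1, by rw [Category.assoc, va'.2]⟩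
      (by simp only [Category.assoc, hva'])).symm
    congr 1
    exact (D.φ_natural _ a' b' h' _ _ rfl rfl _ va' _ rfl).symm

/-- The gluing map of the combined datum. -/
noncomputable def sigmaMap {T : Scheme.{u}} {x₀ x₁ : T ⟶ ∐ X}
    (h : x₀ ≫ Sigma.desc f = x₁ ≫ Sigma.desc f) (v : _root_.Desc.Lifts (Over.mk (famHom D)) x₀) :
    _root_.Desc.Lifts (Over.mk (famHom D)) x₁ :=
  ⟨(Rel.exists_lift D h v.1 v.2).choose, (Rel.exists_lift D h v.1 v.2).choose_spec.1⟩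

theorem rel_sigmaMap {T : Scheme.{u}} {x₀ x₁ : T ⟶ ∐ X} (h : x₀ ≫ Sigma.desc f = x₁ ≫ Sigma.desc f)
    (v : _root_.Desc.Lifts (Over.mk (famHom D)) x₀) : Rel D x₀ x₁ v.1 (sigmaMap D h v).1 :=
  (Rel.exists_lift D h v.1 v.2).choose_spec.2

theorem eq_sigmaMap {T : Scheme.{u}} {x₀ x₁ : T ⟶ ∐ X} (h : x₀ ≫ Sigma.desc f = x₁ ≫ Sigma.desc f)
    (v : _root_.Desc.Lifts (Over.mk (famHom D)) x₀) {w : T ⟶ ∐ famV D} (hw : Rel D x₀ x₁ v.1 w) :
    (sigmaMap D h v).1 = w :=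
  Rel.unique D h v.2 (rel_sigmaMap D h v) hw

theorem sigmaMap_self {T : Scheme.{u}} {x : T ⟶ ∐ X} (v : _root_.Desc.Lifts (Over.mk (famHom D)) x) :
    sigmaMap D rfl v = v := by
  refine Subtype.ext (eq_sigmaMap D rfl v fun R g i j a b ha hb h va hva => ?_)
  rcases isEmpty_or_eq _ _ (ha.symm.trans hb) with hR | rfl
  · exact hom_ext_of_isEmpty _ _
  · obtain rfl : a = b := (cancel_mono _).mp (ha.symm.trans hb)
    rw [D.φ_self]
    exact hva

theorem sigmaMap_comp {T : Scheme.{u}} {x₀ x₁ x₂ : T ⟶ ∐ X}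
    (h₀₁ : x₀ ≫ Sigma.desc f = x₁ ≫ Sigma.desc f) (h₁₂ : x₁ ≫ Sigma.desc f = x₂ ≫ Sigma.desc f)
    (v : _root_.Desc.Lifts (Over.mk (famHom D)) x₀) :
    sigmaMap D h₁₂ (sigmaMap D h₀₁ v) = sigmaMap D (h₀₁.trans h₁₂) v := by
  refine Subtype.ext (eq_sigmaMap D _ v fun R g i j a c ha hc h va hva => ?_).symm
  refine (pieceCover (g ≫ x₁) (g ≫ x₁)).hom_ext _ _ fun (k : ι × ι) => ?_
  show (piece (g ≫ x₁) (g ≫ x₁) k).ι ≫ _ = (piece (g ≫ x₁) (g ≫ x₁) k).ι ≫ _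
  obtain ⟨b, -, hb, -⟩ := exists_piece (g ≫ x₁) (g ≫ x₁) k
  let o := (piece (g ≫ x₁) (g ≫ x₁) k).ι
  change o ≫ g ≫ x₁ = b ≫ _ at hb
  show o ≫ _ = o ≫ _
  have ha' : (o ≫ g) ≫ x₀ = (o ≫ a) ≫ Sigma.ι X i := by simp only [Category.assoc, ha]
  have hb' : (o ≫ g) ≫ x₁ = b ≫ Sigma.ι X k.1 := by rw [Category.assoc]; exact hb
  have hc' : (o ≫ g) ≫ x₂ = (o ≫ c) ≫ Sigma.ι X j := by simp only [Category.assoc, hc]
  let va' : _root_.Desc.Lifts (D.obj i) (o ≫ a) := ⟨o ≫ va.1, by rw [Category.assoc, va.2]⟩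
  have h1 := rel_sigmaMap D h₀₁ v (o ≫ g) (o ≫ a) b ha' hb' (cond h₀₁ ha' hb') va'
    (by simp only [va', Category.assoc, hva])
  have h2 := rel_sigmaMap D h₁₂ (sigmaMap D h₀₁ v) (o ≫ g) b (o ≫ c) hb' hc' (cond h₁₂ hb' hc') _ h1
  rw [D.φ_comp] at h2
  rw [← Category.assoc o g, ← h2, ← Category.assoc]
  congr 1
  exact (D.φ_natural o a c h _ _ rfl rfl _ va va' rfl).symm

/-- The descent datum relative to the disjoint union. -/
noncomputable def sigmaDD : _root_.Desc.SchDD (Sigma.desc f) where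
  obj := Over.mk (famHom D)
  φ T x₀ x₁ h :=
    { toFun := sigmaMap D h
      invFun := sigmaMap D h.symm
      left_inv := fun v => by rw [sigmaMap_comp, sigmaMap_self]
      right_inv := fun v => by rw [sigmaMap_comp, sigmaMap_self] }
  φ_natural T T' g x₀ x₁ h h' v v' hv' := by
    refine eq_sigmaMap D h' v' fun R r i j a b ha hb hab va hva => ?_
    rw [← Category.assoc]
    exact rel_sigmaMap D h v (r ≫ g) a b (by rw [Category.assoc, ha]) (by rw [Category.assoc, hb]) hab va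
      (by rw [hva, hv', Category.assoc])
  φ_self T x v := sigmaMap_self D v
  φ_comp T x₀ x₁ x₂ h₀₁ h₁₂ v := sigmaMap_comp D h₀₁ h₁₂ v

theorem isEffective_of_sigmaDD
    (h : ∃ U : Over S, Nonempty ((_root_.Desc.toDD (Sigma.desc f)).obj U ≅ sigmaDD D)) : D.IsEffective := by
  obtain ⟨U, ⟨e⟩⟩ := h
  let F : pullback (Sigma.desc f) U.hom ⟶ ∐ famV D := e.hom.hom.left
  have hF : F ≫ famHom D = pullback.fst _ _ := Over.w e.hom.hom
  haveI : IsIso F :=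
    ⟨e.inv.hom.left, congrArg (fun f => f.hom.left) e.hom_inv_id, congrArg (fun f => f.hom.left) e.inv_hom_id⟩
  let m : ∀ i, pullback (f i) U.hom ⟶ pullback (Sigma.desc f) U.hom := fun i =>
    pullback.lift (pullback.fst _ _ ≫ Sigma.ι X i) (pullback.snd _ _) (by
      rw [Category.assoc, Sigma.ι_desc]; exact pullback.condition)
  have hm : ∀ i, IsPullback (m i) (pullback.fst (f i) U.hom) (pullback.fst (Sigma.desc f) U.hom) (Sigma.ι X i) := by
    intro i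
    refine IsPullback.of_right ?_ (pullback.lift_fst _ _ _) (IsPullback.of_hasPullback (Sigma.desc f) U.hom).flip
    rw [Sigma.ι_desc, pullback.lift_snd]
    exact (IsPullback.of_hasPullback (f i) U.hom).flip
  let a : ∀ i, pullback (f i) U.hom ⟶ famV D i := fun i =>
    (isPullback_famHom D i).lift (m i ≫ F) (pullback.fst _ _) (by
      rw [Category.assoc, hF]; exact pullback.lift_fst _ _ _)
  have ha₁ : ∀ i, a i ≫ Sigma.ι (famV D) i = m i ≫ F := fun i => IsPullback.lift_fst _ _ _ _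
  have ha₂ : ∀ i, a i ≫ (D.obj i).hom = pullback.fst _ _ := fun i => IsPullback.lift_snd _ _ _ _
  have hiso : ∀ i, IsIso (a i) := fun i => by
    have e' : IsPullback (m i ≫ F) (pullback.fst (f i) U.hom) (famHom D) (Sigma.ι X i) :=
      (hm i).of_iso (Iso.refl _) (asIso F) (Iso.refl _) (Iso.refl _) (by simp) (by simp)
        (by simp [hF]) (by simp)
    rw [show a i = (e'.isoIsPullback _ _ (isPullback_famHom D i)).hom from
      (isPullback_famHom D i).hom_ext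
        ((ha₁ i).trans (IsPullback.isoIsPullback_hom_fst _ _ _ _).symm)
        ((ha₂ i).trans (IsPullback.isoIsPullback_hom_snd _ _ _ _).symm)]
    infer_instance
  let A : (_root_.Desc.toDDFam f).obj U ⟶ D :=
    ⟨fun i => Over.homMk (a i) (ha₂ i), fun T i j x₀ x₁ h v w hw => by
      change w.1 = v.1 ≫ a i at hw
      show (D.φ x₀ x₁ h w).1 = (_root_.Desc.canMapFam f U x₀ x₁ h v).1 ≫ a j
      rw [← cancel_mono (Sigma.ι (famV D) j)]
      have h' : (x₀ ≫ Sigma.ι X i) ≫ Sigma.desc f = (x₁ ≫ Sigma.ι X j) ≫ Sigma.desc f := by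
        simpa only [Category.assoc, Sigma.ι_desc] using h
      let v' : _root_.Desc.Lifts ((_root_.Desc.toDD (Sigma.desc f)).obj U).obj (x₀ ≫ Sigma.ι X i) :=
        ⟨v.1 ≫ m i, by
          show (v.1 ≫ m i) ≫ pullback.fst _ _ = _
          exact ((Category.assoc _ _ _).trans (congrArg (v.1 ≫ ·) (pullback.lift_fst _ _ _))).trans
            ((Category.assoc _ _ _).symm.trans (congrArg (· ≫ Sigma.ι X i) v.2))⟩
      let w' : _root_.Desc.Lifts (sigmaDD D).obj (x₀ ≫ Sigma.ι X i) :=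
        ⟨v'.1 ≫ F, by
          show (v'.1 ≫ F) ≫ famHom D = _
          exact ((Category.assoc _ _ _).trans (congrArg (v'.1 ≫ ·) hF)).trans v'.2⟩
      have h1 : (sigmaMap D h' w').1 =
          (_root_.Desc.canMap (Sigma.desc f) U (x₀ ≫ Sigma.ι X i) (x₁ ≫ Sigma.ι X j) h' v').1 ≫ F :=
        e.hom.comm _ _ h' v' w' rfl
      have h2 : (D.φ x₀ x₁ h w).1 ≫ Sigma.ι (famV D) j = (sigmaMap D h' w').1 :=
        (rel_sigmaMap D h' w' (𝟙 T) x₀ x₁ (Category.id_comp _) (Category.id_comp _) h w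
          (by rw [Category.id_comp, hw]; show (v.1 ≫ a i) ≫ _ = (v.1 ≫ m i) ≫ F
              exact ((Category.assoc _ _ _).trans (congrArg (v.1 ≫ ·) (ha₁ i))).trans (Category.assoc _ _ _).symm)).trans (Category.id_comp _)
      rw [h2, h1, Category.assoc, ha₁, ← Category.assoc]
      congr 1
      apply pullback.hom_ext
      · refine (pullback.lift_fst _ _ _).trans ?_
        rw [Category.assoc, pullback.lift_fst, ← Category.assoc]
        exact congrArg (· ≫ Sigma.ι X j) (pullback.lift_fst _ _ _).symm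
      · refine (pullback.lift_snd _ _ _).trans ?_
        rw [Category.assoc, pullback.lift_snd]
        refine Eq.trans ?_ (pullback.lift_snd _ _ _).symm
        exact (Category.assoc _ _ _).trans (congrArg (v.1 ≫ ·) (pullback.lift_snd _ _ _))⟩
  choose b hb₁ hb₂ using fun i => (hiso i).out
  let B : D ⟶ (_root_.Desc.toDDFam f).obj U :=
    ⟨fun i => Over.homMk (b i) (by
        show b i ≫ pullback.fst (f i) U.hom = _
        rw [← ha₂ i, ← Category.assoc, hb₂, Category.id_comp]),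
      fun T i j x₀ x₁ h w v hv => by
        have h1 := A.comm x₀ x₁ h v w
          (((congrArg (w.1 ≫ ·) (hb₂ i)).trans (Category.comp_id _)).symm.trans
            ((Category.assoc _ _ _).symm.trans (congrArg (· ≫ a i) hv.symm)))
        exact (((Category.assoc _ _ _).trans ((congrArg (_ ≫ ·) (hb₁ j)).trans (Category.comp_id _))).symm.trans
          (congrArg (· ≫ b j) h1.symm))⟩
  exact ⟨U, ⟨⟨A, B, _root_.Desc.SchDDFam.hom_ext (funext fun i => Over.OverMorphism.ext (hb₁ i)),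
    _root_.Desc.SchDDFam.hom_ext (funext fun i => Over.OverMorphism.ext (hb₂ i))⟩⟩⟩

end Groth.Agent.SchDesc
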