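import Groth.Agent.SchDesc.Effective
import Groth.Agent.SchDesc.QAffAlg

/-!
# Quasi-affine descent data over affine schemes are effective
-/

set_option autoImplicit false
set_option linter.style.haveILetI false
set_option linter.unusedVariables false
universe u
open CategoryTheory CategoryTheory.Limits AlgebraicGeometry
open scoped TensorProduct

namespace Groth.Agent.SchDesc

theorem tmul_eq_mul {R A A' : Type u} [CommRing R] [CommRing A] [CommRing A'] [Algebra R A] [Algebra R A']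
    (x : A) (z : A') : x ⊗ₜ[R] z = (x ⊗ₜ 1) * (1 ⊗ₜ z) := by
  rw [Algebra.TensorProduct.tmul_mul_tmul, mul_one, one_mul]

theorem appTop_apply {X Y Z : Scheme.{u}} (f : X ⟶ Y) (g : Y ⟶ Z) (x : Γ(Z, ⊤)) :
    f.appTop.hom (g.appTop.hom x) = (f ≫ g).appTop.hom x := by
  rw [Scheme.Hom.comp_appTop]; rfl

section

variable {R : Type u} [CommRing R]

/-- The contraction of a coaction by a section. -/
theorem lift_of_section {R' B C : Type u} [CommRing R'] [CommRing B] [CommRing C] [Algebra R R']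
    [Algebra R B] [Algebra R' B] [IsScalarTower R R' B] (e : B ⊗[R] R' ≃+* C) (σ : C →+* B)
    (i₁ : B →+* C) (i₂ : R' →+* C) (h₁ : ∀ b, e (b ⊗ₜ 1) = i₁ b) (h₂ : ∀ r, e (1 ⊗ₜ r) = i₂ r)
    (hσ₁ : ∀ b, σ (i₁ b) = b) (hσ₂ : ∀ r, σ (i₂ r) = algebraMap R' B r) (t : B ⊗[R] R') :
    σ (e t) = Algebra.TensorProduct.lift (AlgHom.id R B) (IsScalarTower.toAlgHom R R' B)
      (fun _ _ => Commute.all _ _) t := by
  induction t using TensorProduct.induction_on with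
  | zero => simp only [map_zero]
  | tmul x z =>
    rw [tmul_eq_mul, map_mul, map_mul, map_mul, h₁, h₂, hσ₁, hσ₂, Algebra.TensorProduct.lift_tmul,
      Algebra.TensorProduct.lift_tmul]
    simp
  | add x y hx hy => simp only [map_add, hx, hy]

/-- The two maps to a triple tensor product, computed by sections. -/
theorem map_of_sections {R' B C C₃ : Type u} [CommRing R'] [CommRing B] [CommRing C] [CommRing C₃]
    [Algebra R R'] [Algebra R B] [Algebra R C] (e : B ⊗[R] R' ≃ₐ[R] C) (k : C ⊗[R] R' ≃+* C₃)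
    (i₁ : B →+* C) (i₂ : R' →+* C) (h₁ : ∀ b, e (b ⊗ₜ 1) = i₁ b) (h₂ : ∀ r, e (1 ⊗ₜ r) = i₂ r)
    (g₁ : C →+* C₃) (g₂ : R' →+* C₃) (k₁ : ∀ c, k (c ⊗ₜ 1) = g₁ c) (k₂ : ∀ r, k (1 ⊗ₜ r) = g₂ r)
    (f : B →ₐ[R] B ⊗[R] R') (Φ : C →+* C₃) (hΦ₁ : ∀ b, Φ (i₁ b) = g₁ (e (f b)))
    (hΦ₂ : ∀ r, Φ (i₂ r) = g₂ r) (t : B ⊗[R] R') :
    k (Algebra.TensorProduct.congr e AlgEquiv.refl (Algebra.TensorProduct.map f (AlgHom.id R R') t)) =
      Φ (e t) := by
  induction t using TensorProduct.induction_on with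
  | zero => simp only [map_zero]
  | tmul x z =>
    rw [Algebra.TensorProduct.map_tmul]
    show k (e (f x) ⊗ₜ z) = _
    rw [tmul_eq_mul, map_mul, k₁, k₂, tmul_eq_mul x z, map_mul, map_mul, h₁, h₂, hΦ₁, hΦ₂]
  | add x y hx hy => simp only [map_add, hx, hy]

end

/-- Descent of an algebra along a flat ring map, in categorical form. -/
theorem exists_invariants {R R' B C C₃ : CommRingCat.{u}} (p : R ⟶ R') (hp : p.hom.Flat) (h : R' ⟶ B)
    (f₁ : B ⟶ C) (f₂ : R' ⟶ C) (H2 : IsPushout (p ≫ h) p f₁ f₂)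
    (g₁ : C ⟶ C₃) (g₂ : R' ⟶ C₃) (H3 : IsPushout (p ≫ h ≫ f₁) p g₁ g₂)
    (a : B ⟶ C) (hah : h ≫ a = f₂) (σ : C ⟶ B) (hσ₁ : f₁ ≫ σ = 𝟙 B) (hσ₂ : f₂ ≫ σ = h) (hσa : a ≫ σ = 𝟙 B)
    (Φ₁ Φ₂ : C ⟶ C₃) (h₁₁ : f₁ ≫ Φ₁ = a ≫ g₁) (h₁₂ : f₂ ≫ Φ₁ = g₂) (h₂₁ : f₁ ≫ Φ₂ = f₁ ≫ g₁)
    (h₂₂ : f₂ ≫ Φ₂ = g₂) (key : a ≫ Φ₁ = a ≫ Φ₂) :
    ∃ (B₀ : CommRingCat.{u}) (str : R ⟶ B₀) (v : B₀ ⟶ B), IsPushout str p v h ∧ v ≫ a = v ≫ f₁ := by
  letI : Algebra R R' := p.hom.toAlgebra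
  letI : Algebra R B := (p ≫ h).hom.toAlgebra
  letI : Algebra R' B := h.hom.toAlgebra
  letI : Algebra R C := (p ≫ h ≫ f₁).hom.toAlgebra
  haveI : IsScalarTower R R' B := IsScalarTower.of_algebraMap_eq fun r => rfl
  haveI : Module.Flat R R' := hp
  obtain ⟨e₀, he₁, he₂⟩ := exists_iso_tensor (R := R) (A := B) (A' := R') (i := f₁.hom) (i' := f₂.hom) H2
  obtain ⟨e₃, h31, h32⟩ := exists_iso_tensor (R := R) (A := C) (A' := R') (i := g₁.hom) (i' := g₂.hom) H3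
  let e : B ⊗[R] R' ≃ₐ[R] C := AlgEquiv.ofRingEquiv (f := e₀) fun r => he₁ _
  let aA : B →ₐ[R] C :=
    { toRingHom := a.hom
      commutes' := fun r => ConcreteCategory.congr_hom ((congrArg (p ≫ ·) hah).trans H2.w.symm |>.trans
        (Category.assoc _ _ _)) r }
  let θ : B →ₐ[R] B ⊗[R] R' := e.symm.toAlgHom.comp aA
  have hθ : ∀ b, e (θ b) = a.hom b := fun b => e.apply_symm_apply _
  have ha : ∀ r : R', θ (algebraMap R' B r) = 1 ⊗ₜ r := fun r => by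
    apply e.injective
    rw [hθ]
    exact (ConcreteCategory.congr_hom hah r).trans (he₂ r).symm
  have hb : ∀ b, Algebra.TensorProduct.lift (AlgHom.id R B)
      (IsScalarTower.toAlgHom R R' B) (fun _ _ => Commute.all _ _) (θ b) = b := fun b => by
    rw [← lift_of_section e₀ σ.hom f₁.hom f₂.hom he₁ he₂
      (fun b => ConcreteCategory.congr_hom hσ₁ b) (fun r => ConcreteCategory.congr_hom hσ₂ r)]
    exact (congrArg σ.hom (hθ b)).trans (ConcreteCategory.congr_hom hσa b)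
  have hc : ∀ b, Algebra.TensorProduct.map θ (AlgHom.id R R') (θ b) =
      Algebra.TensorProduct.map (Algebra.TensorProduct.includeLeft : B →ₐ[R] B ⊗[R] R') (AlgHom.id R R') (θ b) :=
    fun b => by
    apply (Algebra.TensorProduct.congr e AlgEquiv.refl).injective
    apply e₃.injective
    rw [map_of_sections e e₃ f₁.hom f₂.hom he₁ he₂ g₁.hom g₂.hom h31 h32 θ
        Φ₁.hom (fun b => (ConcreteCategory.congr_hom h₁₁ b).trans (congrArg g₁.hom (hθ b)).symm)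
        (fun r => ConcreteCategory.congr_hom h₁₂ r),
      map_of_sections e e₃ f₁.hom f₂.hom he₁ he₂ g₁.hom g₂.hom h31 h32 _
        Φ₂.hom (fun b => (ConcreteCategory.congr_hom h₂₁ b).trans (congrArg g₁.hom (he₁ b)).symm)
        (fun r => ConcreteCategory.congr_hom h₂₂ r), hθ]
    exact ConcreteCategory.congr_hom key b
  have hbij := bijective_mul_equalizer θ ha hb hc
  let B₀ := AlgHom.equalizer θ (Algebra.TensorProduct.includeLeft : B →ₐ[R] B ⊗[R] R')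
  let μ : B₀ ⊗[R] R' →ₐ[R] B :=
    Algebra.TensorProduct.lift B₀.val (IsScalarTower.toAlgHom R R' B) (fun _ _ => Commute.all _ _)
  refine ⟨CommRingCat.of B₀, CommRingCat.ofHom (algebraMap R B₀), CommRingCat.ofHom B₀.val.toRingHom,
    (CommRingCat.isPushout_tensorProduct R B₀ R').of_iso (.refl _) (.refl _) (.refl _)
      (RingEquiv.toCommRingCatIso (RingEquiv.ofBijective μ.toRingHom hbij)) ?_ ?_ ?_ ?_, ?_⟩
  · simp
  · simp; rfl
  · refine CommRingCat.hom_ext (RingHom.ext fun b => ?_)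
    show μ (b ⊗ₜ 1) = (b : B)
    rw [Algebra.TensorProduct.lift_tmul, map_one, mul_one]; rfl
  · refine CommRingCat.hom_ext (RingHom.ext fun b => ?_)
    show μ (1 ⊗ₜ b) = algebraMap R' B b
    rw [Algebra.TensorProduct.lift_tmul, map_one, one_mul]; rfl
  · refine CommRingCat.hom_ext (RingHom.ext fun b => ?_)
    show a.hom (b : B) = f₁.hom (b : B)
    rw [← hθ]
    exact (congrArg e b.2).trans (he₁ _)

/-- The affine hull of a quasi-affine groupoid has a quotient. -/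
theorem exists_affine_quot_aux {V X S P2 P3 : Scheme.{u}} (h : V ⟶ X) (p : X ⟶ S) [IsAffine X] [IsAffine S]
    [Flat p] [CompactSpace V] [QuasiSeparatedSpace V] [CompactSpace P2] [QuasiSeparatedSpace P2]
    (f₁ : P2 ⟶ V) (f₂ : P2 ⟶ X) (H2 : IsPullback f₁ f₂ (h ≫ p) p)
    (g₁ : P3 ⟶ P2) (g₂ : P3 ⟶ X) (H3 : IsPullback g₁ g₂ (f₁ ≫ h ≫ p) p)
    (a : P2 ⟶ V) (hah : a ≫ h = f₂) (σ : V ⟶ P2) (hσ₁ : σ ≫ f₁ = 𝟙 V) (hσ₂ : σ ≫ f₂ = h) (hσa : σ ≫ a = 𝟙 V)
    (Φ₁ Φ₂ : P3 ⟶ P2) (h₁₁ : Φ₁ ≫ f₁ = g₁ ≫ a) (h₁₂ : Φ₁ ≫ f₂ = g₂) (h₂₁ : Φ₂ ≫ f₁ = g₁ ≫ f₁)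
    (h₂₂ : Φ₂ ≫ f₂ = g₂) (key : Φ₁ ≫ a = Φ₂ ≫ a) :
    ∃ (Ub : Scheme.{u}) (πb : Spec Γ(V, ⊤) ⟶ Ub) (str : Ub ⟶ S) (hbar : Spec Γ(V, ⊤) ⟶ X),
      IsPullback hbar πb p str ∧ V.toSpecΓ ≫ hbar = h ∧
      a ≫ V.toSpecΓ ≫ πb = f₁ ≫ V.toSpecΓ ≫ πb ∧ IsAffine Ub := by
  have hflat : p.appTop.hom.Flat := (HasRingHomProperty.iff_of_isAffine (P := @Flat)).mp inferInstance
  obtain ⟨B₀, str, v, hpo, hv⟩ := exists_invariants p.appTop hflat h.appTop f₁.appTop f₂.appTop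
    (by rw [← Scheme.Hom.comp_appTop]; exact isPushout_appTop H2) g₁.appTop g₂.appTop
    (by simp only [← Scheme.Hom.comp_appTop, Category.assoc]; exact isPushout_appTop H3)
    a.appTop (by rw [← Scheme.Hom.comp_appTop, hah]) σ.appTop
    (by rw [← Scheme.Hom.comp_appTop, hσ₁, Scheme.Hom.id_appTop])
    (by rw [← Scheme.Hom.comp_appTop, hσ₂]) (by rw [← Scheme.Hom.comp_appTop, hσa, Scheme.Hom.id_appTop])
    Φ₁.appTop Φ₂.appTop (by rw [← Scheme.Hom.comp_appTop, h₁₁, Scheme.Hom.comp_appTop])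
    (by rw [← Scheme.Hom.comp_appTop, h₁₂])
    (by rw [← Scheme.Hom.comp_appTop, h₂₁, Scheme.Hom.comp_appTop])
    (by rw [← Scheme.Hom.comp_appTop, h₂₂])
    (by rw [← Scheme.Hom.comp_appTop, key, Scheme.Hom.comp_appTop])
  refine ⟨Spec B₀, Spec.map v, Spec.map str ≫ S.isoSpec.inv, Spec.map h.appTop ≫ X.isoSpec.inv, ?_, ?_, ?_,
    inferInstance⟩
  · exact (isPullback_SpecMap_of_isPushout _ _ _ _ hpo).flip.of_iso (.refl _) X.isoSpec.symm (.refl _)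
      S.isoSpec.symm (by simp) (by simp) (by simpa using Scheme.isoSpec_inv_naturality p) (by simp)
  · rw [← Scheme.toSpecΓ_naturality_assoc]
    simp [Scheme.isoSpec]
  · simp only [Scheme.toSpecΓ_naturality_assoc, ← Spec.map_comp, hv]

/-- Passing from the affine hull to the scheme itself. -/
theorem exists_open_quot {V X S P2 : Scheme.{u}} [V.IsQuasiAffine] (h : V ⟶ X) (p : X ⟶ S) [IsFpqc p]
    (f₁ : P2 ⟶ V) (f₂ : P2 ⟶ X) (H2 : IsPullback f₁ f₂ (h ≫ p) p) (a : P2 ⟶ V) (hah : a ≫ h = f₂)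
    {Ub : Scheme.{u}} [IsAffine Ub] (πb : Spec Γ(V, ⊤) ⟶ Ub) (str : Ub ⟶ S) (hbar : Spec Γ(V, ⊤) ⟶ X)
    (hpb : IsPullback hbar πb p str) (hcompat : V.toSpecΓ ≫ hbar = h)
    (hinv : a ≫ V.toSpecΓ ≫ πb = f₁ ≫ V.toSpecΓ ≫ πb) :
    ∃ (U : Scheme.{u}) (str' : U ⟶ S) (π : V ⟶ U), IsPullback h π p str' ∧ a ≫ π = f₁ ≫ π ∧
      U.IsQuasiAffine := by
  haveI : IsFpqc πb := IsFpqc.of_isPullback hpb
  let O : (Spec Γ(V, ⊤)).Opens := V.toSpecΓ.opensRange
  let π₁ : V ⟶ Ub := V.toSpecΓ ≫ πb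
  have hsat : πb ⁻¹' (πb '' (O : Set (Spec Γ(V, ⊤)))) = O := by
    refine Set.Subset.antisymm ?_ (Set.subset_preimage_image _ _)
    rintro vb ⟨_, ⟨v, rfl⟩, he⟩
    obtain ⟨z, hz₁, hz₂⟩ := Scheme.Pullback.exists_preimage_pullback (f := π₁) (g := πb) v vb
      (by rw [Scheme.Hom.comp_apply]; exact he)
    let s : pullback π₁ πb ⟶ P2 := H2.lift (pullback.fst π₁ πb) (pullback.snd π₁ πb ≫ hbar) (by
      rw [Category.assoc, hpb.w, ← pullback.condition_assoc, Category.assoc, ← hpb.w, reassoc_of% hcompat])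
    have hs : s ≫ a ≫ V.toSpecΓ = pullback.snd π₁ πb := by
      apply hpb.hom_ext
      · rw [Category.assoc, Category.assoc, hcompat, hah, H2.lift_snd]
      · rw [Category.assoc, Category.assoc, hinv, H2.lift_fst_assoc]
        exact pullback.condition
    exact ⟨a (s z), by rw [← hz₂, ← hs]; rfl⟩
  have hopen : IsOpen (πb '' (O : Set (Spec Γ(V, ⊤)))) :=
    (IsFpqc.isQuotientMap πb).isCoinducing.isOpen_preimage.mp (by rw [hsat]; exact O.isOpen)
  let U' : Ub.Opens := ⟨_, hopen⟩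
  let π' : V ⟶ (U' : Scheme.{u}) := IsOpenImmersion.lift U'.ι π₁ (by
    rintro _ ⟨v, rfl⟩
    rw [Scheme.Opens.range_ι]
    exact ⟨V.toSpecΓ v, ⟨v, rfl⟩, rfl⟩)
  have hπ' : π' ≫ U'.ι = π₁ := IsOpenImmersion.lift_fac _ _ _
  have hsq : IsPullback π' V.toSpecΓ U'.ι πb := by
    refine IsOpenImmersion.isPullback _ _ _ _ hπ'.symm ?_
    rw [Scheme.Opens.opensRange_ι]
    exact TopologicalSpace.Opens.ext hsat
  haveI : Surjective π' := MorphismProperty.of_isPullback hsq.flip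
    (inferInstance : Surjective πb)
  haveI : CompactSpace (U' : Scheme.{u}) :=
    ⟨by rw [← π'.surjective.range_eq]; exact isCompact_range π'.continuous⟩
  refine ⟨_, U'.ι ≫ str, π', ?_, ?_, Scheme.IsQuasiAffine.of_isImmersion U'.ι⟩
  · have := hsq.flip.paste_horiz hpb
    rwa [hcompat] at this
  · rw [← cancel_mono U'.ι, Category.assoc, Category.assoc, hπ']
    exact hinv

/-- A quasi-affine descent datum along a flat surjection of affine schemes has a quasi-affine quotient. -/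
theorem quot_of_quasiAffine' {X S : Scheme.{u}} {p : X ⟶ S} [IsAffine X] [IsAffine S] [Flat p] [Surjective p]
    (D : _root_.Desc.SchDD p) [D.obj.left.IsQuasiAffine] : ∃ Q : Quot D ⊤, Q.U.IsQuasiAffine := by
  haveI : IsAffineHom p := isAffineHom_of_isAffine _
  haveI : IsFpqc p := IsFpqc.of_quasiCompact p
  haveI hf₁ : IsAffineHom (pullback.fst (D.obj.hom ≫ p) p) :=
    MorphismProperty.pullback_fst (P := @IsAffineHom) _ _ ‹_›
  haveI : (pullback (D.obj.hom ≫ p) p).IsQuasiAffine :=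
    Scheme.IsQuasiAffine.of_isAffineHom (pullback.fst (D.obj.hom ≫ p) p)
  let g₁ := pullback.fst (pullback.fst (D.obj.hom ≫ p) p ≫ D.obj.hom ≫ p) p
  let g₂ := pullback.snd (pullback.fst (D.obj.hom ≫ p) p ≫ D.obj.hom ≫ p) p
  have w2 : pullback.fst (D.obj.hom ≫ p) p ≫ D.obj.hom ≫ p = pullback.snd (D.obj.hom ≫ p) p ≫ p :=
    pullback.condition
  have w3 : g₁ ≫ pullback.fst (D.obj.hom ≫ p) p ≫ D.obj.hom ≫ p = g₂ ≫ p := pullback.condition
  have wa : (g₁ ≫ act D) ≫ D.obj.hom ≫ p = g₂ ≫ p := by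
    rw [Category.assoc, reassoc_of% (act_hom D), ← w2, w3]
  have wb : (g₁ ≫ pullback.fst (D.obj.hom ≫ p) p) ≫ D.obj.hom ≫ p = g₂ ≫ p := by
    rw [Category.assoc]; exact w3
  have key : pullback.lift (g₁ ≫ act D) g₂ wa ≫ act D =
      pullback.lift (g₁ ≫ pullback.fst (D.obj.hom ≫ p) p) g₂ wb ≫ act D := by
    have h0 : g₁ ≫ act D = move D (g₁ ≫ pullback.fst (D.obj.hom ≫ p) p)
        (g₁ ≫ pullback.snd (D.obj.hom ≫ p) p) (by simp only [Category.assoc]; exact congrArg (g₁ ≫ ·) w2) := by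
      rw [move]
      refine congrArg (· ≫ act D) ?_
      apply pullback.hom_ext
      · rw [pullback.lift_fst]
      · rw [pullback.lift_snd]
    refine Eq.trans ?_ (move_move D _ (g₁ ≫ pullback.snd (D.obj.hom ≫ p) p) g₂ _ (by rw [← h0]; exact wa) wb)
    exact move_congr D h0 _
  obtain ⟨Ub, πb, str, hbar, hpb, hcompat, hinv, _⟩ := exists_affine_quot_aux D.obj.hom p _ _
    (IsPullback.of_hasPullback (D.obj.hom ≫ p) p) g₁ g₂ (IsPullback.of_hasPullback _ p) (act D) (act_hom D)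
    (pullback.lift (𝟙 _) D.obj.hom (Category.id_comp _)) (pullback.lift_fst _ _ _) (pullback.lift_snd _ _ _)
    (move_self D (𝟙 _) D.obj.hom (Category.id_comp _) (Category.id_comp _))
    (pullback.lift (g₁ ≫ act D) g₂ wa) (pullback.lift (g₁ ≫ pullback.fst (D.obj.hom ≫ p) p) g₂ wb)
    (pullback.lift_fst _ _ _) (pullback.lift_snd _ _ _) (pullback.lift_fst _ _ _) (pullback.lift_snd _ _ _) key
  obtain ⟨U, str', π, hπ, hinv', hUqa⟩ := exists_open_quot D.obj.hom p _ _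
    (IsPullback.of_hasPullback (D.obj.hom ≫ p) p) (act D) (act_hom D) πb str hbar hpb hcompat hinv
  refine ⟨⟨U, str', (⊤ : D.obj.left.Opens).ι ≫ π, ?_, stable_top, ?_⟩, hUqa⟩
  · exact hπ.of_iso (Scheme.topIso _).symm (.refl _) (.refl _) (.refl _)
      (by simp [← Scheme.topIso_hom]) (by simp [← Scheme.topIso_hom]) (by simp) (by simp)
  · intro T t t' x hx ee
    rw [← Category.assoc, ← Category.assoc, ← ee, move, Category.assoc (pullback.lift _ _ _), hinv',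
      pullback.lift_fst_assoc]

/-- A quasi-affine descent datum along a flat surjection of affine schemes has a quotient. -/
theorem quot_of_quasiAffine {X S : Scheme.{u}} {p : X ⟶ S} [IsAffine X] [IsAffine S] [Flat p] [Surjective p]
    (D : _root_.Desc.SchDD p) [D.obj.left.IsQuasiAffine] : Nonempty (Quot D ⊤) :=
  let ⟨Q, _⟩ := quot_of_quasiAffine' D
  ⟨Q⟩

end Groth.Agent.SchDesc
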