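import Groth.Agent.SchDesc.Pull

/-!
# Quotients can be found over affine pieces
-/

set_option autoImplicit false
set_option linter.style.haveILetI false
universe u
open CategoryTheory CategoryTheory.Limits AlgebraicGeometry

namespace Groth.Agent.SchDesc

variable {X S : Scheme.{u}} {p : X ⟶ S}

/-- A quotient of everything, as a morphism from the underlying scheme. -/
noncomputable def Quot.π₀ {D : _root_.Desc.SchDD p} (Q : Quot D ⊤) : D.obj.left ⟶ Q.U :=
  (Scheme.topIso _).inv ≫ Q.π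

theorem Quot.isPullback₀ {D : _root_.Desc.SchDD p} (Q : Quot D ⊤) :
    IsPullback D.obj.hom Q.π₀ p Q.str :=
  Q.isPullback.of_iso (Scheme.topIso _) (.refl _) (.refl _) (.refl _) (by simp [← Scheme.topIso_hom])
    (by simp [Quot.π₀]) (by simp) (by simp)

theorem Quot.inv₀ {D : _root_.Desc.SchDD p} (Q : Quot D ⊤) {T : Scheme.{u}} (v : T ⟶ D.obj.left)
    (x : T ⟶ X) (h : v ≫ D.obj.hom ≫ p = x ≫ p) : move D v x h ≫ Q.π₀ = v ≫ Q.π₀ := by
  have ht : ∀ r : T ⟶ D.obj.left,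
      (r ≫ (Scheme.topIso _).inv) ≫ (⊤ : D.obj.left.Opens).ι = r := fun r => by
    rw [Category.assoc, ← Scheme.topIso_hom, Iso.inv_hom_id, Category.comp_id]
  have := Q.inv (v ≫ (Scheme.topIso _).inv) (move D v x h ≫ (Scheme.topIso _).inv) x
    (by rw [ht]; exact h) ((move_congr D (ht v) _).trans (ht _).symm)
  simpa only [Quot.π₀, Category.assoc] using this.symm

theorem move_trans {D : _root_.Desc.SchDD p} {T : Scheme.{u}} {v a : T ⟶ D.obj.left} {x y : T ⟶ X}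
    {h : v ≫ D.obj.hom ≫ p = x ≫ p} (e : a = move D v x h) (ha : a ≫ D.obj.hom ≫ p = y ≫ p) :
    move D a y ha = move D v y (by rw [h, ← ha, e, reassoc_of% (move_hom D v x h)]) := by
  subst e; exact move_move D v x y h ha _

/-- Quotients descend along any morphism to `X` whose composite with `p` is fpqc. -/
theorem quot_of_pull_comp (D : _root_.Desc.SchDD p) [IsFpqc p] {X' : Scheme.{u}} (q : X' ⟶ X)
    [IsFpqc (q ≫ p)] {wq : q ≫ p = (q ≫ p) ≫ 𝟙 S} (Q : Quot (pull D q wq) ⊤) :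
    Nonempty (Quot D ⊤) := by
  let r := pullback.fst p (q ≫ p)
  let s := pullback.snd p (q ≫ p)
  have w : r ≫ p = s ≫ q ≫ p := pullback.condition
  haveI : IsFpqc r := IsFpqc.of_isPullback (IsPullback.of_hasPullback p (q ≫ p)).flip
  let D' := pull D q wq
  have wr : r ≫ p = (r ≫ p) ≫ 𝟙 S := (Category.comp_id _).symm
  let DP := pull D r wr
  have hP : IsPullback (pullFst D r wr) DP.obj.hom D.obj.hom r := isPullback_pull D r wr
  have hQ : IsPullback (pullFst D q wq) D'.obj.hom D.obj.hom q := isPullback_pull D q wq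
  let εP : DP.obj.left ⟶ D.obj.left := pullFst D r wr
  let ε : D'.obj.left ⟶ D.obj.left := pullFst D q wq
  have hεP : εP ≫ D.obj.hom ≫ p = (DP.obj.hom ≫ s ≫ q) ≫ p := by
    rw [reassoc_of% hP.w]
    simp only [Category.assoc]
    exact congrArg (DP.obj.hom ≫ ·) w
  let σ : DP.obj.left ⟶ D'.obj.left := hQ.lift (move D εP (DP.obj.hom ≫ s ≫ q) hεP) (DP.obj.hom ≫ s)
    (by rw [move_hom, Category.assoc])
  have hσ₁ : σ ≫ ε = move D εP (DP.obj.hom ≫ s ≫ q) hεP := hQ.lift_fst _ _ _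
  have hσ₂ : σ ≫ D'.obj.hom = DP.obj.hom ≫ s := hQ.lift_snd _ _ _
  have hσε : ∀ {T : Scheme.{u}} (m : T ⟶ DP.obj.left),
      (m ≫ σ) ≫ ε = move D (m ≫ εP) (m ≫ DP.obj.hom ≫ s ≫ q)
        (by simp only [Category.assoc]; exact (congrArg (m ≫ ·) hεP).trans (by simp only [Category.assoc])) :=
    fun m => by rw [Category.assoc, hσ₁, move_comp]
  have huniq : ∀ {T : Scheme.{u}} (m m' : T ⟶ DP.obj.left), m ≫ σ = m' ≫ σ →
      m ≫ DP.obj.hom = m' ≫ DP.obj.hom → m = m' := by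
    intro T m m' h₁ h₂
    have he : εP = move D (σ ≫ ε) (DP.obj.hom ≫ r) (by
        rw [Category.assoc, reassoc_of% hQ.w, reassoc_of% hσ₂]
        simp only [Category.assoc]
        exact congrArg (DP.obj.hom ≫ ·) w.symm) :=
      ((move_trans hσ₁ _).trans (move_self D _ _ _ hP.w)).symm
    apply hP.hom_ext
    · show m ≫ εP = m' ≫ εP
      rw [he, move_comp, move_comp]
      exact move_congr₂ (by rw [reassoc_of% h₁]) (by rw [reassoc_of% h₂])
    · exact h₂
  have hex : ∀ {T : Scheme.{u}} (a : T ⟶ D'.obj.left) (b : T ⟶ pullback p (q ≫ p)),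
      a ≫ D'.obj.hom = b ≫ s → ∃ l : T ⟶ DP.obj.left, l ≫ σ = a ∧ l ≫ DP.obj.hom = b := by
    intro T a b hab
    have hw : (a ≫ ε) ≫ D.obj.hom ≫ p = (b ≫ r) ≫ p := by
      rw [Category.assoc, reassoc_of% hQ.w, reassoc_of% hab, Category.assoc, w]
    have hl₂ := hP.lift_snd (move D (a ≫ ε) (b ≫ r) hw) b (by rw [move_hom])
    refine ⟨hP.lift (move D (a ≫ ε) (b ≫ r) hw) b (by rw [move_hom]), hQ.hom_ext ?_ ?_, hl₂⟩
    · refine (hσε _).trans ((move_trans (hP.lift_fst _ _ _) _).trans (move_self D _ _ _ ?_))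
      rw [reassoc_of% hl₂, Category.assoc, hQ.w, reassoc_of% hab]
    · rw [Category.assoc, hσ₂, reassoc_of% hl₂]
      exact hab.symm
  have hsq : IsPullback σ DP.obj.hom D'.obj.hom s := by
    refine ⟨⟨hσ₂⟩, ⟨PullbackCone.isLimitAux' _ fun c => ?_⟩⟩
    refine ⟨(hex c.fst c.snd c.condition).choose, (hex c.fst c.snd c.condition).choose_spec.1,
      (hex c.fst c.snd c.condition).choose_spec.2, fun {m} h₁ h₂ => ?_⟩
    exact huniq m _ (h₁.trans (hex c.fst c.snd c.condition).choose_spec.1.symm)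
      (h₂.trans (hex c.fst c.snd c.condition).choose_spec.2.symm)
  refine quot_of_pull_cover D r (wq := wr) ⟨Q.U, Q.str, (⊤ : DP.obj.left.Opens).ι ≫ σ ≫ Q.π₀, ?_,
    stable_top, fun {T} t t' x hx e => ?_⟩
  · have := hsq.flip.paste_vert Q.isPullback₀
    rw [← w] at this
    exact this.of_iso (Scheme.topIso _).symm (.refl _) (.refl _) (.refl _)
      (by simp [← Scheme.topIso_hom]; rfl) (by simp [← Scheme.topIso_hom]) (by simp) (by simp)
  · have key : ∀ (v : T ⟶ DP.obj.left) (h : v ≫ DP.obj.hom ≫ r ≫ p = x ≫ r ≫ p),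
        move DP v x h ≫ σ ≫ Q.π₀ = v ≫ σ ≫ Q.π₀ := by
      intro v h
      have h' : (v ≫ σ) ≫ D'.obj.hom ≫ q ≫ p = (x ≫ s) ≫ q ≫ p := by
        rw [Category.assoc, reassoc_of% hσ₂, Category.assoc]
        exact (congrArg (fun u => v ≫ DP.obj.hom ≫ u) w.symm).trans (h.trans (congrArg (x ≫ ·) w))
      have e1 : move DP v x h ≫ σ = move D' (v ≫ σ) (x ≫ s) h' := by
        apply hQ.hom_ext
        · rw [move_pull D q wq]
          refine (hσε _).trans ((move_trans (move_pull D r wr v x h) _).trans ?_)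
          refine Eq.trans ?_ (move_trans (hσε v) _).symm
          exact move_congr₂ rfl (by rw [reassoc_of% (move_hom DP v x h), Category.assoc])
        · rw [Category.assoc, hσ₂, reassoc_of% (move_hom DP v x h), move_hom]
      rw [← Category.assoc, e1, Q.inv₀, Category.assoc]
    rw [← Category.assoc, ← Category.assoc t', ← e, key]

/-- A descent datum with a quotient is effective, and conversely. -/
theorem quot_of_effective {D : _root_.Desc.SchDD p}
    (h : ∃ U : Over S, Nonempty ((_root_.Desc.toDD p).obj U ≅ D)) : Nonempty (Quot D ⊤) := by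
  obtain ⟨U, ⟨e⟩⟩ := h
  haveI : IsOpenImmersion ((𝟙 D : D ⟶ D).hom.left) :=
    (inferInstance : IsOpenImmersion (𝟙 D.obj.left))
  have := quot_of_openImmersion (𝟙 D) U e
  have htop : ((𝟙 D : D ⟶ D).hom.left).opensRange = ⊤ := by
    apply TopologicalSpace.Opens.ext
    exact Set.eq_univ_of_forall fun v => ⟨v, rfl⟩
  rwa [htop] at this

/-- It suffices to find quotients over flat surjections of affine schemes. -/
theorem quot_top_of_affine [IsFpqc p] (P : MorphismProperty Scheme.{u})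
    (hP : ∀ {A B B' : Scheme.{u}} (f : A ⟶ B) (g : B' ⟶ B), P f → P (pullback.snd f g))
    (D : _root_.Desc.SchDD p) (hD : P D.obj.hom)
    (h : ∀ (Q U : Scheme.{u}) (l : Q ⟶ U) (q : Q ⟶ X) (i : U ⟶ S), IsAffine Q → IsAffine U →
      Flat l → Surjective l → IsFpqc l → IsOpenImmersion i → LocallyOfFinitePresentation q →
      q ≫ p = l ≫ i → ∀ D' : _root_.Desc.SchDD l, P D'.obj.hom → Nonempty (Quot D' ⊤)) :
    Nonempty (Quot D ⊤) := by
  refine quot_top fun v => ?_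
  obtain ⟨S₀, hS₀, hv, -⟩ := exists_isAffineOpen_mem_and_subset (U := (⊤ : S.Opens))
    (show p (D.obj.hom v) ∈ (⊤ : S.Opens) from trivial)
  refine ⟨D.obj.hom ⁻¹ᵁ p ⁻¹ᵁ S₀, hv, ?_⟩
  obtain ⟨Q, q, l, hQ, hq, hq', hw, hl, hl', hl''⟩ := IsFpqc.exists_affine p hS₀
  haveI : IsFpqc (p ∣_ S₀) := IsFpqc.of_isPullback (isPullback_morphismRestrict p S₀).flip
  let q' : Q ⟶ (p ⁻¹ᵁ S₀ : Scheme.{u}) := IsOpenImmersion.lift (p ⁻¹ᵁ S₀).ι q (by
    rintro _ ⟨z, rfl⟩
    rw [Scheme.Opens.range_ι]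
    show p (q z) ∈ S₀
    rw [← Scheme.Hom.comp_apply, hw, Scheme.Hom.comp_apply]
    exact (l z).2)
  have hq'ι : q' ≫ (p ⁻¹ᵁ S₀).ι = q := IsOpenImmersion.lift_fac _ _ _
  have hl₀ : q' ≫ (p ∣_ S₀) = l := by
    rw [← cancel_mono S₀.ι, Category.assoc, morphismRestrict_ι, reassoc_of% hq'ι, hw]
  haveI : Flat (q' ≫ (p ∣_ S₀)) := hl₀ ▸ hl
  haveI : Surjective (q' ≫ (p ∣_ S₀)) := hl₀ ▸ hl'
  haveI : QuasiCompact (q' ≫ (p ∣_ S₀)) := hl₀ ▸ hl''
  haveI : IsFpqc (q' ≫ (p ∣_ S₀)) := IsFpqc.of_quasiCompact _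
  let D₀ := pull D (p ⁻¹ᵁ S₀).ι (morphismRestrict_ι p S₀).symm
  let D₁ := pull D₀ q' (show q' ≫ (p ∣_ S₀) = (q' ≫ (p ∣_ S₀)) ≫ 𝟙 _ from (Category.comp_id _).symm)
  obtain ⟨Q₁⟩ := h Q S₀ (q' ≫ (p ∣_ S₀)) q S₀.ι hQ hS₀ inferInstance inferInstance inferInstance
    inferInstance hq' (by rw [hl₀]; exact hw) D₁ (hP _ _ (hP _ _ hD))
  obtain ⟨Q₀⟩ := quot_of_pull_comp D₀ q' Q₁
  exact quot_of_pull_open D S₀ Q₀

end Groth.Agent.SchDesc
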