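import Groth.Agent.SchDesc.Family
import Groth.Agent.SchDesc.Local

/-!
# Effective descent for families
-/

set_option autoImplicit false
set_option linter.style.haveILetI false
universe u
open CategoryTheory CategoryTheory.Limits AlgebraicGeometry

namespace Groth.Agent.SchDesc

theorem isIso_sigmaDesc_opens {Y : Scheme.{u}} {σ : Type} [Finite σ] (O : σ → Y.Opens)
    (hd : Pairwise fun i j => Disjoint (O i) (O j)) (hc : ⨆ i, O i = ⊤) :
    IsIso (Sigma.desc fun i => (O i).ι) := by
  haveI : IsOpenImmersion (Sigma.desc fun i => (O i).ι) := by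
    refine isOpenImmersion_sigmaDesc (fun i => (O i : Scheme.{u})) (fun i => (O i).ι) fun i j hij => ?_
    show Disjoint (Set.range (O i).ι) (Set.range (O j).ι)
    rw [Scheme.Opens.range_ι, Scheme.Opens.range_ι]
    exact Set.disjoint_iff.mpr fun z hz => ((disjoint_iff.mp (hd hij)).le (show z ∈ O i ⊓ O j from hz)).elim
  haveI : Surjective (Sigma.desc fun i => (O i).ι) := ⟨fun y => by
    obtain ⟨i, hi⟩ := TopologicalSpace.Opens.mem_iSup.mp (show y ∈ ⨆ i, O i from hc ▸ trivial)
    exact ⟨Sigma.ι (fun i => (O i : Scheme.{u})) i ⟨y, hi⟩, by rw [← Scheme.Hom.comp_apply, Sigma.ι_desc]; rfl⟩⟩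
  exact isIso_of_isOpenImmersion_of_opensRange_eq_top _
    (TopologicalSpace.Opens.ext (Scheme.Hom.surjective _).range_eq)

variable {S : Scheme.{u}} {ι : Type u} {X : ι → Scheme.{u}} {f : ∀ i, X i ⟶ S}

/-- The coproduct of the structure maps has a property after base change to affine schemes. -/
theorem prop_pullback_famHom (P : MorphismProperty Scheme.{u}) [P.IsStableUnderBaseChange]
    (h2 : ∀ (m : ℕ) (Y V : Fin m → Scheme.{u}) (q : ∀ j, Y j ⟶ V j), (∀ j, P (q j)) → P (Limits.Sigma.map q))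
    (D : _root_.Desc.SchDDFam f) (hD : ∀ i, P (D.obj i).hom) {Q : Scheme.{u}} [CompactSpace Q]
    (g : Q ⟶ ∐ X) : P (pullback.snd (famHom D) g) := by
  classical
  obtain ⟨s, hs⟩ := isCompact_univ.elim_finite_subcover
    (fun i => ((g ⁻¹ᵁ (Sigma.ι X i).opensRange : Q.Opens) : Set Q)) (fun i => TopologicalSpace.Opens.isOpen _)
    (fun z _ => by
      obtain ⟨⟨i, a⟩, ha⟩ := (sigmaMk X).surjective (g z)
      exact Set.mem_iUnion.mpr ⟨i, a, (sigmaMk_mk _ _ _).symm.trans ha⟩)
  let idx : Fin s.card → ι := fun j => (s.equivFin.symm j).1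
  let O : Fin s.card → Q.Opens := fun j => g ⁻¹ᵁ (Sigma.ι X (idx j)).opensRange
  have hO : Pairwise fun i j => Disjoint (O i) (O j) := fun i j hij => by
    have h := disjoint_iff.mp (disjoint_opensRange_sigmaι X (idx i) (idx j) fun e => hij
      (s.equivFin.symm.injective (Subtype.ext e)))
    show Disjoint (O i) (O j)
    rw [disjoint_iff, eq_bot_iff]
    intro z hz
    exact (h.le (show g z ∈ (Sigma.ι X (idx i)).opensRange ⊓ (Sigma.ι X (idx j)).opensRange from hz)).elim
  have hOc : ⨆ j, O j = ⊤ := top_le_iff.mp fun z _ => by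
    obtain ⟨i, hi, hz⟩ := Set.mem_iUnion₂.mp (hs (Set.mem_univ z))
    refine TopologicalSpace.Opens.mem_iSup.mpr ⟨s.equivFin ⟨i, hi⟩, ?_⟩
    show g z ∈ (Sigma.ι X (idx _)).opensRange
    rw [show idx (s.equivFin ⟨i, hi⟩) = i by simp [idx]]
    exact hz
  let sd := pullback.snd (famHom D) g
  let W : Fin s.card → (pullback (famHom D) g).Opens := fun j => sd ⁻¹ᵁ O j
  haveI := isIso_sigmaDesc_opens O hO hOc
  haveI := isIso_sigmaDesc_opens W
    (fun i j hij => by
      show Disjoint (W i) (W j)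
      rw [disjoint_iff, eq_bot_iff]
      intro z hz
      exact ((disjoint_iff.mp (hO hij)).le (show sd z ∈ O i ⊓ O j from hz)).elim)
    (top_le_iff.mp fun z _ => by
      obtain ⟨j, hj⟩ := TopologicalSpace.Opens.mem_iSup.mp (show sd z ∈ ⨆ j, O j from hOc ▸ trivial)
      exact TopologicalSpace.Opens.mem_iSup.mpr ⟨j, hj⟩)
  have hq : ∀ j, P (sd ∣_ O j) := fun j => by
    let gj := IsOpenImmersion.lift (Sigma.ι X (idx j)) ((O j).ι ≫ g) (by rintro _ ⟨z, rfl⟩; exact z.2)
    have hgj : gj ≫ Sigma.ι X (idx j) = (O j).ι ≫ g := IsOpenImmersion.lift_fac _ _ _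
    have houter := (isPullback_morphismRestrict sd (O j)).flip.paste_horiz (IsPullback.of_hasPullback (famHom D) g)
    rw [← hgj] at houter
    let a := (isPullback_famHom D (idx j)).lift ((sd ⁻¹ᵁ O j).ι ≫ pullback.fst _ _) ((sd ∣_ O j) ≫ gj)
      (by rw [houter.w, Category.assoc])
    have h := IsPullback.of_right (h₁₁ := a) (by rw [IsPullback.lift_fst]; exact houter)
      (IsPullback.lift_snd _ _ _ _) (isPullback_famHom D (idx j))
    exact MorphismProperty.of_isPullback h (hD (idx j))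
  have h := h2 _ _ _ _ hq
  refine (P.arrow_mk_iso_iff (Arrow.isoMk (asIso (Sigma.desc fun j => (W j).ι))
    (asIso (Sigma.desc fun j => (O j).ι)) ?_)).mp h
  refine Sigma.hom_ext _ _ fun j => ?_
  simp only [Arrow.mk_left, Arrow.mk_right, Arrow.mk_hom, asIso_hom, Sigma.ι_desc_assoc,
    Limits.Sigma.ι_map_assoc, Sigma.ι_desc]
  exact (morphismRestrict_ι sd (O j)).symm

/-- Effective descent for fpqc families, from effective descent along flat surjections of affine schemes. -/
theorem isEffective_of_affine (P : MorphismProperty Scheme.{u}) [P.IsStableUnderBaseChange]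
    (h2 : ∀ (m : ℕ) (Y V : Fin m → Scheme.{u}) (q : ∀ j, Y j ⟶ V j), (∀ j, P (q j)) → P (Limits.Sigma.map q))
    (hf : Presieve.ofArrows X f ∈ Scheme.fpqcPrecoverage S)
    (D : _root_.Desc.SchDDFam f) (hD : ∀ i, P (D.obj i).hom)
    (h3 : ∀ (Q U : Scheme.{u}) (l : Q ⟶ U), IsAffine Q → IsAffine U → Flat l → Surjective l →
      ∀ D' : _root_.Desc.SchDD l, P D'.obj.hom → Nonempty (Quot D' ⊤)) : D.IsEffective := by
  haveI := isFpqc_sigmaDesc hf
  let P' : MorphismProperty Scheme.{u} := fun A B h =>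
    ∀ (Q : Scheme.{u}), IsAffine Q → ∀ g : Q ⟶ B, P (pullback.snd h g)
  obtain ⟨Q⟩ := quot_top_of_affine P'
    (fun {A B B'} h g hh Q hQ g' => by
      have := hh Q hQ (g' ≫ g)
      rw [← pullbackLeftPullbackSndIso_hom_snd h g g']
      exact MorphismProperty.RespectsIso.precomp _ _ _ this)
    (sigmaDD D) (fun Q hQ g => by
      haveI := hQ
      exact prop_pullback_famHom P h2 D hD g)
    fun Q U l q i hQ hU hl hl' _ _ _ _ D' hD' => h3 Q U l hQ hU hl hl' D' (by
      have := hD' Q hQ (𝟙 Q)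
      rw [← Category.comp_id D'.obj.hom,
        show D'.obj.hom ≫ 𝟙 _ = inv (pullback.fst D'.obj.hom (𝟙 Q)) ≫ pullback.snd D'.obj.hom (𝟙 Q) by
          rw [IsIso.eq_inv_comp, Category.comp_id, pullback.condition, Category.comp_id]]
      exact MorphismProperty.RespectsIso.precomp _ _ _ this)
  exact isEffective_of_sigmaDD D Q.effective

end Groth.Agent.SchDesc
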