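import Groth.Agent.SchDesc.Local
import Groth.Agent.SchDesc.QAff
import Groth.Prelude.Def_MoreMor

/-!
# Fppf descent of ind-quasi-affine schemes
-/

set_option autoImplicit false
set_option linter.style.haveILetI false
universe u
open CategoryTheory CategoryTheory.Limits AlgebraicGeometry

namespace Groth.Agent.SchDesc

variable {X S : Scheme.{u}} {p : X ⟶ S} (D : _root_.Desc.SchDD p)

section restrict

variable (W : D.obj.left.Opens) (hW : Stable D W)

/-- A lift to an open as a lift to the whole. -/
def push {T : Scheme.{u}} {x : T ⟶ X} (v : _root_.Desc.Lifts (Over.mk (W.ι ≫ D.obj.hom)) x) :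
    _root_.Desc.Lifts D.obj x :=
  ⟨v.1 ≫ W.ι, (Category.assoc _ _ _).trans v.2⟩

include hW in
theorem range_φ {T : Scheme.{u}} {x₀ x₁ : T ⟶ X} (h : x₀ ≫ p = x₁ ≫ p)
    (v : _root_.Desc.Lifts (Over.mk (W.ι ≫ D.obj.hom)) x₀) :
    Set.range (D.φ x₀ x₁ h (push D W v)).1 ⊆ Set.range W.ι := by
  rintro _ ⟨t, rfl⟩
  rw [Scheme.Opens.range_ι, φ_eq_move]
  exact hW.move_mem _ _ _ t (v.1 t).2

/-- The restricted gluing map. -/
noncomputable def restrictMap {T : Scheme.{u}} {x₀ x₁ : T ⟶ X} (h : x₀ ≫ p = x₁ ≫ p)
    (v : _root_.Desc.Lifts (Over.mk (W.ι ≫ D.obj.hom)) x₀) :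
    _root_.Desc.Lifts (Over.mk (W.ι ≫ D.obj.hom)) x₁ :=
  ⟨IsOpenImmersion.lift W.ι _ (range_φ D W hW h v), by
    show _ ≫ W.ι ≫ D.obj.hom = x₁
    rw [IsOpenImmersion.lift_fac_assoc]
    exact (D.φ x₀ x₁ h (push D W v)).2⟩

theorem push_restrictMap {T : Scheme.{u}} {x₀ x₁ : T ⟶ X} (h : x₀ ≫ p = x₁ ≫ p)
    (v : _root_.Desc.Lifts (Over.mk (W.ι ≫ D.obj.hom)) x₀) :
    push D W (restrictMap D W hW h v) = D.φ x₀ x₁ h (push D W v) :=
  Subtype.ext (IsOpenImmersion.lift_fac _ _ _)

theorem push_injective {T : Scheme.{u}} (x : T ⟶ X) : Function.Injective (push D W (x := x)) :=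
  fun _ _ e => Subtype.ext ((cancel_mono W.ι).mp (congrArg Subtype.val e))

/-- The descent datum on a stable open. -/
noncomputable def restrictDD : _root_.Desc.SchDD p where
  obj := Over.mk (W.ι ≫ D.obj.hom)
  φ T x₀ x₁ h :=
    { toFun := restrictMap D W hW h
      invFun := restrictMap D W hW h.symm
      left_inv := fun v => push_injective D W _ (by
        rw [push_restrictMap, push_restrictMap, D.φ_comp, D.φ_self])
      right_inv := fun v => push_injective D W _ (by
        rw [push_restrictMap, push_restrictMap, D.φ_comp, D.φ_self]) }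
  φ_natural T T' g x₀ x₁ h h' v v' hv' := by
    refine (cancel_mono W.ι).mp (Eq.trans ?_ (Category.assoc _ _ _).symm)
    exact (congrArg Subtype.val (push_restrictMap D W hW h' v')).trans
      ((D.φ_natural g x₀ x₁ h h' (push D W v) (push D W v') (by
        show v'.1 ≫ W.ι = g ≫ v.1 ≫ W.ι
        rw [hv', Category.assoc])).trans
      (congrArg (g ≫ ·) (congrArg Subtype.val (push_restrictMap D W hW h v)).symm))
  φ_self T x v := push_injective D W _ (by
    show push D W (restrictMap D W hW rfl v) = _
    rw [push_restrictMap, D.φ_self])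
  φ_comp T x₀ x₁ x₂ h₀₁ h₁₂ v := push_injective D W _ (by
    show push D W (restrictMap D W hW h₁₂ (restrictMap D W hW h₀₁ v)) =
      push D W (restrictMap D W hW (h₀₁.trans h₁₂) v)
    rw [push_restrictMap, push_restrictMap, push_restrictMap, D.φ_comp])

/-- The inclusion of the restricted datum. -/
noncomputable def restrictHom : restrictDD D W hW ⟶ D :=
  ⟨Over.homMk W.ι rfl, fun T x₀ x₁ h v w hw => by
    have e : w = push D W v := Subtype.ext hw
    subst e
    exact (congrArg Subtype.val (push_restrictMap D W hW h v)).symm⟩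

include hW in
theorem quot_of_restrict (h : Nonempty (Quot (restrictDD D W hW) ⊤)) : Nonempty (Quot D W) := by
  obtain ⟨Q⟩ := h
  obtain ⟨U, ⟨e⟩⟩ := Q.effective
  haveI : IsOpenImmersion (restrictHom D W hW).hom.left := (inferInstance : IsOpenImmersion W.ι)
  have := quot_of_openImmersion (restrictHom D W hW) U e
  rwa [show (restrictHom D W hW).hom.left.opensRange = W from Scheme.Opens.opensRange_ι W] at this

end restrict

/-- The involution of `V ×_S X`. -/
noncomputable def swap : pullback (D.obj.hom ≫ p) p ⟶ pullback (D.obj.hom ≫ p) p :=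
  pullback.lift (act D) (pullback.fst _ _ ≫ D.obj.hom) (by
    rw [reassoc_of% (act_hom D), Category.assoc, ← pullback.condition])

theorem swap_swap : swap D ≫ swap D = 𝟙 _ := by
  have h₁ : swap D ≫ pullback.fst (D.obj.hom ≫ p) p = act D := pullback.lift_fst _ _ _
  have h₂ : swap D ≫ pullback.snd (D.obj.hom ≫ p) p = pullback.fst _ _ ≫ D.obj.hom :=
    pullback.lift_snd _ _ _
  apply pullback.hom_ext
  · rw [Category.assoc, h₁, Category.id_comp]
    have e : act D = move D (pullback.fst (D.obj.hom ≫ p) p) (pullback.snd _ _) pullback.condition := by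
      rw [move]
      refine Eq.symm (Eq.trans (congrArg (· ≫ act D) ?_) (Category.id_comp _))
      apply pullback.hom_ext <;> simp
    have hh : act D ≫ D.obj.hom ≫ p = (pullback.fst (D.obj.hom ≫ p) p ≫ D.obj.hom) ≫ p := by
      rw [reassoc_of% (act_hom D), Category.assoc, ← pullback.condition]
    exact Eq.trans (show swap D ≫ act D = move D (act D) _ hh from rfl)
      ((move_trans e _).trans (move_self D _ _ _ rfl))
  · rw [Category.assoc, h₂, reassoc_of% h₁, act_hom, Category.id_comp]

theorem act_eq : act D = swap D ≫ pullback.fst (D.obj.hom ≫ p) p := (pullback.lift_fst _ _ _).symm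

instance : IsIso (swap D) := ⟨swap D, swap_swap D, swap_swap D⟩

/-- The saturation of a quasi-compact open. -/
theorem exists_stable_of_compact [Flat p] [LocallyOfFinitePresentation p] [QuasiCompact p]
    (W₀ : D.obj.left.Opens) (hW₀ : IsCompact (W₀ : Set D.obj.left)) :
    ∃ W : D.obj.left.Opens, W₀ ≤ W ∧ Stable D W ∧ IsCompact (W : Set D.obj.left) := by
  let f := pullback.fst (D.obj.hom ≫ p) p
  haveI : UniversallyOpen (act D) := by
    rw [act_eq]; infer_instance
  let W : D.obj.left.Opens := ⟨act D '' (f ⁻¹' W₀), (act D).isOpenMap _ (W₀.isOpen.preimage f.continuous)⟩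
  refine ⟨W, fun v hv => ?_, fun t ht => ?_, (f.isCompact_preimage hW₀).image (act D).continuous⟩
  · let d := pullback.lift (f := D.obj.hom ≫ p) (g := p) (𝟙 D.obj.left) D.obj.hom (Category.id_comp _)
    refine ⟨d v, ?_, ?_⟩
    · show f (d v) ∈ W₀
      rw [← Scheme.Hom.comp_apply, pullback.lift_fst]
      exact hv
    · rw [← Scheme.Hom.comp_apply]
      exact congrArg (fun m => m v) (move_self D (𝟙 _) D.obj.hom (Category.id_comp _) (Category.id_comp _))
  · obtain ⟨t', ht', htt'⟩ := ht
    obtain ⟨z, hz₁, hz₂⟩ := Scheme.Pullback.exists_preimage_pullback (f := act D) (g := f) t' t htt'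
    let a := pullback.fst (act D) f
    let b := pullback.snd (act D) f
    have hab : a ≫ act D = b ≫ f := pullback.condition
    let x := b ≫ pullback.snd (D.obj.hom ≫ p) p
    have hx : (a ≫ f) ≫ D.obj.hom ≫ p = x ≫ p := by
      have e₁ : f ≫ D.obj.hom ≫ p = act D ≫ D.obj.hom ≫ p := by
        rw [reassoc_of% (act_hom D)]; exact pullback.condition
      rw [Category.assoc, e₁, reassoc_of% hab]
      exact (congrArg (b ≫ ·) pullback.condition).trans (Category.assoc _ _ _).symm
    let n := pullback.lift (a ≫ f) x hx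
    refine ⟨n z, ?_, ?_⟩
    · show f (n z) ∈ W₀
      rw [← Scheme.Hom.comp_apply, pullback.lift_fst, Scheme.Hom.comp_apply, hz₁]
      exact ht'
    · have e : ∀ {T : Scheme.{u}} (m : T ⟶ pullback (D.obj.hom ≫ p) p),
          m ≫ act D = move D (m ≫ f) (m ≫ pullback.snd _ _)
            (by simp only [Category.assoc, f, pullback.condition]) := fun m => by
        rw [move]
        refine congrArg (· ≫ act D) ?_
        apply pullback.hom_ext
        · exact (pullback.lift_fst _ _ _).symm
        · exact (pullback.lift_snd _ _ _).symm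
      have key : n ≫ act D = b ≫ act D := by
        rw [e b]
        exact ((move_trans (hab.symm.trans (e a)) _).trans rfl).symm
      rw [← Scheme.Hom.comp_apply, key, Scheme.Hom.comp_apply, hz₂]

/-- Over affine schemes, fppf descent data which are ind-quasi-affine have quotients. -/
theorem quot_of_indQuasiAffine [IsAffine X] [IsAffine S] [Flat p] [Surjective p]
    [LocallyOfFinitePresentation p] (h : MoreMor.IsIndQuasiAffine D.obj.left) : Nonempty (Quot D ⊤) := by
  haveI : IsFpqc p := IsFpqc.of_locallyOfFinitePresentation p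
  refine quot_top fun v => ?_
  obtain ⟨W₀, hW₀, hv, -⟩ := exists_isAffineOpen_mem_and_subset (U := (⊤ : D.obj.left.Opens))
    (show v ∈ (⊤ : D.obj.left.Opens) from trivial)
  obtain ⟨W, hle, hW, hWc⟩ := exists_stable_of_compact D W₀ hW₀.isCompact
  refine ⟨W, hle hv, quot_of_restrict D W hW ?_⟩
  haveI : (restrictDD D W hW).obj.left.IsQuasiAffine := h W hWc
  exact quot_of_quasiAffine _

end Groth.Agent.SchDesc
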