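import Groth.Agent.SchDesc.Germs
import Groth.Agent.SchDesc.IndQA
import Groth.Agent.QAffLib.Basic

/-!
# Fpqc descent of ind-quasi-affine schemes
-/

set_option autoImplicit false
set_option linter.style.haveILetI false
set_option backward.isDefEq.respectTransparency false
universe u
open CategoryTheory CategoryTheory.Limits AlgebraicGeometry TopologicalSpace

noncomputable section

namespace Groth.Agent.SchDesc

variable {Y T T' : Scheme.{u}}

/-- Basic opens form a basis of a quasi-affine open. -/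
theorem exists_basicOpen_mem {O : Y.Opens} (hq : O.toScheme.IsQuasiAffine) (N : Y.Opens) {w : Y}
    (hwO : w ∈ O) (hwN : w ∈ N) : ∃ f : Γ(Y, O), w ∈ Y.basicOpen f ∧ Y.basicOpen f ≤ N := by
  obtain ⟨_, ⟨_, ⟨s, hs, rfl⟩, rfl⟩, hws, hle⟩ := (Scheme.IsQuasiAffine.isBasis_basicOpen
    O.toScheme).exists_subset_of_mem_open (show (⟨w, hwO⟩ : O.toScheme) ∈ O.ι ⁻¹ᵁ N from hwN) (O.ι ⁻¹ᵁ N).2
  have he : Y.basicOpen (O.topIso.hom s) = O.ι ''ᵁ O.toScheme.basicOpen s := by
    rw [Scheme.Opens.ι_image_basicOpen]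
    exact Y.basicOpen_res_eq s _
  refine ⟨O.topIso.hom s, ?_, ?_⟩
  · rw [he]; exact ⟨⟨w, hwO⟩, hws, rfl⟩
  · rw [he]; rintro _ ⟨z, hz, rfl⟩; exact hle hz

theorem spec_stalk_mem {E : Set Y} (hgen : StableUnderGeneralization E) {w : Y} (hw : w ∈ E)
    (t : Spec (Y.presheaf.stalk w)) : Y.fromSpecStalk w t ∈ E :=
  hgen ((Scheme.range_fromSpecStalk (x := w)).subset ⟨t, rfl⟩ : _) hw

/-- The map from germs along a generalizing set to a local ring. -/
def germToStalk {E : Set Y} (hgen : StableUnderGeneralization E) {w : Y} (hw : w ∈ E) :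
    Germ E ⟶ Y.presheaf.stalk w :=
  evalGerm (Y.fromSpecStalk w) (spec_stalk_mem hgen hw) ≫ (Scheme.ΓSpecIso _).hom

theorem toGerm_stalk {E : Set Y} (hgen : StableUnderGeneralization E) {w : Y} (hw : w ∈ E)
    (O : Y.Opens) (hO : E ⊆ O) :
    toGerm O hO ≫ germToStalk hgen hw = Y.presheaf.germ O w (hO hw) := by
  rw [germToStalk, toGerm_eval_assoc, Scheme.Hom.appLE, Scheme.fromSpecStalk_app (hO hw)]
  simp only [Category.assoc, ← Functor.map_comp_assoc]
  rw [Subsingleton.elim ((homOfLE (le_top (α := (Spec (Y.presheaf.stalk w)).Opens))).op ≫ _) (𝟙 _)]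
  simp

/-- Local rings are flat over germs. -/
theorem flat_germToStalk {E : Set Y} (hE : IsCompact E) (hgen : StableUnderGeneralization E)
    [QuasiSeparatedSpace Y] (hqa : ∀ O : Y.Opens, IsCompact (O : Set Y) → O.toScheme.IsQuasiAffine)
    {w : Y} (hw : w ∈ E) : (germToStalk hgen hw).hom.Flat := by
  let φ := (germToStalk hgen hw).hom
  have hφ : ∀ (O : Y.Opens) (hO : E ⊆ O) (s : Γ(Y, O)), φ (toGerm O hO s) = Y.presheaf.germ O w (hO hw) s :=
    fun O hO s => ConcreteCategory.congr_hom (toGerm_stalk hgen hw O hO) s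
  have hres : ∀ (O O' : Y.Opens) (h : O' ≤ O) (hO' : E ⊆ O') (s : Γ(Y, O)),
      toGerm O' hO' (Y.presheaf.map (homOfLE h).op s) = toGerm O (hO'.trans h) s :=
    fun O O' h hO' s => ConcreteCategory.congr_hom (res_toGerm h hO') s
  letI : Algebra (Germ E) (Y.presheaf.stalk w) := φ.toAlgebra
  let M : Submonoid (Germ E) := (IsUnit.submonoid (Y.presheaf.stalk w)).comap φ
  haveI : IsLocalization M (Y.presheaf.stalk w) := by
    constructor
    constructor
    · exact fun y => y.2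
    · intro z
      obtain ⟨N, hwN, s, rfl⟩ := TopCat.Presheaf.exists_germ_eq Y.presheaf z
      obtain ⟨O, hO, -, hOc⟩ := exists_qc_nb hE ⊤ fun _ _ => trivial
      obtain ⟨f, hwf, hfN⟩ := exists_basicOpen_mem (hqa O hOc) N (hO hw) hwN
      obtain ⟨n, y, hy⟩ := exists_eq_pow_mul_of_isCompact_of_isQuasiSeparated Y O hOc
        (IsQuasiSeparated.of_quasiSeparatedSpace _) f (s |_ Y.basicOpen f)
      refine ⟨(toGerm O hO y, ⟨toGerm O hO (f ^ n), ?_⟩), ?_⟩
      · show IsUnit (φ _)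
        rw [hφ, map_pow]
        exact ((Scheme.mem_basicOpen Y f w (hO hw)).1 hwf).pow n
      · show _ * φ (toGerm O hO (f ^ n)) = φ (toGerm O hO y)
        rw [hφ, hφ]
        have := congrArg (Y.presheaf.germ (Y.basicOpen f) w hwf) hy
        simp only [TopCat.Presheaf.restrictOpenCommRingCat_apply, map_mul, map_pow,
          TopCat.Presheaf.germ_res_apply] at this
        rw [map_pow, this, mul_comm]
    · intro x x' he
      obtain ⟨O₁, hO₁, s₁, rfl⟩ := Germ.exists_rep x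
      obtain ⟨O₂, hO₂, s₂, rfl⟩ := Germ.exists_rep x'
      obtain ⟨O, hO, hle, hOc⟩ := exists_qc_nb hE (O₁ ⊓ O₂) fun e he => ⟨hO₁ he, hO₂ he⟩
      let r₁ := Y.presheaf.map (homOfLE (hle.trans inf_le_left)).op s₁
      let r₂ := Y.presheaf.map (homOfLE (hle.trans inf_le_right)).op s₂
      have h₁ : toGerm O hO r₁ = toGerm O₁ hO₁ s₁ := hres _ _ _ hO s₁
      have h₂ : toGerm O hO r₂ = toGerm O₂ hO₂ s₂ := hres _ _ _ hO s₂
      rw [← h₁, ← h₂] at he ⊢
      replace he : Y.presheaf.germ O w (hO hw) r₁ = Y.presheaf.germ O w (hO hw) r₂ := by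
        rw [← hφ, ← hφ]; exact he
      obtain ⟨N, hwN, i₁, i₂, hN⟩ := TopCat.Presheaf.germ_eq Y.presheaf w _ _ _ _ he
      obtain ⟨f, hwf, hfN⟩ := exists_basicOpen_mem (hqa O hOc) N (hO hw) hwN
      obtain ⟨n, hn⟩ := exists_pow_mul_eq_zero_of_res_basicOpen_eq_zero_of_isCompact Y hOc (r₁ - r₂) f (by
        have := congrArg (Y.presheaf.map (homOfLE hfN).op) hN
        simp only [← ConcreteCategory.comp_apply, ← Functor.map_comp] at this
        simp only [TopCat.Presheaf.restrictOpenCommRingCat_apply, map_sub]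
        exact sub_eq_zero.2 this)
      refine ⟨⟨toGerm O hO (f ^ n), ?_⟩, ?_⟩
      · show IsUnit (φ _)
        rw [hφ, map_pow]
        exact ((Scheme.mem_basicOpen Y f w (hO hw)).1 hwf).pow n
      · show toGerm O hO (f ^ n) * _ = toGerm O hO (f ^ n) * _
        rw [← map_mul, ← map_mul]
        exact congrArg _ (sub_eq_zero.1 (by rw [← mul_sub]; exact hn))
  exact IsLocalization.flat (Y.presheaf.stalk w) M

theorem toSpecΓ_map_injective {R : CommRingCat.{u}} {a b : R ⟶ Γ(T, ⊤)}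
    (h : T.toSpecΓ ≫ Spec.map a = T.toSpecΓ ≫ Spec.map b) : a = b := by
  have := congrArg Scheme.Hom.appTop h
  simp only [Scheme.Hom.comp_appTop, Scheme.toSpecΓ_appTop, Scheme.ΓSpecIso_naturality,
    cancel_epi] at this
  exact this

theorem mem_toSpecΓ_map {R : CommRingCat.{u}} (a : R ⟶ Γ(T, ⊤)) (b : R) (t : T) :
    (T.toSpecΓ ≫ Spec.map a) t ∈ PrimeSpectrum.basicOpen b ↔ t ∈ T.basicOpen (a b) := by
  show t ∈ (T.toSpecΓ ≫ Spec.map a) ⁻¹ᵁ PrimeSpectrum.basicOpen b ↔ _
  rw [Scheme.Hom.comp_preimage, SpecMap_preimage_basicOpen, Scheme.toSpecΓ_preimage_basicOpen]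

variable {X S : Scheme.{u}} {p : X ⟶ S} (D : _root_.Desc.SchDD p)

theorem fst_swap (t : ↥(pullback (D.obj.hom ≫ p) p)) :
    pullback.fst (D.obj.hom ≫ p) p (swap D t) = act D t := by
  rw [← Scheme.Hom.comp_apply, ← act_eq]

theorem act_swap (t : ↥(pullback (D.obj.hom ≫ p) p)) :
    act D (swap D t) = pullback.fst (D.obj.hom ≫ p) p t := by
  rw [← Scheme.Hom.comp_apply, act_eq, ← Category.assoc, swap_swap, Category.id_comp]

/-- The saturation of a subset under the descent datum. -/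
def saturation (A : Set D.obj.left) : Set D.obj.left :=
  act D '' (pullback.fst (D.obj.hom ≫ p) p ⁻¹' A)

theorem subset_saturation (A : Set D.obj.left) : A ⊆ saturation D A := fun v hv => by
  let d := pullback.lift (f := D.obj.hom ≫ p) (g := p) (𝟙 D.obj.left) D.obj.hom (Category.id_comp _)
  refine ⟨d v, ?_, ?_⟩
  · show pullback.fst (D.obj.hom ≫ p) p (d v) ∈ A
    rw [← Scheme.Hom.comp_apply, pullback.lift_fst]
    exact hv
  · rw [← Scheme.Hom.comp_apply]
    exact congrArg (fun m => m v) (move_self D (𝟙 _) D.obj.hom (Category.id_comp _) (Category.id_comp _))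

theorem act_mem_saturation (A : Set D.obj.left) (t : ↥(pullback (D.obj.hom ≫ p) p))
    (ht : pullback.fst (D.obj.hom ≫ p) p t ∈ saturation D A) : act D t ∈ saturation D A := by
  let f := pullback.fst (D.obj.hom ≫ p) p
  obtain ⟨t', ht', htt'⟩ := ht
  obtain ⟨z, hz₁, hz₂⟩ := Scheme.Pullback.exists_preimage_pullback (f := act D) (g := f) t' t htt'
  let a := pullback.fst (act D) f
  let b := pullback.snd (act D) f
  have hab : a ≫ act D = b ≫ f := pullback.condition
  let x := b ≫ pullback.snd (D.obj.hom ≫ p) p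
  have hx : (a ≫ f) ≫ D.obj.hom ≫ p = x ≫ p := by
    have e₁ : f ≫ D.obj.hom ≫ p = act D ≫ D.obj.hom ≫ p := by
      rw [reassoc_of% (act_hom D)]; exact pullback.condition
    rw [Category.assoc, e₁, reassoc_of% hab]
    exact (congrArg (b ≫ ·) pullback.condition).trans (Category.assoc _ _ _).symm
  let n := pullback.lift (a ≫ f) x hx
  refine ⟨n z, ?_, ?_⟩
  · show f (n z) ∈ A
    rw [← Scheme.Hom.comp_apply, pullback.lift_fst, Scheme.Hom.comp_apply, hz₁]
    exact ht'
  · have e : ∀ {T : Scheme.{u}} (m : T ⟶ pullback (D.obj.hom ≫ p) p),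
        m ≫ act D = move D (m ≫ f) (m ≫ pullback.snd _ _)
          (by simp only [Category.assoc, f, pullback.condition]) := fun m => by
      rw [move]
      refine congrArg (· ≫ act D) ?_
      apply pullback.hom_ext
      · exact (pullback.lift_fst _ _ _).symm
      · exact (pullback.lift_snd _ _ _).symm
    have key : n ≫ act D = b ≫ act D := by
      rw [e b]
      exact ((move_trans (hab.symm.trans (e a)) _).trans rfl).symm
    rw [← Scheme.Hom.comp_apply, key, Scheme.Hom.comp_apply, hz₂]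

/-- Quasi-compact stable opens exist around every point of an ind-quasi-affine descent datum. -/
theorem exists_stable_qc [IsAffine X] [IsAffine S] [Flat p] [Surjective p]
    (h : MoreMor.IsIndQuasiAffine D.obj.left) (v₀ : D.obj.left) :
    ∃ G : D.obj.left.Opens, v₀ ∈ G ∧ Stable D G ∧ IsCompact (G : Set D.obj.left) := by
  haveI : IsAffineHom p := isAffineHom_of_isAffine _
  let s := pullback.fst (D.obj.hom ≫ p) p
  let s' := pullback.snd (D.obj.hom ≫ p) p
  haveI : IsAffineHom s := MorphismProperty.pullback_fst (P := @IsAffineHom) _ _ ‹_›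
  haveI : Flat s := MorphismProperty.pullback_fst (P := @Flat) _ _ ‹_›
  haveI : Flat (act D) := by rw [act_eq]; infer_instance
  haveI hqs : QuasiSeparatedSpace D.obj.left := by
    refine ⟨fun U U' hU hUc hU' hUc' => ?_⟩
    let O : D.obj.left.Opens := ⟨U, hU⟩ ⊔ ⟨U', hU'⟩
    haveI := h O (by rw [Opens.coe_sup]; exact hUc.union hUc')
    have hO : IsQuasiSeparated (O : Set D.obj.left) :=
      (isQuasiSeparated_iff_quasiSeparatedSpace _ O.2).2 (inferInstanceAs (QuasiSeparatedSpace O.toScheme))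
    exact hO U U' (by simp [O]) hU hUc (by simp [O]) hU' hUc'
  -- the saturation of an affine neighbourhood and of a neighbourhood of it
  obtain ⟨_, ⟨U, hU, rfl⟩, hvU, -⟩ :=
    D.obj.left.isBasis_affineOpens.exists_subset_of_mem_open (Set.mem_univ v₀) isOpen_univ
  replace hU : IsAffineOpen U := hU
  have hcomp : ∀ A : Scheme.Opens D.obj.left, IsCompact (A : Set D.obj.left) →
      IsCompact (saturation D A) := fun A hA => (s.isCompact_preimage hA).image (act D).continuous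
  have hgen : ∀ A : Scheme.Opens D.obj.left, StableUnderGeneralization (saturation D (A : Set D.obj.left)) :=
    fun A => (Flat.generalizingMap (f := act D)).stableUnderGeneralization_image
      (A.2.preimage s.continuous).stableUnderGeneralization
  let W := saturation D (U : Set D.obj.left)
  obtain ⟨V', hWV', -, hV'c⟩ := exists_qc_nb (hcomp U hU.isCompact) ⊤ fun _ _ => trivial
  let E := saturation D (V' : Set D.obj.left)
  have hV'E : (V' : Set D.obj.left) ⊆ E := subset_saturation D _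
  have hWE : W ⊆ E := hWV'.trans hV'E
  have hEc : IsCompact E := hcomp V' hV'c
  have hEgen : StableUnderGeneralization E := hgen V'
  -- germs and invariant germs
  let s₂ : pullback (s ≫ D.obj.hom ≫ p) p ⟶ pullback (D.obj.hom ≫ p) p := pullback.fst (s ≫ D.obj.hom ≫ p) p
  let s₂' := pullback.snd (s ≫ D.obj.hom ≫ p) p
  haveI : QuasiSeparatedSpace ↥(pullback (D.obj.hom ≫ p) p) := quasiSeparatedSpace_of_quasiSeparated s
  let E₂ := s ⁻¹' E
  have hE₂c : IsCompact E₂ := by
    obtain ⟨O, hO, -, hOc⟩ := exists_qc_nb hEc ⊤ fun _ _ => trivial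
    obtain ⟨Z, g, hZ, hg⟩ : ∃ (Z : Scheme.{u}) (g : Z ⟶ D.obj.left), CompactSpace Z ∧ Set.range g = E := by
      haveI : CompactSpace V'.toScheme := isCompact_iff_compactSpace.mp hV'c
      haveI : CompactSpace (s ⁻¹ᵁ V').toScheme := isCompact_iff_compactSpace.mp (s.isCompact_preimage hV'c)
      refine ⟨(s ⁻¹ᵁ V').toScheme, (s ⁻¹ᵁ V').ι ≫ act D, inferInstance, ?_⟩
      rw [Scheme.Hom.comp_base, TopCat.coe_comp, Set.range_comp, Scheme.Opens.range_ι]
      rfl
    haveI : QuasiCompact s := inferInstance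
    haveI : CompactSpace ↥(pullback g s) := QuasiCompact.compactSpace_of_compactSpace (pullback.fst g s)
    have : E₂ = Set.range (pullback.snd g s) := by
      rw [Scheme.Pullback.range_snd, hg]
    rw [this]
    exact isCompact_range (pullback.snd g s).continuous
  have hE₂gen : StableUnderGeneralization E₂ := hEgen.preimage s.continuous
  have ha : ∀ y ∈ E₂, act D y ∈ E := fun y hy => act_mem_saturation D _ y hy
  let d := pullback.lift (f := D.obj.hom ≫ p) (g := p) (𝟙 D.obj.left) D.obj.hom (Category.id_comp _)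
  have hd₁ : d ≫ s = 𝟙 _ := pullback.lift_fst _ _ _
  have hd₂ : d ≫ s' = D.obj.hom := pullback.lift_snd _ _ _
  have hda : d ≫ act D = 𝟙 _ := move_self D (𝟙 _) D.obj.hom (Category.id_comp _) (Category.id_comp _)
  have hdE : ∀ y ∈ E, d y ∈ E₂ := fun y hy => by
    show s (d y) ∈ E
    rw [← Scheme.Hom.comp_apply, hd₁]; exact hy
  let E₃ := s₂ ⁻¹' E₂
  have w2 : s ≫ D.obj.hom ≫ p = s' ≫ p := pullback.condition
  have w3 : s₂ ≫ s ≫ D.obj.hom ≫ p = s₂' ≫ p := pullback.condition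
  have wa : (s₂ ≫ act D) ≫ D.obj.hom ≫ p = s₂' ≫ p := by
    rw [Category.assoc, reassoc_of% (act_hom D), ← w2, w3]
  have wb : (s₂ ≫ s) ≫ D.obj.hom ≫ p = s₂' ≫ p := by
    rw [Category.assoc]; exact w3
  let Φ₁ := pullback.lift (s₂ ≫ act D) s₂' wa
  let Φ₂ := pullback.lift (s₂ ≫ s) s₂' wb
  have hΦ₁ : Φ₁ ≫ s = s₂ ≫ act D := pullback.lift_fst _ _ _
  have hΦ₂ : Φ₂ ≫ s = s₂ ≫ s := pullback.lift_fst _ _ _
  have key : Φ₁ ≫ act D = Φ₂ ≫ act D := by
    have h0 : s₂ ≫ act D = move D (s₂ ≫ s) (s₂ ≫ s') (by simp only [Category.assoc]; exact congrArg (s₂ ≫ ·) w2) := by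
      rw [move]
      refine congrArg (· ≫ act D) ?_
      apply pullback.hom_ext
      · rw [pullback.lift_fst]
      · rw [pullback.lift_snd]
    refine Eq.trans ?_ (move_move D _ (s₂ ≫ s') s₂' _ (by rw [← h0]; exact wa) wb)
    exact move_congr D h0 _
  have hΦ₁E : ∀ y ∈ E₃, Φ₁ y ∈ E₂ := fun y hy => by
    show s (Φ₁ y) ∈ E
    rw [← Scheme.Hom.comp_apply, hΦ₁]; exact ha _ hy
  have hΦ₂E : ∀ y ∈ E₃, Φ₂ y ∈ E₂ := fun y hy => by
    show s (Φ₂ y) ∈ E
    rw [← Scheme.Hom.comp_apply, hΦ₂]; exact hy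
  let hB : Γ(X, ⊤) ⟶ Germ E := D.obj.hom.appTop ≫ toGerm ⊤ fun _ _ => trivial
  let f₁ : Germ E ⟶ Germ E₂ := mapGerm s fun _ h => h
  let f₂ : Γ(X, ⊤) ⟶ Germ E₂ := s'.appTop ≫ toGerm ⊤ fun _ _ => trivial
  let g₁ : Germ E₂ ⟶ Germ E₃ := mapGerm s₂ fun _ h => h
  have H2 : IsPushout (p.appTop ≫ hB) p.appTop f₁ f₂ := by
    have := isPushout_germ (IsPullback.of_hasPullback (D.obj.hom ≫ p) p) hEc hEgen
    rwa [Scheme.Hom.comp_appTop, Category.assoc] at this
  have H3 : IsPushout (p.appTop ≫ hB ≫ f₁) p.appTop g₁ (s₂'.appTop ≫ toGerm ⊤ fun _ _ => trivial) := by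
    have := isPushout_germ (IsPullback.of_hasPullback (s ≫ D.obj.hom ≫ p) p) hE₂c hE₂gen
    rw [Scheme.Hom.comp_appTop, Scheme.Hom.comp_appTop, Category.assoc, Category.assoc,
      ← top_map (E := E) s fun _ h => h] at this
    simpa only [hB, f₁, Category.assoc] using this
  have hflat : p.appTop.hom.Flat := (HasRingHomProperty.iff_of_isAffine (P := @Flat)).mp inferInstance
  obtain ⟨B₀, str, v, hpo, hv⟩ := exists_invariants p.appTop hflat hB f₁ f₂ H2 g₁ _ H3
    (mapGerm (act D) ha)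
    (by simp only [hB, f₂, Category.assoc]
        rw [top_map, ← Category.assoc, ← Scheme.Hom.comp_appTop, act_hom])
    (mapGerm d hdE)
    (by rw [map_comp s _ d hdE hd₁ (fun _ h => h)]; exact map_id _)
    (by simp only [hB, f₂, Category.assoc]
        rw [top_map, ← Category.assoc, ← Scheme.Hom.comp_appTop, hd₂])
    (by rw [map_comp (act D) _ d hdE hda (fun _ h => h)]; exact map_id _)
    (mapGerm Φ₁ hΦ₁E) (mapGerm Φ₂ hΦ₂E)
    (by rw [map_comp s _ Φ₁ hΦ₁E hΦ₁ (fun y hy => ha _ hy), map_comp (act D) _ s₂ _ rfl (fun y hy => ha _ hy)])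
    (by simp only [f₂, Category.assoc]
        rw [top_map, ← Scheme.Hom.comp_appTop_assoc]
        exact congrArg (fun m => Scheme.Hom.appTop m ≫ toGerm (E := E₃) ⊤ (fun _ _ => trivial)) (pullback.lift_snd _ _ _))
    (by rw [map_comp s _ Φ₂ hΦ₂E hΦ₂ (fun y hy => hy), map_comp s _ s₂ _ rfl (fun y hy => hy)])
    (by simp only [f₂, Category.assoc]
        rw [top_map, ← Scheme.Hom.comp_appTop_assoc]
        exact congrArg (fun m => Scheme.Hom.appTop m ≫ toGerm (E := E₃) ⊤ (fun _ _ => trivial)) (pullback.lift_snd _ _ _))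
    (by rw [map_comp (act D) _ Φ₁ hΦ₁E key (fun y hy => by
          rw [Scheme.Hom.comp_apply]; exact ha _ (hΦ₂E y hy)),
        map_comp (act D) _ Φ₂ hΦ₂E rfl (fun y hy => by rw [Scheme.Hom.comp_apply]; exact ha _ (hΦ₂E y hy))])
  -- comparison of two translates
  have hinv : ∀ {T : Scheme.{u}} (k : T ⟶ pullback (D.obj.hom ≫ p) p) (hk : ∀ t, k t ∈ E₂)
      (h₁ : ∀ t, (k ≫ s) t ∈ E) (h₂ : ∀ t, (k ≫ act D) t ∈ E),
      v ≫ evalGerm (k ≫ act D) h₂ = v ≫ evalGerm (k ≫ s) h₁ := fun k hk h₁ h₂ => by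
    rw [← map_eval (act D) ha k hk rfl h₂, ← map_eval s (fun _ h => h) k hk rfl h₁, reassoc_of% hv]
  have hnat : ∀ {T T' : Scheme.{u}} (k : T' ⟶ T) (g : T ⟶ D.obj.left) (hg : ∀ t, g t ∈ E) (hkg : ∀ t, (k ≫ g) t ∈ E),
      k ≫ T.toSpecΓ ≫ Spec.map (v ≫ evalGerm g hg) = T'.toSpecΓ ≫ Spec.map (v ≫ evalGerm (k ≫ g) hkg) := fun k g hg hkg => by
    rw [Scheme.toSpecΓ_naturality_assoc, ← Spec.map_comp, Category.assoc, eval_comp k g hg rfl hkg]
  have hvW : v₀ ∈ W := subset_saturation D _ hvU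
  -- the points of `E` outside `V'`
  let sV := s ⁻¹ᵁ V'
  haveI : CompactSpace sV.toScheme := isCompact_iff_compactSpace.mp (s.isCompact_preimage hV'c)
  let C : Closeds sV.toScheme := ⟨((sV.ι ≫ act D) ⁻¹' (V' : Set D.obj.left))ᶜ,
    (V'.2.preimage (sV.ι ≫ act D).continuous).isClosed_compl⟩
  let I := Scheme.IdealSheafData.vanishingIdeal C
  have hI : Set.range I.subschemeι = (C : Set _) := by
    rw [Scheme.IdealSheafData.range_subschemeι]; exact Scheme.IdealSheafData.coe_support_vanishingIdeal C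
  haveI : CompactSpace I.subscheme := QuasiCompact.compactSpace_of_compactSpace I.subschemeι
  let g := I.subschemeι ≫ sV.ι ≫ act D
  have hgE : ∀ y, g y ∈ E := fun y =>
    ⟨(I.subschemeι ≫ sV.ι) y, (I.subschemeι y).2, by rw [← Scheme.Hom.comp_apply, Category.assoc]⟩
  have hgV : ∀ y, g y ∉ V' := fun y => by
    have : I.subschemeι y ∈ (C : Set _) := hI ▸ ⟨y, rfl⟩
    exact this
  have hgsurj : ∀ z ∈ E, z ∉ V' → ∃ y, g y = z := by
    rintro _ ⟨t, ht, rfl⟩ hz
    obtain ⟨y, hy⟩ : (⟨t, ht⟩ : sV.toScheme) ∈ Set.range I.subschemeι := by rw [hI]; exact hz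
    exact ⟨y, by rw [Scheme.Hom.comp_apply, hy]; rfl⟩
  let πg := I.subscheme.toSpecΓ ≫ Spec.map (v ≫ evalGerm g hgE)
  -- the local ring at `v₀`
  let ι₀ := D.obj.left.fromSpecStalk v₀
  have hι₀ : ∀ t, ι₀ t ∈ E := spec_stalk_mem hEgen (hWE hvW)
  let π₀ := (Spec (D.obj.left.presheaf.stalk v₀)).toSpecΓ ≫ Spec.map (v ≫ evalGerm ι₀ hι₀)
  have hπ₀ : π₀ = Spec.map (v ≫ germToStalk hEgen (hWE hvW)) := by
    rw [germToStalk, ← Category.assoc v, Spec.map_comp, SpecMap_ΓSpecIso_hom]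
  haveI : Flat π₀ := by
    rw [hπ₀, Spec.map_comp]
    haveI : Flat (Spec.map (germToStalk hEgen (hWE hvW))) := (HasRingHomProperty.Spec_iff (P := @Flat)).2
      (flat_germToStalk hEc hEgen (fun O hO => h O hO) (hWE hvW))
    haveI : Flat (Spec.map v) := MorphismProperty.of_isPullback (P := @Flat)
      (isPullback_SpecMap_of_isPushout _ _ _ _ hpo).flip ((HasRingHomProperty.Spec_iff (P := @Flat)).2 hflat)
    infer_instance
  let c₀ := IsLocalRing.closedPoint (D.obj.left.presheaf.stalk v₀)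
  have hc₀ : ι₀ c₀ = v₀ := Scheme.fromSpecStalk_closedPoint
  have hnot : π₀ c₀ ∉ closure (Set.range πg) := by
    intro hcl
    obtain ⟨y, hy⟩ := exists_specializes_of_mem_closure_range πg hcl
    obtain ⟨t, -, ht⟩ := (Flat.generalizingMap (f := π₀)) hy
    obtain ⟨c, hc₁, hc₂⟩ := Scheme.Pullback.exists_preimage_pullback (f := π₀) (g := πg) t y ht
    let ξ := pullback.fst π₀ πg ≫ ι₀
    let η := pullback.snd π₀ πg ≫ g
    have hξW : ∀ z, ξ z ∈ W := fun z => by
      rw [Scheme.Hom.comp_apply]; exact spec_stalk_mem (hgen U) hvW _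
    have hηE : ∀ z, η z ∈ E := fun z => by rw [Scheme.Hom.comp_apply]; exact hgE _
    have hev : v ≫ evalGerm ξ (fun z => hWE (hξW z)) = v ≫ evalGerm η hηE := by
      refine toSpecΓ_map_injective ?_
      rw [← hnat _ ι₀ hι₀, ← hnat _ g hgE]
      exact pullback.condition
    have hS : ξ ≫ D.obj.hom ≫ p = η ≫ D.obj.hom ≫ p := by
      apply ext_of_isAffine
      have := congrArg (str ≫ ·) hev
      simp only [← Category.assoc, hpo.w] at this
      simpa only [hB, Category.assoc, toGerm_top_eval, Scheme.Hom.comp_appTop] using this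
    let r := pullback.lift (f := D.obj.hom ≫ p) (g := p) ξ (η ≫ D.obj.hom) (by rw [hS]; exact (Category.assoc _ _ _).symm)
    have hr : r ≫ s = ξ := pullback.lift_fst _ _ _
    have hrE : ∀ z, r z ∈ E₂ := fun z => by
      show s (r z) ∈ E
      rw [← Scheme.Hom.comp_apply, hr]; exact hWE (hξW z)
    have hr₁ : ∀ z, (r ≫ s) z ∈ E := fun z => by rw [hr]; exact hWE (hξW z)
    have hr₂ : ∀ z, (r ≫ act D) z ∈ E := fun z => by rw [Scheme.Hom.comp_apply]; exact ha _ (hrE z)
    have hev' : evalGerm (r ≫ act D) hr₂ = evalGerm η hηE := by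
      apply hpo.hom_ext
      · rw [hinv r hrE hr₁ hr₂, ← hev]
        congr 2
      · simp only [hB, Category.assoc, toGerm_top_eval, ← Scheme.Hom.comp_appTop]
        rw [Category.assoc, act_hom, pullback.lift_snd]
        simp only [η, Category.assoc]
    obtain ⟨O, hO, -, hOc⟩ := exists_qc_nb hEc ⊤ fun _ _ => trivial
    haveI := h O hOc
    have heq : r ≫ act D = η := by
      have hl : ∀ (m : pullback π₀ πg ⟶ D.obj.left), (∀ z, m z ∈ E) → Set.range m ⊆ Set.range O.ι := fun m hm => by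
        rintro _ ⟨z, rfl⟩; rw [Scheme.Opens.range_ι]; exact hO (hm z)
      let m₁ := IsOpenImmersion.lift O.ι (r ≫ act D) (hl _ hr₂)
      let m₂ := IsOpenImmersion.lift O.ι η (hl _ hηE)
      have he₁ : m₁ ≫ O.ι = r ≫ act D := IsOpenImmersion.lift_fac _ _ _
      have he₂ : m₂ ≫ O.ι = η := IsOpenImmersion.lift_fac _ _ _
      suffices m₁ = m₂ by rw [← he₁, ← he₂, this]
      rw [← cancel_mono O.toScheme.toSpecΓ, Scheme.toSpecΓ_naturality, Scheme.toSpecΓ_naturality]
      congr 2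
      have hh := congrArg (toGerm O hO ≫ ·) hev'
      simp only [toGerm_eval] at hh
      simp only [← he₁, ← he₂] at hh
      rw [← Scheme.Hom.appLE_comp_appLE m₁ O.ι O ⊤ ⊤ (by simp) le_top,
        ← Scheme.Hom.appLE_comp_appLE m₂ O.ι O ⊤ ⊤ (by simp) le_top, appTop_eq_appLE, appTop_eq_appLE] at hh
      haveI : IsIso (O.ι.appLE O ⊤ (by simp)) := by
        rw [Scheme.Opens.ι_appLE, Subsingleton.elim (homOfLE _) (eqToHom (Scheme.Opens.ι_image_top O))]; infer_instance
      exact (cancel_epi _).1 hh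
    have hmem : act D (r c) ∈ W := act_mem_saturation D _ (r c) (by
      rw [← Scheme.Hom.comp_apply, hr]; exact hξW c)
    refine hgV y (hWV' ?_)
    rw [← Scheme.Hom.comp_apply, heq, Scheme.Hom.comp_apply, hc₂] at hmem
    exact hmem
  obtain ⟨_, ⟨b, rfl⟩, hb₀, hbd⟩ := (PrimeSpectrum.isTopologicalBasis_basic_opens (R := B₀)).exists_subset_of_mem_open
    (show π₀ c₀ ∈ (closure (Set.range πg))ᶜ from hnot) isClosed_closure.isOpen_compl
  obtain ⟨O₁, hO₁, β₁, hβ₁⟩ := Germ.exists_rep (v b)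
  obtain ⟨O, hO, hle, hOc⟩ := exists_qc_nb hEc O₁ hO₁
  let β := D.obj.left.presheaf.map (homOfLE hle).op β₁
  have hβ : toGerm O hO β = v b := (ConcreteCategory.congr_hom (res_toGerm hle hO) β₁).trans hβ₁
  have hmem : ∀ {T : Scheme.{u}} (m : T ⟶ D.obj.left) (hm : ∀ t, m t ∈ E) (t : T),
      (T.toSpecΓ ≫ Spec.map (v ≫ evalGerm m hm)) t ∈ PrimeSpectrum.basicOpen b ↔ m t ∈ D.obj.left.basicOpen β := by
    intro T m hm t
    rw [mem_toSpecΓ_map]
    have : (v ≫ evalGerm m hm) b = m.appLE O ⊤ (fun t _ => hO (hm t)) β := by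
      show evalGerm m hm (v b) = _
      rw [← hβ]
      exact ConcreteCategory.congr_hom (toGerm_eval m hm O hO) β
    rw [this, Scheme.basicOpen_appLE]
    exact and_iff_right trivial
  refine ⟨D.obj.left.basicOpen β ⊓ V', ⟨?_, hWV' hvW⟩, fun t ht => ?_, ?_⟩
  · rw [← hc₀]
    exact (hmem ι₀ hι₀ c₀).1 hb₀
  · have htE : t ∈ E₂ := hV'E ht.2
    let k := (pullback (D.obj.hom ≫ p) p).fromSpecResidueField t
    have hk : ∀ z, k z = t := fun z => Scheme.fromSpecResidueField_apply t z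
    let z₀ := IsLocalRing.closedPoint (pullback (D.obj.hom ≫ p) p |>.residueField t)
    have hk₁ : ∀ z, (k ≫ s) z ∈ E := fun z => by rw [Scheme.Hom.comp_apply, hk]; exact htE
    have hk₂ : ∀ z, (k ≫ act D) z ∈ E := fun z => by rw [Scheme.Hom.comp_apply, hk]; exact ha _ htE
    have hE := hinv k (fun z => by rw [hk]; exact htE) hk₁ hk₂
    have hact : act D t ∈ D.obj.left.basicOpen β := by
      have h1 := (hmem _ hk₁ z₀).2 (by rw [Scheme.Hom.comp_apply, hk]; exact ht.1)
      rw [← hE] at h1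
      have h2 := (hmem _ hk₂ z₀).1 h1
      rwa [Scheme.Hom.comp_apply, hk] at h2
    refine ⟨hact, ?_⟩
    by_contra hn
    obtain ⟨y, hy⟩ := hgsurj _ (ha _ htE) hn
    rw [← hy] at hact
    exact hbd ((hmem g hgE y).2 hact) (subset_closure ⟨y, rfl⟩)
  · rw [Opens.coe_inf]
    refine QuasiSeparatedSpace.inter_isCompact _ _ (D.obj.left.basicOpen β).2 ?_ V'.2 hV'c
    exact isCompact_basicOpen _ hOc β

/-- Over affine schemes, fpqc descent data which are ind-quasi-affine have quotients. -/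
theorem quot_of_indQuasiAffine_fpqc [IsAffine X] [IsAffine S] [Flat p] [Surjective p]
    (h : MoreMor.IsIndQuasiAffine D.obj.left) : Nonempty (Quot D ⊤) := by
  haveI : IsAffineHom p := isAffineHom_of_isAffine _
  haveI : IsFpqc p := IsFpqc.of_quasiCompact p
  refine quot_top fun v => ?_
  obtain ⟨W, hv, hW, hWc⟩ := exists_stable_qc D h v
  refine ⟨W, hv, quot_of_restrict D W hW ?_⟩
  haveI : (restrictDD D W hW).obj.left.IsQuasiAffine := h W hWc
  exact quot_of_quasiAffine _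

end Groth.Agent.SchDesc
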