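import Groth.Agent.SchDesc.Glue
import Groth.Agent.SchDesc.QAff
import Groth.Agent.QAffLib.Basic
import Groth.Agent.FpqcDesc.Basic
import Groth.Agent.S2339

/-!
# Quasi-affine morphisms descend
-/

set_option autoImplicit false
set_option linter.style.haveILetI false
universe u
open CategoryTheory CategoryTheory.Limits AlgebraicGeometry

namespace Groth.Agent.SchDesc

/-- The quotient of a canonical descent datum. -/
noncomputable def canonicalQuot {X S : Scheme.{u}} (p : X ⟶ S) (U : Over S) :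
    Quot ((_root_.Desc.toDD p).obj U) ⊤ where
  U := U.left
  str := U.hom
  π := (Scheme.topIso _).hom ≫ pullback.snd p U.hom
  isPullback := (IsPullback.of_hasPullback p U.hom).of_iso (Scheme.topIso _).symm (.refl _) (.refl _) (.refl _)
    (by simp only [Iso.refl_hom, Category.comp_id, Iso.symm_hom, ← Scheme.topIso_hom]
        exact (Iso.inv_hom_id_assoc _ _).symm) (by simp; exact (Iso.inv_hom_id_assoc _ _).symm) (by simp) (by simp)
  stable := stable_top
  inv {T} t t' x h e := by
    rw [Scheme.topIso_hom, ← Category.assoc, ← Category.assoc]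
    have e' : (((_root_.Desc.toDD p).obj U).φ _ x (by rw [Category.assoc]; exact h)
        ⟨t ≫ (⊤ : ((_root_.Desc.toDD p).obj U).obj.left.Opens).ι, rfl⟩).1 = t' ≫ _ :=
      (φ_eq_move _ _ _ _ _).trans e
    rw [← e']
    exact (pullback.lift_snd _ _ _).symm

/-- Two quotients of a descent datum are isomorphic. -/
theorem Quot.isIso_map {X S : Scheme.{u}} {p : X ⟶ S} [IsFpqc p] {D : _root_.Desc.SchDD p}
    {W : D.obj.left.Opens} (Q Q' : Quot D W) : IsIso (Q.map Q' le_rfl) :=
  ⟨Q'.map Q le_rfl, by rw [Q.map_map, Q.map_self], by rw [Q'.map_map, Q'.map_self]⟩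

set_option backward.isDefEq.respectTransparency false in
theorem isQuasiAffine_descends :
    MorphismProperty.DescendsAlong (fun _ _ f => Mor2.IsQuasiAffine f : MorphismProperty Scheme.{u})
      (@Surjective ⊓ @Flat ⊓ @QuasiCompact : MorphismProperty Scheme.{u}) := by
  refine ⟨fun {A X Y Z fst snd g h} hpb hg hfst => ?_⟩
  obtain ⟨⟨hs, hf⟩, hq⟩ := hg
  haveI : IsFpqc g := IsFpqc.of_quasiCompact g
  haveI := @Groth.Agent.FpqcDesc.quasiCompact_descends.{u}
  haveI hqc : QuasiCompact h := MorphismProperty.of_isPullback_of_descendsAlong (P := @QuasiCompact)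
    (Q := @Surjective ⊓ @Flat ⊓ @QuasiCompact) hpb ⟨⟨hs, hf⟩, hq⟩ hfst.1
  refine ⟨hqc, fun V hV => ?_⟩
  obtain ⟨Q, q, l, hQ, -, -, hw, hl, hl', hl''⟩ := IsFpqc.exists_affine g hV
  haveI : IsAffine (V : Scheme.{u}) := hV
  haveI : IsFpqc l := IsFpqc.of_quasiCompact l
  let D := (_root_.Desc.toDD l).obj (Over.mk (h ∣_ V))
  haveI : D.obj.left.IsQuasiAffine := by
    refine Groth.Agent.QAffLib.qa_source (Y := Q) (pullback.fst l (h ∣_ V)) ?_
    have h0 := Groth.Agent.S2339.result fst hfst q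
    have h1 : IsPullback (pullback.snd l (h ∣_ V) ≫ (h ⁻¹ᵁ V).ι) (pullback.fst l (h ∣_ V)) h (l ≫ V.ι) :=
      (IsPullback.of_hasPullback l (h ∣_ V)).flip.paste_horiz (isPullback_morphismRestrict h V).flip
    have h2 : IsPullback (pullback.fst fst q ≫ snd) (pullback.snd fst q) h (l ≫ V.ι) := by
      rw [← hw]; exact (IsPullback.of_hasPullback fst q).paste_horiz hpb.flip
    let e := h1.isoIsPullback _ _ h2
    rw [← h1.isoIsPullback_hom_snd _ _ h2]
    refine ⟨?_, fun O hO => ?_⟩
    · haveI := h0.1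
      infer_instance
    · haveI := h0.2 O hO
      haveI : IsIso (e.hom ∣_ (pullback.snd fst q ⁻¹ᵁ O)) :=
        IsZariskiLocalAtTarget.restrict (P := MorphismProperty.isomorphisms Scheme.{u})
          (inferInstance : IsIso e.hom) _
      exact Groth.Agent.QAffLib.of_iso (e.hom ∣_ (pullback.snd fst q ⁻¹ᵁ O))
  obtain ⟨Q₁, hQ₁⟩ := quot_of_quasiAffine' D
  let m : (h ⁻¹ᵁ V : Scheme.{u}) ⟶ Q₁.U := (canonicalQuot l (Over.mk (h ∣_ V))).map Q₁ le_rfl
  haveI : IsIso m := (canonicalQuot l (Over.mk (h ∣_ V))).isIso_map Q₁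
  exact Groth.Agent.QAffLib.of_iso m

end Groth.Agent.SchDesc
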