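import Groth.Agent.DomLib.ProConsClosure

/-!
# Rings of germs of functions along a subset of a scheme
-/

set_option autoImplicit false
set_option linter.style.haveILetI false
set_option backward.isDefEq.respectTransparency false
universe u
open CategoryTheory CategoryTheory.Limits AlgebraicGeometry TopologicalSpace Opposite

noncomputable section

namespace Groth.Agent.SchDesc

variable {Y Y' T T' : Scheme.{u}}

/-- Open neighbourhoods of a subset. -/
abbrev NbOf (E : Set Y) := {O : Y.Opens // E ⊆ O}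

theorem appTop_eq_appLE (f : Y' ⟶ Y) {h : (⊤ : Y'.Opens) ≤ f ⁻¹ᵁ ⊤} : f.appLE ⊤ ⊤ h = f.appTop :=
  (Scheme.Hom.app_eq_appLE f).symm

/-- The sections on the neighbourhoods of a subset. -/
def nbSections (E : Set Y) : (NbOf E)ᵒᵖ ⥤ CommRingCat.{u} :=
  (Subtype.mono_coe _).functor.op ⋙ Y.presheaf

/-- The ring of germs along a subset. -/
def Germ (E : Set Y) : CommRingCat.{u} := colimit (nbSections E)

/-- The germ of a section. -/
def toGerm {E : Set Y} (O : Y.Opens) (hO : E ⊆ O) : Γ(Y, O) ⟶ Germ E :=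
  colimit.ι (nbSections E) (op ⟨O, hO⟩)

@[reassoc]
theorem res_toGerm {E : Set Y} {O O' : Y.Opens} (h : O' ≤ O) (hO' : E ⊆ O') :
    Y.presheaf.map (homOfLE h).op ≫ toGerm O' hO' = toGerm O (hO'.trans h) :=
  colimit.w (nbSections E) (homOfLE (show (⟨O', hO'⟩ : NbOf E) ≤ ⟨O, hO'.trans h⟩ from h)).op

theorem Germ.hom_ext {E : Set Y} {Z : CommRingCat.{u}} {a b : Germ E ⟶ Z}
    (h : ∀ (O : Y.Opens) (hO : E ⊆ O), toGerm O hO ≫ a = toGerm O hO ≫ b) : a = b :=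
  colimit.hom_ext fun j => h j.unop.1 j.unop.2

theorem Germ.exists_rep {E : Set Y} (x : Germ E) :
    ∃ (O : Y.Opens) (hO : E ⊆ O) (s : Γ(Y, O)), toGerm O hO s = x := by
  haveI : IsFiltered (NbOf E)ᵒᵖ := by
    haveI : IsCodirectedOrder (NbOf E) :=
      ⟨fun a b => ⟨⟨a.1 ⊓ b.1, fun e he => ⟨a.2 he, b.2 he⟩⟩,
        Subtype.coe_le_coe.1 inf_le_left, Subtype.coe_le_coe.1 inf_le_right⟩⟩
    haveI : Nonempty (NbOf E) := ⟨⟨⊤, fun _ _ => trivial⟩⟩
    infer_instance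
  obtain ⟨j, s, hs⟩ := Concrete.colimit_exists_rep (nbSections E) x
  exact ⟨j.unop.1, j.unop.2, s, hs⟩

/-- Functoriality of germs. -/
def mapGerm {E : Set Y} {E' : Set Y'} (f : Y' ⟶ Y) (h : ∀ y ∈ E', f y ∈ E) : Germ E ⟶ Germ E' :=
  colimit.desc (nbSections E)
    { pt := Germ E'
      ι := { app := fun j => f.app j.unop.1 ≫ toGerm (f ⁻¹ᵁ j.unop.1) fun y hy => j.unop.2 (h y hy)
             naturality := fun j k a => by
               dsimp [nbSections]
               rw [Category.comp_id, ← Category.assoc, Scheme.Hom.naturality, Category.assoc]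
               exact congrArg (f.app j.unop.1 ≫ ·)
                 (res_toGerm (f.preimage_mono a.unop.le) (fun y hy => k.unop.2 (h y hy))) } }

@[reassoc]
theorem toGerm_map {E : Set Y} {E' : Set Y'} (f : Y' ⟶ Y) (h : ∀ y ∈ E', f y ∈ E)
    (O : Y.Opens) (hO : E ⊆ O) :
    toGerm O hO ≫ mapGerm f h = f.app O ≫ toGerm (f ⁻¹ᵁ O) fun y hy => hO (h y hy) :=
  colimit.ι_desc _ _

/-- Evaluation of germs along a morphism landing in the subset. -/
def evalGerm {E : Set Y} (g : T ⟶ Y) (h : ∀ t, g t ∈ E) : Germ E ⟶ Γ(T, ⊤) :=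
  colimit.desc (nbSections E)
    { pt := Γ(T, ⊤)
      ι := { app := fun j => g.appLE j.unop.1 ⊤ fun t _ => j.unop.2 (h t)
             naturality := fun j k a => by
               dsimp [nbSections]
               rw [Category.comp_id, Scheme.Hom.map_appLE] } }

@[reassoc]
theorem toGerm_eval {E : Set Y} (g : T ⟶ Y) (h : ∀ t, g t ∈ E) (O : Y.Opens) (hO : E ⊆ O) :
    toGerm O hO ≫ evalGerm g h = g.appLE O ⊤ fun t _ => hO (h t) :=
  colimit.ι_desc _ _

theorem toGerm_top_eval {E : Set Y} (g : T ⟶ Y) (h : ∀ t, g t ∈ E) :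
    toGerm ⊤ (fun _ _ => trivial) ≫ evalGerm g h = g.appTop := by
  rw [toGerm_eval, appTop_eq_appLE]

theorem map_eval {E : Set Y} {E' : Set Y'} (f : Y' ⟶ Y) (hf : ∀ y ∈ E', f y ∈ E)
    (g : T ⟶ Y') (hg : ∀ t, g t ∈ E') {gf : T ⟶ Y} (e : g ≫ f = gf) (h : ∀ t, gf t ∈ E) :
    mapGerm f hf ≫ evalGerm g hg = evalGerm gf h := by
  subst e
  refine Germ.hom_ext fun O hO => ?_
  rw [toGerm_map_assoc, toGerm_eval, toGerm_eval, Scheme.Hom.comp_appLE]

theorem eval_comp {E : Set Y} (k : T' ⟶ T) (g : T ⟶ Y) (hg : ∀ t, g t ∈ E) {kg : T' ⟶ Y}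
    (e : k ≫ g = kg) (h : ∀ t, kg t ∈ E) : evalGerm g hg ≫ k.appTop = evalGerm kg h := by
  subst e
  refine Germ.hom_ext fun O hO => ?_
  rw [toGerm_eval_assoc, toGerm_eval, ← appTop_eq_appLE k (h := le_top), Scheme.Hom.appLE_comp_appLE]

theorem map_comp {Z : Scheme.{u}} {E : Set Y} {E' : Set Y'} {E'' : Set Z} (f : Y' ⟶ Y)
    (hf : ∀ y ∈ E', f y ∈ E) (g : Z ⟶ Y') (hg : ∀ z ∈ E'', g z ∈ E')
    {gf : Z ⟶ Y} (e : g ≫ f = gf) (h : ∀ z ∈ E'', gf z ∈ E) :
    mapGerm f hf ≫ mapGerm g hg = mapGerm gf h := by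
  subst e
  refine Germ.hom_ext fun O hO => ?_
  rw [toGerm_map_assoc, toGerm_map, toGerm_map, Scheme.Hom.comp_app, Category.assoc]
  rfl

theorem map_id {E : Set Y} (h : ∀ y ∈ E, (𝟙 Y : Y ⟶ Y) y ∈ E) : mapGerm (𝟙 Y) h = 𝟙 (Germ E) := by
  refine Germ.hom_ext fun O hO => ?_
  rw [toGerm_map, Category.comp_id, Scheme.Hom.id_app]
  exact Category.id_comp _

theorem top_map {E : Set Y} {E' : Set Y'} (f : Y' ⟶ Y) (h : ∀ y ∈ E', f y ∈ E) :
    toGerm ⊤ (fun _ _ => trivial) ≫ mapGerm f h = f.appTop ≫ toGerm ⊤ fun _ _ => trivial :=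
  toGerm_map f h ⊤ _

/-- A compact subset has arbitrarily small quasi-compact neighbourhoods. -/
theorem exists_qc_nb {E : Set Y} (hE : IsCompact E) (O : Y.Opens) (hO : E ⊆ O) :
    ∃ K : Y.Opens, E ⊆ K ∧ K ≤ O ∧ IsCompact (K : Set Y) := by
  have hex : ∀ y : E, ∃ A : Y.Opens, IsAffineOpen A ∧ y.1 ∈ A ∧ A ≤ O := fun y => by
    obtain ⟨_, ⟨A, hA, rfl⟩, hyA, hle⟩ := Y.isBasis_affineOpens.exists_subset_of_mem_open
      (hO y.2) O.2
    exact ⟨A, hA, hyA, hle⟩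
  choose A hA hyA hle using hex
  obtain ⟨s, hs⟩ := hE.elim_finite_subcover (fun y : E => (A y : Set Y)) (fun y => (A y).2)
    fun y hy => Set.mem_iUnion.2 ⟨⟨y, hy⟩, hyA _⟩
  refine ⟨⨆ y ∈ s, A y, fun y hy => ?_, iSup₂_le fun y _ => hle y, ?_⟩
  · obtain ⟨z, hz, hyz⟩ := Set.mem_iUnion₂.1 (hs hy)
    exact (le_iSup₂ (f := fun z _ => A z) z hz : A z ≤ _) hyz
  · simp only [Opens.coe_iSup]
    exact s.finite_toSet.isCompact_biUnion fun y _ => (hA y).isCompact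

/-- Points of the closure of the range of a quasi-compact morphism are specializations of points of the range. -/
theorem exists_specializes_of_mem_closure_range {W V : Scheme.{u}} [CompactSpace W] (g : W ⟶ V)
    [QuasiSeparatedSpace V] {v : V} (hv : v ∈ closure (Set.range g)) : ∃ w, g w ⤳ v := by
  obtain ⟨_, ⟨U, hU, rfl⟩, hvU, -⟩ := V.isBasis_affineOpens.exists_subset_of_mem_open (Set.mem_univ v) isOpen_univ
  haveI : IsAffine (Scheme.Opens.toScheme U) := hU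
  replace hU : IsAffineOpen U := hU
  haveI : QuasiCompact g := quasiCompact_of_compactSpace g
  haveI : CompactSpace (g ⁻¹ᵁ U).toScheme :=
    isCompact_iff_compactSpace.mp (QuasiCompact.isCompact_preimage (f := g) _ U.2 hU.isCompact)
  obtain ⟨R, c, hc⟩ := compactSpace_iff_exists.mp (inferInstance : CompactSpace (g ⁻¹ᵁ U).toScheme)
  have hv' : (⟨v, hvU⟩ : (Scheme.Opens.toScheme U)) ∈ closure (Set.range (c ≫ g ∣_ U)) := by
    have h1 : Set.range (c ≫ g ∣_ U) = (Scheme.Opens.ι U) ⁻¹' Set.range g := by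
      ext z
      constructor
      · rintro ⟨r, rfl⟩
        exact ⟨(g ⁻¹ᵁ U).ι (c r), by
          rw [← Scheme.Hom.comp_apply, ← Scheme.Hom.comp_apply, ← Scheme.Hom.comp_apply, Category.assoc, morphismRestrict_ι]⟩
      · rintro ⟨w, hw⟩
        have hwU : w ∈ g ⁻¹ᵁ U := by show g w ∈ U; rw [hw]; exact z.2
        obtain ⟨r, hr⟩ := hc ⟨w, hwU⟩
        refine ⟨r, (Scheme.Opens.ι U).isOpenEmbedding.injective ?_⟩
        rw [Scheme.Hom.comp_apply, hr, ← Scheme.Hom.comp_apply, morphismRestrict_ι]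
        exact hw
    rw [h1, ← (Scheme.Opens.ι U).isOpenEmbedding.isOpenMap.preimage_closure_eq_closure_preimage (Scheme.Opens.ι U).continuous]
    exact hv
  obtain ⟨r, hr⟩ := DomLib.exists_specializes_of_mem_closure_range (c ≫ g ∣_ U) hv'
  refine ⟨(g ⁻¹ᵁ U).ι (c r), ?_⟩
  have := hr.map (Scheme.Opens.ι U).continuous
  rw [← Scheme.Hom.comp_apply, Category.assoc, morphismRestrict_ι] at this
  exact this

/-- Neighbourhoods of the inverse image of a quasi-compact generalizing subset contain inverse images of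
neighbourhoods. -/
theorem exists_nb_preimage_le {E : Set Y} (hE : IsCompact E) (hgen : StableUnderGeneralization E)
    [QuasiSeparatedSpace Y] (f : Y' ⟶ Y) [QuasiCompact f] (N : Y'.Opens) (hN : f ⁻¹' E ⊆ N) :
    ∃ O : Y.Opens, E ⊆ O ∧ IsCompact (O : Set Y) ∧ f ⁻¹ᵁ O ≤ N := by
  obtain ⟨O₁, hEO₁, -, hO₁⟩ := exists_qc_nb hE ⊤ fun _ _ => trivial
  haveI : CompactSpace O₁.toScheme := isCompact_iff_compactSpace.mp hO₁
  haveI : CompactSpace (f ⁻¹ᵁ O₁).toScheme :=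
    isCompact_iff_compactSpace.mp (QuasiCompact.isCompact_preimage (f := f) _ O₁.2 hO₁)
  let C : Closeds (f ⁻¹ᵁ O₁).toScheme := ⟨((f ⁻¹ᵁ O₁).ι ⁻¹' (N : Set Y'))ᶜ, by
    exact (N.2.preimage (f ⁻¹ᵁ O₁).ι.continuous).isClosed_compl⟩
  let I := Scheme.IdealSheafData.vanishingIdeal C
  have hI : Set.range I.subschemeι = (C : Set _) := by
    rw [Scheme.IdealSheafData.range_subschemeι]; exact Scheme.IdealSheafData.coe_support_vanishingIdeal C
  haveI : CompactSpace I.subscheme := QuasiCompact.compactSpace_of_compactSpace I.subschemeι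
  let g := I.subschemeι ≫ (f ⁻¹ᵁ O₁).ι ≫ f
  have hdisj : Disjoint E (closure (Set.range g)) := by
    rw [Set.disjoint_left]
    intro e he hcl
    obtain ⟨w, hw⟩ := exists_specializes_of_mem_closure_range g hcl
    have h1 : g w ∈ E := hgen hw he
    have h2 : I.subschemeι w ∈ (C : Set _) := hI ▸ ⟨w, rfl⟩
    exact h2 (hN h1)
  let O₂ : Y.Opens := ⟨(O₁ : Set Y) \ closure (Set.range g), O₁.2.sdiff isClosed_closure⟩
  obtain ⟨O, hEO, hle, hO⟩ := exists_qc_nb hE O₂ fun e he => ⟨hEO₁ he, fun h => Set.disjoint_left.1 hdisj he h⟩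
  refine ⟨O, hEO, hO, fun y hy => ?_⟩
  by_contra hyN
  have hy1 : y ∈ f ⁻¹ᵁ O₁ := (hle hy).1
  obtain ⟨w, hw⟩ : (⟨y, hy1⟩ : (f ⁻¹ᵁ O₁).toScheme) ∈ Set.range I.subschemeι := by rw [hI]; exact hyN
  refine (hle hy).2 (subset_closure ⟨w, ?_⟩)
  show g w = f y
  rw [Scheme.Hom.comp_apply, hw, Scheme.Hom.comp_apply]
  rfl

/-- Germs along a quasi-compact generalizing subset commute with flat affine base change. -/
theorem isPushout_germ {X S : Scheme.{u}} [IsAffine X] [IsAffine S] {p : X ⟶ S} [Flat p]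
    [QuasiSeparatedSpace Y] {f : Y' ⟶ Y} {iY' : Y' ⟶ X} {iY : Y ⟶ S} (H : IsPullback f iY' iY p)
    {E : Set Y} (hE : IsCompact E) (hgen : StableUnderGeneralization E) :
    IsPushout (iY.appTop ≫ toGerm (E := E) ⊤ fun _ _ => trivial) p.appTop
      (mapGerm (E := E) (E' := f ⁻¹' E) f fun _ h => h) (iY'.appTop ≫ toGerm ⊤ fun _ _ => trivial) := by
  haveI : IsAffineHom p := isAffineHom_of_isAffine _
  haveI : IsAffineHom f := MorphismProperty.of_isPullback H.flip ‹IsAffineHom p›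
  have hc : iY.appTop ≫ toGerm (E := E) ⊤ (fun _ _ => trivial) ≫ mapGerm (E' := f ⁻¹' E) f (fun _ h => h) =
      p.appTop ≫ iY'.appTop ≫ toGerm ⊤ fun _ _ => trivial := by
    rw [top_map, ← Category.assoc, ← Category.assoc, ← Scheme.Hom.comp_appTop, ← Scheme.Hom.comp_appTop, H.w]
  have hpo : ∀ O : Y.Opens, IsCompact (O : Set Y) → IsPushout (iY.appLE ⊤ O le_top) (p.appLE ⊤ ⊤ le_top)
      (f.appLE O (f ⁻¹ᵁ O) le_rfl) (iY'.appLE ⊤ (f ⁻¹ᵁ O) le_top) := fun O hO => by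
    have hqs : IsQuasiSeparated (O : Set Y) := IsQuasiSeparated.of_quasiSeparatedSpace _
    exact (isIso_pushoutSection_iff H (US := ⊤) (UT := ⊤) (UX := O) (UY := f ⁻¹ᵁ O) le_top le_top (by simp)).mp
      (isIso_pushoutSection_of_isQuasiSeparated_of_flat_right H (US := ⊤) (UT := ⊤) (UX := O) (UY := f ⁻¹ᵁ O)
        le_top le_top (by simp) (isAffineOpen_top S) (isAffineOpen_top X) hO hqs)
  refine IsPushout.mk ⟨by rw [Category.assoc]; exact hc⟩ ⟨PushoutCocone.isColimitAux' _ fun s => ?_⟩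
  have key : ∀ O : Y.Opens, E ⊆ O → IsCompact (O : Set Y) → ∀ hE' : E ⊆ O,
      iY.appLE ⊤ O le_top ≫ toGerm O hE' ≫ s.inl = p.appLE ⊤ ⊤ le_top ≫ s.inr := fun O hO _ hE' => by
    have h1 : iY.appLE ⊤ O le_top ≫ toGerm O hE' = iY.appTop ≫ toGerm (E := E) ⊤ fun _ _ => trivial := by
      rw [← res_toGerm (O := ⊤) le_top hE', ← Category.assoc]; rfl
    rw [← Category.assoc, h1, s.condition, appTop_eq_appLE]
  let ℓ : ∀ (O : Y.Opens) (hO : E ⊆ O), IsCompact (O : Set Y) → (Γ(Y', f ⁻¹ᵁ O) ⟶ s.pt) := fun O hO hc' =>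
    (hpo O hc').desc (toGerm O hO ≫ s.inl) s.inr (key O hO hc' hO)
  have hres : ∀ (O O' : Y.Opens) (hO : E ⊆ O) (hc' : IsCompact (O : Set Y)) (hO' : E ⊆ O')
      (hc'' : IsCompact (O' : Set Y)) (hle : O' ≤ O),
      Y'.presheaf.map (homOfLE (f.preimage_mono hle)).op ≫ ℓ O' hO' hc'' = ℓ O hO hc' := by
    intro O O' hO hc' hO' hc'' hle
    apply (hpo O hc').hom_ext
    · rw [IsPushout.inl_desc, Scheme.Hom.appLE_map_assoc,
        ← Scheme.Hom.map_appLE f le_rfl (homOfLE hle).op, Category.assoc, IsPushout.inl_desc,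
        res_toGerm_assoc]
    · rw [IsPushout.inr_desc, Scheme.Hom.appLE_map_assoc, IsPushout.inr_desc]
  have hex : ∀ N : NbOf (f ⁻¹' E), ∃ O : Y.Opens, E ⊆ O ∧ IsCompact (O : Set Y) ∧ f ⁻¹ᵁ O ≤ N.1 :=
    fun N => exists_nb_preimage_le hE hgen f N.1 N.2
  choose O hO hOc hON using hex
  let val : ∀ N : NbOf (f ⁻¹' E), Γ(Y', N.1) ⟶ s.pt := fun N =>
    Y'.presheaf.map (homOfLE (hON N)).op ≫ ℓ (O N) (hO N) (hOc N)
  have hval : ∀ (N : NbOf (f ⁻¹' E)) (K : Y.Opens) (hK : E ⊆ K) (hKc : IsCompact (K : Set Y))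
      (hle : f ⁻¹ᵁ K ≤ N.1), Y'.presheaf.map (homOfLE hle).op ≫ ℓ K hK hKc = val N := by
    intro N K hK hKc hle
    obtain ⟨L, hL, hLle, hLc⟩ := exists_qc_nb hE (O N ⊓ K) fun e he => ⟨hO N he, hK he⟩
    simp only [val]
    rw [← hres (O N) L (hO N) (hOc N) hL hLc (hLle.trans inf_le_left),
      ← hres K L hK hKc hL hLc (hLle.trans inf_le_right)]
    simp only [← Category.assoc, ← Functor.map_comp]
    rfl
  let d : Germ (f ⁻¹' E) ⟶ s.pt := colimit.desc (nbSections (f ⁻¹' E))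
    { pt := s.pt
      ι := { app := fun j => val j.unop
             naturality := fun j k a => by
               dsimp [nbSections]
               rw [Category.comp_id, ← hval j.unop (O k.unop) (hO _) (hOc _) ((hON k.unop).trans a.unop.le)]
               simp only [val, ← Category.assoc, ← Functor.map_comp]
               rfl } }
  have hd : ∀ (N : Y'.Opens) (hN : f ⁻¹' E ⊆ N), toGerm N hN ≫ d = val ⟨N, hN⟩ := fun N hN =>
    colimit.ι_desc _ _
  refine ⟨d, Germ.hom_ext fun K hK => ?_, ?_, fun {m} hm₁ hm₂ => Germ.hom_ext fun N hN => ?_⟩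
  · change toGerm K hK ≫ mapGerm f (fun _ h => h) ≫ d = _
    obtain ⟨L, hL, hLle, hLc⟩ := exists_qc_nb hE K hK
    rw [toGerm_map_assoc, hd, ← hval ⟨_, _⟩ L hL hLc (f.preimage_mono hLle), Scheme.Hom.app_eq_appLE,
      Scheme.Hom.appLE_map_assoc, ← Scheme.Hom.map_appLE f le_rfl (homOfLE hLle).op, Category.assoc,
      IsPushout.inl_desc, res_toGerm_assoc]
  · change (iY'.appTop ≫ toGerm ⊤ (fun _ _ => trivial)) ≫ d = _
    obtain ⟨L, hL, -, hLc⟩ := exists_qc_nb hE ⊤ fun _ _ => trivial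
    rw [Category.assoc, hd, ← hval ⟨⊤, fun _ _ => trivial⟩ L hL hLc le_top, ← appTop_eq_appLE iY' (h := le_top),
      Scheme.Hom.appLE_map_assoc]
    exact IsPushout.inr_desc _ _ _ _
  · rw [hd]
    obtain ⟨hK, hKc, hle⟩ : E ⊆ (O ⟨N, hN⟩ : Set Y) ∧ IsCompact (O ⟨N, hN⟩ : Set Y) ∧ f ⁻¹ᵁ O ⟨N, hN⟩ ≤ N :=
      ⟨hO _, hOc _, hON _⟩
    have hle' : f ⁻¹' E ⊆ (f ⁻¹ᵁ O ⟨N, hN⟩ : Y'.Opens) := fun y hy => hK hy
    rw [← res_toGerm hle hle', Category.assoc]
    refine congrArg (Y'.presheaf.map (homOfLE hle).op ≫ ·) ((hpo _ hKc).hom_ext ?_ ?_)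
    · rw [IsPushout.inl_desc, ← hm₁]
      change _ = toGerm _ hK ≫ mapGerm f (fun _ h => h) ≫ m
      rw [toGerm_map_assoc, Scheme.Hom.app_eq_appLE]
    · rw [IsPushout.inr_desc, ← hm₂]
      change _ = (iY'.appTop ≫ toGerm ⊤ (fun _ _ => trivial)) ≫ m
      rw [← res_toGerm (E := f ⁻¹' E) (O := ⊤) (O' := f ⁻¹ᵁ O ⟨N, hN⟩) le_top hle', ← appTop_eq_appLE iY' (h := le_top)]
      simp only [Category.assoc, Scheme.Hom.appLE_map_assoc]

end Groth.Agent.SchDesc
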