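import Groth.Agent.SchDesc.Family
import Groth.Agent.HTopV.Fpqc
import Groth.Prelude.Def_NonAbH2
/-!
Properties of torsors for the fpqc topology which descend.
-/

set_option autoImplicit false
set_option backward.isDefEq.respectTransparency.types false
set_option linter.style.haveILetI false

universe u

open CategoryTheory CategoryTheory.Limits MonoidalCategory CartesianMonoidalCategory AlgebraicGeometry

namespace Groth.Agent.TorsorDesc

/-- A property local on the target which descends along faithfully flat quasi-compact maps descends along fpqc maps. -/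
theorem prop_of_isFpqc (P : MorphismProperty Scheme.{u}) [P.IsStableUnderBaseChange] [IsZariskiLocalAtTarget P]
    (hd : P.DescendsAlong (@Surjective ⊓ @Flat ⊓ @QuasiCompact)) {X S T : Scheme.{u}} (g : X ⟶ S) (p : T ⟶ S)
    [SchDesc.IsFpqc p] (h : P (pullback.snd g p)) : P g := by
  refine (IsZariskiLocalAtTarget.iff_of_iSup_eq_top (P := P) (fun U : S.affineOpens => U.1)
    (top_le_iff.mp fun s _ => by
      obtain ⟨U, hU, hsU, -⟩ := exists_isAffineOpen_mem_and_subset (U := ⊤)
        (show s ∈ (⊤ : S.Opens) from trivial)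
      exact TopologicalSpace.Opens.mem_iSup.mpr ⟨⟨U, hU⟩, hsU⟩)).mpr fun U => ?_
  obtain ⟨Q, q, l, _, _, _, hql, hl, hls, hlq⟩ := SchDesc.IsFpqc.exists_affine p U.2
  haveI := hd
  refine MorphismProperty.RespectsIso.precomp P (pullbackRestrictIsoRestrict g U.1).inv _ ?_
  refine MorphismProperty.of_pullback_snd_of_descendsAlong (Q := @Surjective ⊓ @Flat ⊓ @QuasiCompact)
    (g := l) ⟨⟨hls, hl⟩, hlq⟩ ?_
  have h1 : P (pullback.snd g (q ≫ p)) := by
    refine (MorphismProperty.cancel_left_of_respectsIso P (pullbackLeftPullbackSndIso g p q).hom _).mp ?_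
    rw [pullbackLeftPullbackSndIso_hom_snd]
    exact MorphismProperty.pullback_snd _ _ h
  rw [hql] at h1
  rw [← pullbackLeftPullbackSndIso_hom_snd g U.1.ι l]
  exact MorphismProperty.RespectsIso.precomp _ _ _ h1

/-- An fpqc torsor is isomorphic to the group after an fpqc base change. -/
theorem exists_trivializing {S : Scheme.{u}} {G X : Over S} [GrpObj G] (a : AlgGrp.Action G X)
    (h : NonAbH1.IsTorsorFor Scheme.fpqcPrecoverage a) :
    ∃ (T : Over S) (_ : T ⟶ X), SchDesc.IsFpqc T.hom ∧ ∀ (P : MorphismProperty Scheme.{u}) [P.IsStableUnderBaseChange],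
      P G.hom → P (pullback.snd X.hom T.hom) := by
  obtain ⟨hpt, R, hR, hsec⟩ := h
  obtain ⟨ι, Y, f, rfl⟩ := R.exists_eq_ofArrows
  let E0 : PreZeroHypercover S := { I₀ := ι, X := Y, f := f }
  obtain ⟨hq0, hfl⟩ := (HTopV.mem_fpqc_iff E0).mp hR
  haveI := hq0
  let E := QuasiCompactCover.ulift E0
  have hE : E.presieve₀ ∈ Scheme.fpqcPrecoverage S :=
    (HTopV.mem_fpqc_iff E).mpr ⟨inferInstanceAs (QuasiCompactCover (QuasiCompactCover.ulift E0)), fun i => hfl _⟩
  haveI : SchDesc.IsFpqc (Sigma.desc E.f) := SchDesc.isFpqc_sigmaDesc (X := E.X) (f := E.f) hE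
  have hs : ∀ i : E.I₀, ∃ s : E.X i ⟶ X.left, s ≫ X.hom = E.f i := fun i => hsec _ (Presieve.ofArrows.mk _)
  choose s hs using hs
  let T : Over S := Over.mk (Sigma.desc E.f)
  let σ : T ⟶ X := Over.homMk (Sigma.desc s) (Sigma.hom_ext _ _ fun i => by simp [T, hs])
  haveI : IsIso (lift a.act (snd G X)) := hpt
  let Φ := asIso (lift a.act (snd G X))
  let e : G ⊗ T ≅ X ⊗ T :=
    { hom := lift ((G ◁ σ) ≫ a.act) (snd G T)
      inv := lift ((X ◁ σ) ≫ Φ.inv ≫ fst G X) (snd X T)
      hom_inv_id := by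
        refine CartesianMonoidalCategory.hom_ext _ _ ?_ (by simp)
        have h1 : lift ((G ◁ σ) ≫ a.act) (snd G T) ≫ (X ◁ σ) = (G ◁ σ) ≫ Φ.hom := by
          refine CartesianMonoidalCategory.hom_ext _ _ (by simp [Φ]) (by simp [Φ])
        rw [Category.assoc, lift_fst, ← Category.assoc, h1, Category.assoc, Iso.hom_inv_id_assoc]
        simp
      inv_hom_id := by
        refine CartesianMonoidalCategory.hom_ext _ _ ?_ (by simp)
        have h2 : Φ.inv ≫ snd G X = snd X X := by
          rw [Iso.inv_comp_eq]; simp [Φ]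
        have h1 : lift ((X ◁ σ) ≫ Φ.inv ≫ fst G X) (snd X T) ≫ (G ◁ σ) = (X ◁ σ) ≫ Φ.inv := by
          refine CartesianMonoidalCategory.hom_ext _ _ (by simp) ?_
          simp [h2]
        rw [Category.assoc, lift_fst, ← Category.assoc, h1, Category.assoc]
        have h3 : Φ.inv ≫ a.act = fst X X := by
          rw [Iso.inv_comp_eq]; simp [Φ]
        rw [h3]
        simp }
  have hX : ∀ (P : MorphismProperty Scheme.{u}) [P.IsStableUnderBaseChange],
      P G.hom → P (pullback.snd X.hom T.hom) := fun P _ hP => by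
    have hw : ((Over.forget S).mapIso e).hom ≫ (snd X T).left = (snd G T).left := by
      change e.hom.left ≫ _ = _
      rw [← Over.comp_left]
      simp [e]
    have h1 : P (snd G T).left := MorphismProperty.pullback_snd G.hom T.hom hP
    rw [← hw] at h1
    have h2 := MorphismProperty.RespectsIso.precomp P ((Over.forget S).mapIso e).inv _ h1
    rwa [Iso.inv_hom_id_assoc] at h2
  exact ⟨T, σ, ‹SchDesc.IsFpqc (Sigma.desc E.f)›, hX⟩

end Groth.Agent.TorsorDesc
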