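import Groth.Agent.SchDesc.Basic

/-!
# Effective descent data and quotients
-/

set_option autoImplicit false
set_option linter.style.haveILetI false
universe u
open CategoryTheory CategoryTheory.Limits AlgebraicGeometry

namespace Groth.Agent.SchDesc

variable {X S : Scheme.{u}} {p : X ⟶ S} {D : _root_.Desc.SchDD p}

theorem stable_top : Stable D ⊤ := fun _ _ => trivial

/-- A quotient of the whole scheme shows that the descent datum is effective. -/
theorem Quot.effective (Q : Quot D ⊤) : ∃ U : Over S, Nonempty ((_root_.Desc.toDD p).obj U ≅ D) := by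
  let T : Over S := Over.mk Q.str
  let C := (_root_.Desc.toDD p).obj T
  let e : pullback p Q.str ≅ D.obj.left :=
    Q.isPullback.isoPullback.symm ≪≫ Scheme.topIso D.obj.left
  have he : e.hom ≫ D.obj.hom = pullback.fst p Q.str := by
    simp only [e, Iso.trans_hom, Iso.symm_hom, Category.assoc, Scheme.topIso_hom]
    exact Q.isPullback.isoPullback_inv_fst
  have hπ : e.hom ≫ (Scheme.topIso D.obj.left).inv ≫ Q.π = pullback.snd p Q.str := by
    simp only [e, Iso.trans_hom, Iso.symm_hom, Category.assoc, Iso.hom_inv_id_assoc]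
    exact Q.isPullback.isoPullback_inv_snd
  have hπ' : (Scheme.topIso D.obj.left).inv ≫ Q.π = e.inv ≫ pullback.snd p Q.str := by
    rw [← hπ, Iso.inv_hom_id_assoc]
  have hmove : ∀ {T' : Scheme.{u}} (v : T' ⟶ D.obj.left) (x : T' ⟶ X)
      (h : v ≫ D.obj.hom ≫ p = x ≫ p),
      move D v x h ≫ (Scheme.topIso D.obj.left).inv ≫ Q.π = v ≫ (Scheme.topIso D.obj.left).inv ≫ Q.π := by
    intro T' v x h
    have hv : (v ≫ (Scheme.topIso D.obj.left).inv) ≫ (⊤ : D.obj.left.Opens).ι = v := by
      rw [Category.assoc, ← Scheme.topIso_hom, Iso.inv_hom_id, Category.comp_id]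
    have hm : ∀ w : T' ⟶ D.obj.left,
        (w ≫ (Scheme.topIso D.obj.left).inv) ≫ (⊤ : D.obj.left.Opens).ι = w := fun w => by
      rw [Category.assoc, ← Scheme.topIso_hom, Iso.inv_hom_id, Category.comp_id]
    have := Q.inv (v ≫ (Scheme.topIso D.obj.left).inv) (move D v x h ≫ (Scheme.topIso D.obj.left).inv) x
      (by rw [hv]; exact h) ((move_congr D hv _).trans (hm _).symm)
    simpa only [Category.assoc] using this.symm
  have hinv : e.inv ≫ pullback.fst p Q.str = D.obj.hom := by rw [← he, Iso.inv_hom_id_assoc]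
  let F : C ⟶ D := ⟨Over.homMk e.hom he, fun T' x₀ x₁ h v w hw => by
    show _ = (_root_.Desc.canMap p T x₀ x₁ h v).1 ≫ e.hom
    change w.1 = v.1 ≫ e.hom at hw
    rw [← cancel_mono e.inv]
    apply pullback.hom_ext
    · simp only [Category.assoc, hinv, Iso.hom_inv_id, Category.comp_id]
      exact (D.φ x₀ x₁ h w).2.trans (_root_.Desc.canMap p T x₀ x₁ h v).2.symm
    · simp only [Category.assoc, ← hπ', hπ]
      rw [φ_eq_move, hmove, hw, Category.assoc]
      exact (congrArg (v.1 ≫ ·) hπ).trans (pullback.lift_snd _ _ _).symm⟩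
  let G : D ⟶ C := ⟨Over.homMk e.inv hinv, fun T' x₀ x₁ h v w hw => by
    show (_root_.Desc.canMap p T x₀ x₁ h w).1 = _ ≫ e.inv
    change w.1 = v.1 ≫ e.inv at hw
    refine pullback.hom_ext (f := p) (g := Q.str) ?_ ?_
    · rw [Category.assoc, hinv]
      exact (_root_.Desc.canMap p T x₀ x₁ h w).2.trans (D.φ x₀ x₁ h v).2.symm
    · rw [Category.assoc, ← hπ', φ_eq_move, hmove]
      refine (pullback.lift_snd _ _ _).trans ?_
      rw [hw, Category.assoc]
      exact (congrArg (v.1 ≫ ·) hπ').symm⟩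
  exact ⟨T, ⟨⟨F, G, _root_.Desc.SchDD.hom_ext (Over.OverMorphism.ext e.hom_inv_id),
    _root_.Desc.SchDD.hom_ext (Over.OverMorphism.ext e.inv_hom_id)⟩⟩⟩

/-- The image of an open immersion of an effective descent datum has a quotient. -/
theorem quot_of_openImmersion {D' : _root_.Desc.SchDD p} (j : D' ⟶ D) [IsOpenImmersion j.hom.left]
    (U : Over S) (e : (_root_.Desc.toDD p).obj U ≅ D') :
    Nonempty (Quot D j.hom.left.opensRange) := by
  let k : (_root_.Desc.toDD p).obj U ⟶ D := e.hom ≫ j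
  haveI : IsIso e.hom.hom.left :=
    ⟨e.inv.hom.left, congrArg (fun f => f.hom.left) e.hom_inv_id, congrArg (fun f => f.hom.left) e.inv_hom_id⟩
  let kl : pullback p U.hom ⟶ D.obj.left := k.hom.left
  have hk : kl = e.hom.hom.left ≫ j.hom.left := rfl
  haveI : IsOpenImmersion kl := by
    have := IsOpenImmersion.comp e.hom.hom.left j.hom.left
    exact this
  have hrange : kl.opensRange = j.hom.left.opensRange := by
    apply TopologicalSpace.Opens.ext
    show Set.range kl = Set.range j.hom.left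
    exact Set.Subset.antisymm (fun _ ⟨z, hz⟩ => ⟨e.hom.hom.left z, hz⟩)
      fun _ ⟨z, hz⟩ => by
        obtain ⟨z', rfl⟩ := e.hom.hom.left.surjective z
        exact ⟨z', hz⟩
  rw [← hrange]
  let i : (kl.opensRange : Scheme.{u}) ≅ pullback p U.hom := kl.isoOpensRange.symm
  have hi : kl.opensRange.ι = i.hom ≫ kl := by
    simp only [i, Iso.symm_hom]
    rw [Iso.eq_inv_comp]
    exact Scheme.Hom.isoOpensRange_hom_ι _
  have hh : kl ≫ D.obj.hom = pullback.fst p U.hom := Over.w k.hom
  have hmove : ∀ {T : Scheme.{u}} (s : T ⟶ pullback p U.hom) (x : T ⟶ X)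
      (h : (s ≫ kl) ≫ D.obj.hom ≫ p = x ≫ p),
      ∃ s' : T ⟶ pullback p U.hom, move D (s ≫ kl) x h = s' ≫ kl ∧
        s' ≫ pullback.snd p U.hom = s ≫ pullback.snd p U.hom := by
    intro T s x h
    have hx : (s ≫ pullback.fst p U.hom) ≫ p = x ≫ p := by
      rw [← hh]; simpa only [Category.assoc] using h
    refine ⟨(((_root_.Desc.toDD p).obj U).φ (s ≫ pullback.fst p U.hom) x hx ⟨s, rfl⟩).1, ?_,
      pullback.lift_snd _ _ _⟩
    exact (φ_eq_move D _ x hx ⟨s ≫ kl, by rw [Category.assoc, hh]⟩).symm.trans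
      (k.comm _ _ hx ⟨s, rfl⟩ ⟨s ≫ kl, by rw [Category.assoc, hh]⟩ rfl)
  refine ⟨⟨U.left, U.hom, i.hom ≫ pullback.snd p U.hom, ?_, ?_, fun t t' x h e' => ?_⟩⟩
  · rw [hi, Category.assoc, hh]
    exact IsPullback.of_iso_pullback ⟨by simp [pullback.condition]⟩ i (by simp) (by simp)
  · intro t ht
    obtain ⟨s, hs⟩ := ht
    obtain ⟨z, hz₁, hz₂⟩ := Scheme.Pullback.exists_preimage_pullback
      (f := kl) (g := pullback.fst (D.obj.hom ≫ p) p) s t hs
    obtain ⟨s', hs₁, -⟩ := hmove (pullback.fst kl (pullback.fst (D.obj.hom ≫ p) p))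
      (pullback.snd kl (pullback.fst (D.obj.hom ≫ p) p) ≫ pullback.snd (D.obj.hom ≫ p) p) (by
        rw [pullback.condition]
        simp only [Category.assoc]
        rw [pullback.condition])
    refine ⟨s' z, ?_⟩
    rw [← Scheme.Hom.comp_apply, ← hs₁, ← hz₂, ← Scheme.Hom.comp_apply, move]
    refine congrArg (fun f => (f ≫ act D) z) ?_
    apply pullback.hom_ext <;> simp only [pullback.lift_fst, pullback.lift_snd, pullback.condition]
  · obtain ⟨s', hs₁, hs₂⟩ := hmove (t ≫ i.hom) x (by simpa only [Category.assoc, ← hi] using h)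
    have : s' = t' ≫ i.hom := by
      rw [← cancel_mono kl, ← hs₁]
      exact ((move_congr D (by rw [hi, Category.assoc]) _).trans e').trans (by rw [hi, Category.assoc])
    rw [← Category.assoc, ← Category.assoc, ← this, hs₂]

end Groth.Agent.SchDesc
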