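import Groth.Agent.SchDesc.Family
import Groth.Agent.SchDesc.Effective

/-!
# Descent of open subschemes; coproducts of morphisms
-/

set_option autoImplicit false
set_option linter.style.haveILetI false
universe w u
open CategoryTheory CategoryTheory.Limits AlgebraicGeometry

namespace Groth.Agent.SchDesc

/-- A descent datum which is an open subscheme has a quotient. -/
theorem quot_of_isOpenImmersion_hom {X S : Scheme.{u}} {p : X ⟶ S} [IsFpqc p]
    (D : _root_.Desc.SchDD p) [IsOpenImmersion D.obj.hom] : Nonempty (Quot D ⊤) := by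
  let j := D.obj.hom
  have hsat : p ⁻¹' (p '' Set.range j) = Set.range j := by
    refine Set.Subset.antisymm (fun x' ⟨_, ⟨v, rfl⟩, hx'⟩ => ?_) (Set.subset_preimage_image _ _)
    obtain ⟨t, -, ht⟩ := Scheme.Pullback.exists_preimage_pullback (f := j ≫ p) (g := p) v x' hx'
    exact ⟨act D t, by rw [← Scheme.Hom.comp_apply, act_hom]; exact ht⟩
  let O : S.Opens := ⟨p '' Set.range j, (IsFpqc.isQuotientMap p).isCoinducing.isOpen_preimage.mp
    (by rw [hsat]; exact j.isOpenEmbedding.isOpen_range)⟩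
  let π : D.obj.left ⟶ (O : Scheme.{u}) := IsOpenImmersion.lift O.ι (j ≫ p) (by
    rintro _ ⟨v, rfl⟩
    rw [Scheme.Opens.range_ι]
    exact ⟨j v, ⟨v, rfl⟩, rfl⟩)
  have hπ : π ≫ O.ι = j ≫ p := IsOpenImmersion.lift_fac _ _ _
  have hpb : IsPullback j π p O.ι := by
    refine IsPullback.flip (IsOpenImmersion.isPullback π j O.ι p hπ.symm ?_)
    apply TopologicalSpace.Opens.ext
    show p ⁻¹' Set.range O.ι = Set.range j
    rw [Scheme.Opens.range_ι]
    exact hsat
  refine ⟨⟨O, O.ι, (⊤ : D.obj.left.Opens).ι ≫ π, ?_, stable_top, fun t t' x hx e => ?_⟩⟩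
  · exact hpb.of_iso (Scheme.topIso _).symm (.refl _) (.refl _) (.refl _)
      (by simp [← Scheme.topIso_hom]; rfl) (by simp [← Scheme.topIso_hom]) (by simp) (by simp)
  · rw [← cancel_mono O.ι, ← Category.assoc t', ← e]
    calc (t ≫ (⊤ : D.obj.left.Opens).ι ≫ π) ≫ O.ι = (t ≫ (⊤ : D.obj.left.Opens).ι) ≫ j ≫ p := by
          simp only [Category.assoc, hπ]
      _ = x ≫ p := hx
      _ = (move D (t ≫ (⊤ : D.obj.left.Opens).ι) x hx ≫ j) ≫ p := (congrArg (· ≫ p) (move_hom D _ x hx)).symm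
      _ = _ := by simp only [Category.assoc, hπ]

variable {ι : Type w} [Small.{u} ι]

theorem isPullback_sigmaMap {Y V : ι → Scheme.{u}} (q : ∀ i, Y i ⟶ V i) (i : ι) :
    IsPullback (Sigma.ι Y i) (q i) (Limits.Sigma.map q) (Sigma.ι V i) := by
  refine IsPullback.flip (IsOpenImmersion.isPullback _ _ _ _ (Limits.Sigma.ι_map q i) ?_)
  refine TopologicalSpace.Opens.ext (Set.ext fun v => ⟨?_, ?_⟩)
  · rintro ⟨w, hw⟩
    obtain ⟨j, v', hv'⟩ := (sigmaOpenCover Y).exists_eq v
    obtain rfl : Sigma.ι Y j v' = v := hv'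
    rw [← Scheme.Hom.comp_apply, Limits.Sigma.ι_map, Scheme.Hom.comp_apply] at hw
    obtain ⟨rfl, -⟩ := Sigma.mk.inj ((sigmaι_eq_iff _ _ _ _ _).mp hw)
    exact ⟨v', rfl⟩
  · rintro ⟨w, rfl⟩
    refine ⟨q i w, ?_⟩
    show Sigma.ι V i (q i w) = Limits.Sigma.map q (Sigma.ι Y i w)
    rw [← Scheme.Hom.comp_apply, ← Limits.Sigma.ι_map]
    rfl

/-- Properties local on the target pass to coproducts. -/
theorem prop_sigmaMap (P : MorphismProperty Scheme.{u}) [IsZariskiLocalAtTarget P] {Y V : ι → Scheme.{u}}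
    (q : ∀ i, Y i ⟶ V i) (hq : ∀ i, P (q i)) : P (Limits.Sigma.map q) := by
  refine IsZariskiLocalAtTarget.of_openCover (sigmaOpenCover V) fun i => ?_
  show P (pullback.snd (Limits.Sigma.map q) (Sigma.ι V i))
  rw [← IsPullback.isoPullback_inv_snd (isPullback_sigmaMap q i)]
  exact MorphismProperty.RespectsIso.precomp _ _ _ (hq i)

end Groth.Agent.SchDesc

namespace Groth.Agent.SchDesc

theorem isOpenImmersion_famHom {ι : Type u} {S : Scheme.{u}} {X : ι → Scheme.{u}} {f : ∀ i, X i ⟶ S}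
    (D : _root_.Desc.SchDDFam f) (hD : ∀ i, IsOpenImmersion (D.obj i).hom) :
    IsOpenImmersion (famHom D) :=
  prop_sigmaMap @IsOpenImmersion _ hD

end Groth.Agent.SchDesc
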