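import Groth.Agent.SchDesc.IndQA
import Groth.Agent.QAffLib.Basic

/-!
# Descent along finite locally free morphisms
-/

set_option autoImplicit false
set_option linter.style.haveILetI false
universe u
open CategoryTheory CategoryTheory.Limits AlgebraicGeometry

namespace Groth.Agent.SchDesc

variable {X S : Scheme.{u}} {p : X ⟶ S} (D : _root_.Desc.SchDD p)

/-- The action, as a move of the first projection. -/
theorem act_eq_move : act D =
    move D (pullback.fst (D.obj.hom ≫ p) p) (pullback.snd _ _) pullback.condition := by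
  rw [move]
  refine Eq.symm (Eq.trans (congrArg (· ≫ act D) ?_) (Category.id_comp _))
  apply pullback.hom_ext <;> simp

theorem comp_act {T : Scheme.{u}} (m : T ⟶ pullback (D.obj.hom ≫ p) p) :
    m ≫ act D = move D (m ≫ pullback.fst _ _) (m ≫ pullback.snd _ _)
      (by simp only [Category.assoc, pullback.condition]) := by
  rw [act_eq_move, move_comp]

/-- The relation defined by the action is transitive on points. -/
theorem exists_act_act (t t' : ↥(pullback (D.obj.hom ≫ p) p))
    (h : act D t = pullback.fst (D.obj.hom ≫ p) p t') :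
    ∃ t'', pullback.fst (D.obj.hom ≫ p) p t'' = pullback.fst (D.obj.hom ≫ p) p t ∧ act D t'' = act D t' := by
  let f := pullback.fst (D.obj.hom ≫ p) p
  obtain ⟨z, hz₁, hz₂⟩ := Scheme.Pullback.exists_preimage_pullback (f := act D) (g := f) t t' h
  let a := pullback.fst (act D) f
  let b := pullback.snd (act D) f
  have hab : a ≫ act D = b ≫ f := pullback.condition
  let x := b ≫ pullback.snd (D.obj.hom ≫ p) p
  have hx : (a ≫ f) ≫ D.obj.hom ≫ p = x ≫ p := by
    have e₁ : f ≫ D.obj.hom ≫ p = act D ≫ D.obj.hom ≫ p := by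
      rw [reassoc_of% (act_hom D)]; exact pullback.condition
    rw [Category.assoc, e₁, reassoc_of% hab]
    exact (congrArg (b ≫ ·) pullback.condition).trans (Category.assoc _ _ _).symm
  let n := pullback.lift (a ≫ f) x hx
  refine ⟨n z, ?_, ?_⟩
  · rw [← Scheme.Hom.comp_apply, pullback.lift_fst, Scheme.Hom.comp_apply, hz₁]
  · have key : n ≫ act D = b ≫ act D := by
      rw [comp_act D b]
      exact (move_trans (hab.symm.trans (comp_act D a)) _).symm
    rw [← Scheme.Hom.comp_apply, key, Scheme.Hom.comp_apply, hz₂]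

/-- The points related to a given one map to the same point of the base. -/
theorem p_act (t : ↥(pullback (D.obj.hom ≫ p) p)) :
    p (D.obj.hom (act D t)) = p (D.obj.hom (pullback.fst (D.obj.hom ≫ p) p t)) := by
  rw [← Scheme.Hom.comp_apply (act D), act_hom, ← Scheme.Hom.comp_apply, ← pullback.condition]
  rfl

theorem finite_orbit [IsFinite p] (v : D.obj.left) :
    (act D '' (pullback.fst (D.obj.hom ≫ p) p ⁻¹' {v})).Finite := by
  haveI : IsFinite (pullback.fst (D.obj.hom ≫ p) p) :=
    MorphismProperty.pullback_fst (P := @IsFinite) _ _ ‹_›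
  exact ((pullback.fst (D.obj.hom ≫ p) p).finite_preimage_singleton v).image _

/-- The open of points whose orbit lies in a given open. -/
theorem exists_stable_core [IsFinite p] (U : D.obj.left.Opens) :
    ∃ W : D.obj.left.Opens, W ≤ U ∧ Stable D W ∧
      ∀ v, (∀ t, pullback.fst (D.obj.hom ≫ p) p t = v → act D t ∈ U) → v ∈ W := by
  let f := pullback.fst (D.obj.hom ≫ p) p
  haveI : IsFinite f := MorphismProperty.pullback_fst (P := @IsFinite) _ _ ‹_›
  let W : D.obj.left.Opens := ⟨(f '' (act D ⁻¹' (U : Set D.obj.left)ᶜ))ᶜ,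
    (f.isClosedMap _ (U.isOpen.isClosed_compl.preimage (act D).continuous)).isOpen_compl⟩
  have hW : ∀ v, v ∈ W ↔ ∀ t, f t = v → act D t ∈ U := fun v => by
    show v ∉ f '' (act D ⁻¹' (U : Set D.obj.left)ᶜ) ↔ _
    simp only [Set.mem_image, Set.mem_preimage, Set.mem_compl_iff, not_exists, not_and]
    exact ⟨fun h t e => not_not.mp fun hn => h t hn e, fun h t hn e => hn (h t e)⟩
  refine ⟨W, fun v hv => ?_, fun t ht => ?_, fun v hv => (hW v).mpr hv⟩
  · let d := pullback.lift (f := D.obj.hom ≫ p) (g := p) (𝟙 D.obj.left) D.obj.hom (Category.id_comp _)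
    have h1 := (hW v).mp hv (d v) (by rw [← Scheme.Hom.comp_apply, pullback.lift_fst]; rfl)
    rw [← Scheme.Hom.comp_apply] at h1
    have e : d ≫ act D = 𝟙 _ := move_self D (𝟙 _) D.obj.hom (Category.id_comp _) (Category.id_comp _)
    rw [e] at h1
    exact h1
  · refine (hW _).mpr fun t' e => ?_
    obtain ⟨t'', h₁, h₂⟩ := exists_act_act D t t' e.symm
    rw [← h₂]
    exact (hW _).mp ht t'' h₁

theorem indQA_of_le {V : Scheme.{u}} {W U : V.Opens} (h : W ≤ U)
    (hU : MoreMor.IsIndQuasiAffine (U : Scheme.{u})) : MoreMor.IsIndQuasiAffine (W : Scheme.{u}) :=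
  fun K hK => by
    haveI := hU ((V.homOfLE h) ''ᵁ K) (hK.image (V.homOfLE h).continuous)
    exact Groth.Agent.QAffLib.of_iso ((V.homOfLE h).isoImage K).hom

/-- Descent along a finite flat cover when orbits lie in ind-quasi-affine opens. -/
theorem quot_of_orbits [IsAffine S] [IsFinite p] [Flat p] [Surjective p] [LocallyOfFinitePresentation p]
    (h : ∀ v : D.obj.left, ∃ U : D.obj.left.Opens, MoreMor.IsIndQuasiAffine (U : Scheme.{u}) ∧
      ∀ t, pullback.fst (D.obj.hom ≫ p) p t = v → act D t ∈ U) : Nonempty (Quot D ⊤) := by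
  haveI : IsAffine X := isAffine_of_isAffineHom p
  haveI : IsFpqc p := IsFpqc.of_locallyOfFinitePresentation p
  refine quot_top fun v => ?_
  obtain ⟨U, hU, hv⟩ := h v
  obtain ⟨W, hle, hW, hmem⟩ := exists_stable_core D U
  exact ⟨W, hmem v hv, quot_of_restrict D W hW
    (quot_of_indQuasiAffine _ (indQA_of_le hle hU))⟩

/-- Descent along a finite flat cover when orbits lie in affine opens. -/
theorem quot_of_affine_orbits [IsFinite p] [Flat p] [Surjective p] [LocallyOfFinitePresentation p]
    (h : ∀ v : D.obj.left, ∃ U : D.obj.left.Opens, IsAffineOpen U ∧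
      ∀ t, pullback.fst (D.obj.hom ≫ p) p t = v → act D t ∈ U) : Nonempty (Quot D ⊤) := by
  haveI : IsFpqc p := IsFpqc.of_locallyOfFinitePresentation p
  refine quot_top fun v => ?_
  obtain ⟨S₀, hS₀, hv, -⟩ := exists_isAffineOpen_mem_and_subset (U := (⊤ : S.Opens))
    (show p (D.obj.hom v) ∈ (⊤ : S.Opens) from trivial)
  refine ⟨D.obj.hom ⁻¹ᵁ p ⁻¹ᵁ S₀, hv, ?_⟩
  haveI : IsAffine (S₀ : Scheme.{u}) := hS₀
  have hsq := (isPullback_morphismRestrict p S₀).flip
  haveI : IsFinite (p ∣_ S₀) := MorphismProperty.of_isPullback hsq ‹IsFinite p›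
  haveI : Flat (p ∣_ S₀) := MorphismProperty.of_isPullback hsq ‹Flat p›
  haveI : Surjective (p ∣_ S₀) := MorphismProperty.of_isPullback hsq ‹Surjective p›
  haveI : LocallyOfFinitePresentation (p ∣_ S₀) :=
    MorphismProperty.of_isPullback hsq ‹LocallyOfFinitePresentation p›
  let q := (p ⁻¹ᵁ S₀).ι
  let w := (morphismRestrict_ι p S₀).symm
  let D₀ := pull D q w
  let ε : D₀.obj.left ⟶ D.obj.left := pullFst D q w
  haveI : IsOpenImmersion ε := MorphismProperty.of_isPullback (isPullback_pull D q w).flip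
    (inferInstance : IsOpenImmersion q)
  obtain ⟨Q⟩ := quot_of_orbits D₀ fun v₀ => by
    obtain ⟨U, hU, hmem⟩ := h (ε v₀)
    refine ⟨ε ⁻¹ᵁ U, fun K hK => ?_, fun t ht => ?_⟩
    · haveI : (U : Scheme.{u}).IsQuasiAffine := by
        haveI : IsAffine (U : Scheme.{u}) := hU
        infer_instance
      let j : ((ε ⁻¹ᵁ U : D₀.obj.left.Opens) : Scheme.{u}) ⟶ D.obj.left := (ε ⁻¹ᵁ U).ι ≫ ε
      haveI : (j ''ᵁ K : Scheme.{u}).IsQuasiAffine := Groth.Agent.QAffLib.open_of_le _ U (by
        rintro _ ⟨z, -, rfl⟩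
        exact z.2) (hK.image j.continuous)
      exact Groth.Agent.QAffLib.of_iso (j.isoImage K).hom
    · let g : pullback (D₀.obj.hom ≫ p ∣_ S₀) (p ∣_ S₀) ⟶ pullback (D.obj.hom ≫ p) p :=
        pullback.lift (pullback.fst _ _ ≫ ε) (pullback.snd _ _ ≫ q) (by
          rw [Category.assoc, reassoc_of% (isPullback_pull D q w).w, w, Category.assoc, w]
          exact ((congrArg (pullback.fst _ _ ≫ ·) (Category.assoc _ _ _).symm).trans
            (Category.assoc _ _ _).symm).trans ((congrArg (· ≫ S₀.ι) pullback.condition).trans (Category.assoc _ _ _)))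
      have e : act D₀ ≫ ε = g ≫ act D := by
        rw [comp_act D g, act_eq_move, move_pull]
        exact move_congr₂ (pullback.lift_fst _ _ _).symm (pullback.lift_snd _ _ _).symm
      show ε (act D₀ t) ∈ U
      rw [← Scheme.Hom.comp_apply, e, Scheme.Hom.comp_apply]
      refine hmem _ ?_
      rw [← Scheme.Hom.comp_apply, pullback.lift_fst, Scheme.Hom.comp_apply, ht]
  exact quot_of_pull_open D S₀ Q

end Groth.Agent.SchDesc
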