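import Groth.Agent.SchDesc.Effective

/-!
# Gluing quotients of stable opens
-/

set_option autoImplicit false
set_option linter.style.haveILetI false
universe u
open CategoryTheory CategoryTheory.Limits AlgebraicGeometry

namespace Groth.Agent.SchDesc

variable {X S : Scheme.{u}} {p : X ⟶ S} [IsFpqc p] {D : _root_.Desc.SchDD p}

/-- The map between quotients of nested stable opens. -/
theorem Quot.existsUnique_map {W W' : D.obj.left.Opens} (Q : Quot D W) (Q' : Quot D W') (h : W ≤ W') :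
    ∃! m : Q.U ⟶ Q'.U, Q.π ≫ m = D.obj.left.homOfLE h ≫ Q'.π := by
  refine Q.existsUnique_desc _ fun t t' x hx e => ?_
  rw [← Category.assoc, ← Category.assoc]
  refine Q'.inv (t ≫ D.obj.left.homOfLE h) (t' ≫ D.obj.left.homOfLE h) x
    (by simpa only [Category.assoc, Scheme.homOfLE_ι] using hx) ?_
  exact (move_congr D (by simp only [Category.assoc, Scheme.homOfLE_ι]) _).trans
    (e.trans (by simp only [Category.assoc, Scheme.homOfLE_ι]))

/-- A chosen map between quotients. -/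
noncomputable def Quot.map {W W' : D.obj.left.Opens} (Q : Quot D W) (Q' : Quot D W') (h : W ≤ W') :
    Q.U ⟶ Q'.U := (Q.existsUnique_map Q' h).choose

theorem Quot.π_map {W W' : D.obj.left.Opens} (Q : Quot D W) (Q' : Quot D W') (h : W ≤ W') :
    Q.π ≫ Q.map Q' h = D.obj.left.homOfLE h ≫ Q'.π :=
  (Q.existsUnique_map Q' h).choose_spec.1

theorem Quot.map_self {W : D.obj.left.Opens} (Q : Quot D W) : Q.map Q le_rfl = 𝟙 _ := by
  haveI := Q.epi
  rw [← cancel_epi Q.π, Q.π_map, Scheme.homOfLE_rfl, Category.id_comp, Category.comp_id]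

theorem Quot.map_map {W W' W'' : D.obj.left.Opens} (Q : Quot D W) (Q' : Quot D W') (Q'' : Quot D W'')
    (h : W ≤ W') (h' : W' ≤ W'') : Q.map Q' h ≫ Q'.map Q'' h' = Q.map Q'' (h.trans h') := by
  haveI := Q.epi
  rw [← cancel_epi Q.π, ← Category.assoc, Q.π_map, Category.assoc, Q'.π_map, Q.π_map,
    Scheme.homOfLE_homOfLE_assoc]

theorem Quot.map_str {W W' : D.obj.left.Opens} (Q : Quot D W) (Q' : Quot D W') (h : W ≤ W') :
    Q.map Q' h ≫ Q'.str = Q.str := by
  haveI := Q.epi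
  rw [← cancel_epi Q.π, ← Category.assoc, Q.π_map, Category.assoc, ← Q'.isPullback.w,
    ← Q.isPullback.w, ← Category.assoc, ← Category.assoc, Scheme.homOfLE_ι]

theorem Quot.isOpenImmersion_map {W W' : D.obj.left.Opens} (Q : Quot D W) (Q' : Quot D W') (h : W ≤ W') :
    IsOpenImmersion (Q.map Q' h) := by
  obtain ⟨Q₀, i, hi, hi'⟩ := Q'.restrict h Q.stable
  have e : Q.map Q' h = Q.map Q₀ le_rfl ≫ i := by
    haveI := Q.epi
    rw [← cancel_epi Q.π, Q.π_map, ← Category.assoc, Q.π_map, Category.assoc, hi', ← Category.assoc,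
      Scheme.homOfLE_homOfLE]
  haveI : IsIso (Q.map Q₀ le_rfl) := ⟨Q₀.map Q le_rfl, by rw [Q.map_map, Q.map_self], by rw [Q₀.map_map, Q₀.map_self]⟩
  rw [e]; infer_instance

variable (D) in
/-- Stable opens having a quotient. -/
def Piece : Type u := {W : D.obj.left.Opens // Nonempty (Quot D W)}

instance : Preorder (Piece D) := Preorder.lift Subtype.val

/-- A chosen quotient. -/
noncomputable def Piece.quot (α : Piece D) : Quot D α.1 := α.2.some

variable (D) in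
/-- The diagram of quotients. -/
noncomputable def pieceFunctor : Piece D ⥤ Scheme.{u} where
  obj α := α.quot.U
  map {α β} h := α.quot.map β.quot (leOfHom h)
  map_id α := α.quot.map_self
  map_comp {α β γ} f g := (α.quot.map_map β.quot γ.quot (leOfHom f) (leOfHom g)).symm

instance {α β : Piece D} (f : α ⟶ β) : IsOpenImmersion ((pieceFunctor D).map f) :=
  α.quot.isOpenImmersion_map β.quot _

theorem π_map_apply {W W' : D.obj.left.Opens} (Q : Quot D W) (Q' : Quot D W') (h : W ≤ W')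
    (w : ↥(W : Scheme.{u})) : Q.map Q' h (Q.π w) = Q'.π (D.obj.left.homOfLE h w) := by
  rw [← Scheme.Hom.comp_apply, Q.π_map, Scheme.Hom.comp_apply]

instance : (pieceFunctor D ⋙ Scheme.forget).IsLocallyDirected := ⟨by
  intro j k l fj fk (x : ↥j.quot.U) (y : ↥k.quot.U) hxy
  change j.quot.map l.quot (leOfHom fj) x = k.quot.map l.quot (leOfHom fk) y at hxy
  haveI := j.quot.isFpqc; haveI := k.quot.isFpqc
  obtain ⟨w, rfl⟩ := j.quot.π.surjective x
  obtain ⟨w', rfl⟩ := k.quot.π.surjective y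
  rw [π_map_apply, π_map_apply] at hxy
  have hk : ((k.1.ι w' : D.obj.left)) ∈ j.1 := by
    have h1 := l.quot.mem_iff_of_π_eq j.quot.stable hxy
      (by rw [← Scheme.Hom.comp_apply, Scheme.homOfLE_ι]; exact w.2)
    rwa [← Scheme.Hom.comp_apply, Scheme.homOfLE_ι] at h1
  obtain ⟨Q, -, -, -⟩ := j.quot.restrict (inf_le_left : j.1 ⊓ k.1 ≤ j.1)
    (Stable.inf D j.quot.stable k.quot.stable)
  let i : Piece D := ⟨j.1 ⊓ k.1, ⟨Q⟩⟩
  let z : ↥((j.1 ⊓ k.1 : D.obj.left.Opens) : Scheme.{u}) := ⟨k.1.ι w', hk, w'.2⟩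
  have hij : i ≤ j := (inf_le_left : j.1 ⊓ k.1 ≤ j.1)
  have hik : i ≤ k := (inf_le_right : j.1 ⊓ k.1 ≤ k.1)
  refine ⟨i, homOfLE hij, homOfLE hik, i.quot.π z, ?_, ?_⟩
  · show i.quot.map j.quot hij (i.quot.π z) = j.quot.π w
    haveI := j.quot.isOpenImmersion_map l.quot (leOfHom fj)
    apply (j.quot.map l.quot (leOfHom fj)).isOpenEmbedding.injective
    rw [π_map_apply, π_map_apply, π_map_apply, hxy]
    congr 1
    apply l.1.ι.isOpenEmbedding.injective
    simp only [← Scheme.Hom.comp_apply, Category.assoc, Scheme.homOfLE_ι]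
    rfl
  · show i.quot.map k.quot hik (i.quot.π z) = k.quot.π w'
    rw [π_map_apply]
    congr 1
    apply k.1.ι.isOpenEmbedding.injective
    rw [← Scheme.Hom.comp_apply, Scheme.homOfLE_ι]
    rfl⟩

/-- A descent datum covered by stable opens with quotients has a quotient. -/
theorem quot_top (h : ∀ v : D.obj.left, ∃ W : D.obj.left.Opens, v ∈ W ∧ Nonempty (Quot D W)) :
    Nonempty (Quot D ⊤) := by
  let F := pieceFunctor D
  let U := colimit F
  let ι : ∀ α : Piece D, α.quot.U ⟶ U := fun α => colimit.ι F α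
  have hι : ∀ {α β : Piece D} (h : α ≤ β), α.quot.map β.quot h ≫ ι β = ι α :=
    fun {α β} h => colimit.w F (homOfLE h)
  let str : U ⟶ S := colimit.desc F
    { pt := S
      ι := { app := fun α => α.quot.str
             naturality := fun α β f =>
              (α.quot.map_str β.quot (leOfHom f)).trans (Category.comp_id _).symm } }
  haveI hιo : ∀ α, IsOpenImmersion (ι α) := fun α =>
    inferInstanceAs (IsOpenImmersion (colimit.ι F α))
  have hstr : ∀ α, ι α ≫ str = α.quot.str := fun α => colimit.ι_desc _ α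
  let 𝒲 : D.obj.left.OpenCover := D.obj.left.openCoverOfIsOpenCover (fun α : Piece D => α.1)
    (top_le_iff.mp fun v _ => by
      obtain ⟨W, hv, hW⟩ := h v
      exact TopologicalSpace.Opens.mem_iSup.mpr ⟨⟨W, hW⟩, hv⟩)
  have hinter : ∀ (α β : Piece D) {T : Scheme.{u}} (a : T ⟶ (α.1 : Scheme.{u})) (b : T ⟶ (β.1 : Scheme.{u})),
      a ≫ α.1.ι = b ≫ β.1.ι → a ≫ α.quot.π ≫ ι α = b ≫ β.quot.π ≫ ι β := by
    intro α β T a b hab
    obtain ⟨Q, -, -, -⟩ := α.quot.restrict (inf_le_left : α.1 ⊓ β.1 ≤ α.1)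
      (Stable.inf D α.quot.stable β.quot.stable)
    let γ : Piece D := ⟨α.1 ⊓ β.1, ⟨Q⟩⟩
    let c : T ⟶ (γ.1 : Scheme.{u}) := IsOpenImmersion.lift γ.1.ι (a ≫ α.1.ι) (by
      rintro _ ⟨z, rfl⟩
      rw [Scheme.Opens.range_ι]
      refine ⟨?_, ?_⟩
      · rw [Scheme.Hom.comp_apply]; exact (a z).2
      · rw [hab, Scheme.Hom.comp_apply]; exact (b z).2)
    have hc : c ≫ γ.1.ι = a ≫ α.1.ι := IsOpenImmersion.lift_fac _ _ _
    have hγα : γ ≤ α := (inf_le_left : α.1 ⊓ β.1 ≤ α.1)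
    have hγβ : γ ≤ β := (inf_le_right : α.1 ⊓ β.1 ≤ β.1)
    have e1 : c ≫ D.obj.left.homOfLE (show γ.1 ≤ α.1 from hγα) = a := by
      rw [← cancel_mono α.1.ι, Category.assoc, Scheme.homOfLE_ι, hc]
    have e2 : c ≫ D.obj.left.homOfLE (show γ.1 ≤ β.1 from hγβ) = b := by
      rw [← cancel_mono β.1.ι, Category.assoc, Scheme.homOfLE_ι, hc, hab]
    rw [← e1, ← e2, Category.assoc, Category.assoc,
      ← reassoc_of% (γ.quot.π_map α.quot (show γ.1 ≤ α.1 from hγα)),
      ← reassoc_of% (γ.quot.π_map β.quot (show γ.1 ≤ β.1 from hγβ)), hι hγα, hι hγβ]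
  let π₀ : D.obj.left ⟶ U := 𝒲.glueMorphisms (fun α => α.quot.π ≫ ι α)
    (fun α β => hinter α β _ _ pullback.condition)
  have hπ₀ : ∀ α : Piece D, α.1.ι ≫ π₀ = α.quot.π ≫ ι α := fun α => Scheme.Cover.ι_glueMorphisms 𝒲 _ _ α
  have hw : D.obj.hom ≫ p = π₀ ≫ str := 𝒲.hom_ext _ _ fun (α : Piece D) => by
    show α.1.ι ≫ D.obj.hom ≫ p = α.1.ι ≫ π₀ ≫ str
    rw [reassoc_of% (hπ₀ α), hstr, ← α.quot.isPullback.w, Category.assoc]
  have hsat : ∀ (α : Piece D) (v : D.obj.left), π₀ v ∈ Set.range (ι α) → v ∈ α.1 := by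
    intro α v ⟨x, hx⟩
    obtain ⟨W, hv, hW⟩ := h v
    let β : Piece D := ⟨W, hW⟩
    have hvv : π₀ v = ι β (β.quot.π ⟨v, hv⟩) := by
      rw [← Scheme.Hom.comp_apply, ← hπ₀, Scheme.Hom.comp_apply]
      rfl
    obtain ⟨γ, fα, fβ, z, hz₁, hz₂⟩ := (Scheme.IsLocallyDirected.ι_eq_ι_iff F).mp (hx.trans hvv)
    haveI := γ.quot.isFpqc
    obtain ⟨w, rfl⟩ := γ.quot.π.surjective z
    change γ.quot.map β.quot (leOfHom fβ) (γ.quot.π w) = β.quot.π ⟨v, hv⟩ at hz₂
    rw [π_map_apply] at hz₂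
    have h1 := β.quot.mem_iff_of_π_eq γ.quot.stable hz₂
      (by rw [← Scheme.Hom.comp_apply, Scheme.homOfLE_ι]; exact w.2)
    exact (leOfHom fα : γ.1 ≤ α.1) h1
  have hpb : IsPullback π₀ D.obj.hom str p := by
    refine Scheme.isPullback_of_openCover _ _ _ _ (Scheme.IsLocallyDirected.openCover F)
      fun (α : Piece D) => ?_
    have hsq : IsPullback α.1.ι α.quot.π π₀ (ι α) := by
      refine IsPullback.flip (IsOpenImmersion.isPullback α.quot.π α.1.ι (ι α) π₀ (hπ₀ α) ?_)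
      refine TopologicalSpace.Opens.ext (Set.ext fun v => ⟨fun hv => ?_, fun hv => ?_⟩)
      · exact ⟨⟨v, hsat α v hv⟩, rfl⟩
      · obtain ⟨w, rfl⟩ := hv
        refine ⟨α.quot.π w, ?_⟩
        rw [← Scheme.Hom.comp_apply, ← hπ₀, Scheme.Hom.comp_apply]
    have h2 := α.quot.isPullback.flip
    rw [← hstr α] at h2
    exact h2.of_iso hsq.isoPullback (Iso.refl _) (Iso.refl _) (Iso.refl _)
      (by simp only [Iso.refl_hom, Category.comp_id]; exact hsq.isoPullback_hom_snd.symm)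
      (by simp only [Iso.refl_hom, Category.comp_id]
          exact (congrArg (· ≫ D.obj.hom) hsq.isoPullback_hom_fst.symm).trans (Category.assoc _ _ _))
      (by simp only [Iso.refl_hom, Category.comp_id, Category.id_comp]; rfl) (by simp)
  refine ⟨⟨U, str, (⊤ : D.obj.left.Opens).ι ≫ π₀, ?_, stable_top, ?_⟩⟩
  · exact hpb.flip.of_iso (Scheme.topIso D.obj.left).symm (Iso.refl _) (Iso.refl _) (Iso.refl _)
      (by simp [← Scheme.topIso_hom]) (by simp [← Scheme.topIso_hom]) (by simp) (by simp)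
  · intro T t t' x hx e
    rw [← Category.assoc, ← Category.assoc]
    let 𝒯 : T.OpenCover := T.openCoverOfIsOpenCover (fun α : Piece D => (t ≫ (⊤ : D.obj.left.Opens).ι) ⁻¹ᵁ α.1)
      (top_le_iff.mp fun z _ => by
        obtain ⟨W, hz, hW⟩ := h ((t ≫ (⊤ : D.obj.left.Opens).ι) z)
        exact TopologicalSpace.Opens.mem_iSup.mpr ⟨⟨W, hW⟩, hz⟩)
    refine 𝒯.hom_ext _ _ fun (α : Piece D) => ?_
    let O := (t ≫ (⊤ : D.obj.left.Opens).ι) ⁻¹ᵁ α.1
    show O.ι ≫ (t ≫ (⊤ : D.obj.left.Opens).ι) ≫ π₀ = O.ι ≫ (t' ≫ (⊤ : D.obj.left.Opens).ι) ≫ π₀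
    let a : (O : Scheme.{u}) ⟶ (α.1 : Scheme.{u}) :=
      (t ≫ (⊤ : D.obj.left.Opens).ι) ∣_ α.1
    have ha : a ≫ α.1.ι = O.ι ≫ t ≫ (⊤ : D.obj.left.Opens).ι := morphismRestrict_ι _ _
    have hx' : (a ≫ α.1.ι) ≫ D.obj.hom ≫ p = (O.ι ≫ x) ≫ p := by
      rw [ha]; simp only [Category.assoc] at hx ⊢; rw [hx]
    obtain ⟨b, hb⟩ := α.quot.stable.exists_lift a (O.ι ≫ x) hx'
    have hb' : b ≫ α.1.ι = O.ι ≫ t' ≫ (⊤ : D.obj.left.Opens).ι := by
      rw [hb, ← e, move_comp]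
      exact move_congr D ha _
    rw [← Category.assoc, ← Category.assoc O.ι (t' ≫ _), ← ha, ← hb', Category.assoc, Category.assoc,
      hπ₀, ← Category.assoc, ← Category.assoc b, α.quot.inv a b _ hx' hb.symm]

end Groth.Agent.SchDesc
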