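import Groth.Prelude.Def_DescFam
import Groth.Agent.SchDesc.Cover

/-!
# Full faithfulness of pullback functors on descent data
-/

set_option autoImplicit false
set_option linter.style.haveILetI false
universe w u
open CategoryTheory CategoryTheory.Limits AlgebraicGeometry

namespace Groth.Agent.SchDesc

/-- Morphisms of schemes glue along fpqc coverings. -/
theorem existsUnique_glue {T : Scheme.{u}} {K : Type w} {P : K → Scheme.{u}} {c : ∀ k, P k ⟶ T}
    (hc : Presieve.ofArrows P c ∈ Scheme.fpqcPrecoverage T) {Z : Scheme.{u}} (m : ∀ k, P k ⟶ Z)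
    (compat : ∀ k l (R : Scheme.{u}) (a : R ⟶ P k) (b : R ⟶ P l), a ≫ c k = b ≫ c l → a ≫ m k = b ≫ m l) :
    ∃! g : T ⟶ Z, ∀ k, c k ≫ g = m k := by
  have h : (Presieve.ofArrows P c).IsSheafFor (yoneda.obj Z) :=
    (GrothendieckTopology.Subcanonical.isSheaf_of_isRepresentable (J := Scheme.fpqcTopology) _).isSheafFor _
      (Precoverage.generate_mem_toGrothendieck hc)
  exact (Presieve.isSheafFor_arrows_iff _ _).mp h m fun k l R a b e => compat k l R a b e

theorem hom_ext_of_covering {T : Scheme.{u}} {K : Type w} {P : K → Scheme.{u}} {c : ∀ k, P k ⟶ T}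
    (hc : Presieve.ofArrows P c ∈ Scheme.fpqcPrecoverage T) {Z : Scheme.{u}} {g g' : T ⟶ Z}
    (h : ∀ k, c k ≫ g = c k ≫ g') : g = g' :=
  (existsUnique_glue hc (fun k => c k ≫ g) fun k l R a b e => by rw [reassoc_of% e]).unique
    (fun _ => rfl) fun k => (h k).symm

variable {S : Scheme.{u}} {ι κ : Type u} {U : ι → Scheme.{u}} {V : κ → Scheme.{u}}
  {u' : ∀ i, U i ⟶ S} {v' : ∀ j, V j ⟶ S} {α : ι → κ} {g : ∀ i, U i ⟶ V (α i)}
  (wg : ∀ i, g i ≫ v' (α i) = u' i ≫ 𝟙 S)

open _root_.Desc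

variable {D D' : SchDDFam v'}
  (a : (pullDDFam (f := v') (f' := u') (α := α) (p := 𝟙 S) (p' := g) wg).obj D ⟶
    (pullDDFam (f := v') (f' := u') (α := α) (p := 𝟙 S) (p' := g) wg).obj D')

/-- The component of a morphism of pulled-back data, on lifts. -/
noncomputable def comp' {T : Scheme.{u}} {i : ι} (y : T ⟶ U i) (v : Lifts (D.obj (α i)) (y ≫ g i)) :
    Lifts (D'.obj (α i)) (y ≫ g i) :=
  liftsPullbackEquiv (D'.obj (α i)) (g i) y (a.push ((liftsPullbackEquiv (D.obj (α i)) (g i) y).symm v))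

theorem comp'_comm {T : Scheme.{u}} {i i' : ι} (y : T ⟶ U i) (y' : T ⟶ U i')
    (h : y ≫ u' i = y' ≫ u' i') (v : Lifts (D.obj (α i)) (y ≫ g i)) :
    comp' wg a y' (D.φ (y ≫ g i) (y' ≫ g i') (pull_compat wg y y' h) v) =
      D'.φ (y ≫ g i) (y' ≫ g i') (pull_compat wg y y' h) (comp' wg a y v) := by
  have h1 := a.comm y y' h ((liftsPullbackEquiv (D.obj (α i)) (g i) y).symm v)
    (a.push ((liftsPullbackEquiv (D.obj (α i)) (g i) y).symm v)) rfl
  have h2 : (((pullDDFam (f := v') (f' := u') (α := α) (p := 𝟙 S) (p' := g) wg).obj D').φ y y' h)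
      (a.push ((liftsPullbackEquiv (D.obj (α i)) (g i) y).symm v)) =
      a.push ((((pullDDFam (f := v') (f' := u') (α := α) (p := 𝟙 S) (p' := g) wg).obj D).φ y y' h)
        ((liftsPullbackEquiv (D.obj (α i)) (g i) y).symm v)) := Subtype.ext h1
  have h3 := congrArg (liftsPullbackEquiv (D'.obj (α i')) (g i') y') h2
  refine Eq.trans ?_ (h3.symm.trans (Equiv.apply_symm_apply _ _))
  show liftsPullbackEquiv (D'.obj (α i')) (g i') y' (a.push ((liftsPullbackEquiv (D.obj (α i')) (g i') y').symm _)) =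
    liftsPullbackEquiv (D'.obj (α i')) (g i') y' (a.push ((liftsPullbackEquiv (D.obj (α i')) (g i') y').symm
      (D.φ _ _ (pull_compat wg y y' h)
        (liftsPullbackEquiv (D.obj (α i)) (g i) y ((liftsPullbackEquiv (D.obj (α i)) (g i) y).symm v)))))
  rw [Equiv.apply_symm_apply]

theorem comp'_natural {T T' : Scheme.{u}} (r : T' ⟶ T) {i : ι} (y : T ⟶ U i) (y₂ : T' ⟶ U i)
    (hy : r ≫ y = y₂) (v : Lifts (D.obj (α i)) (y ≫ g i)) (v₂ : Lifts (D.obj (α i)) (y₂ ≫ g i))
    (hv : v₂.1 = r ≫ v.1) : (comp' wg a y₂ v₂).1 = r ≫ (comp' wg a y v).1 := by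
  subst hy
  show (_ ≫ _) ≫ _ = r ≫ (_ ≫ _) ≫ _
  simp only [← Category.assoc]
  congr 2
  apply pullback.hom_ext
  · exact (pullback.lift_fst _ _ _).trans (hv.trans
      ((congrArg (r ≫ ·) (pullback.lift_fst _ _ _).symm).trans (Category.assoc _ _ _).symm))
  · exact (pullback.lift_snd _ _ _).trans
      ((congrArg (r ≫ ·) (pullback.lift_snd _ _ _).symm).trans (Category.assoc _ _ _).symm)

include wg in
theorem via_cond {T : Scheme.{u}} {j : κ} {x : T ⟶ V j} {i : ι} {y : T ⟶ U i}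
    (hy : y ≫ u' i = x ≫ v' j) : x ≫ v' j = (y ≫ g i) ≫ v' (α i) := by
  rw [← hy, Category.assoc, wg, Category.comp_id]

/-- The candidate descended map at a point, computed through an auxiliary point. -/
noncomputable def via {T : Scheme.{u}} {j : κ} {x : T ⟶ V j} (v : Lifts (D.obj j) x) {i : ι}
    (y : T ⟶ U i) (hy : y ≫ u' i = x ≫ v' j) : Lifts (D'.obj j) x :=
  D'.φ (y ≫ g i) x (via_cond wg hy).symm (comp' wg a y (D.φ x (y ≫ g i) (via_cond wg hy) v))

theorem via_eq {T : Scheme.{u}} {j : κ} {x : T ⟶ V j} (v : Lifts (D.obj j) x) {i i' : ι}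
    (y : T ⟶ U i) (hy : y ≫ u' i = x ≫ v' j) (y' : T ⟶ U i') (hy' : y' ≫ u' i' = x ≫ v' j) :
    via wg a v y hy = via wg a v y' hy' := by
  have hyy : y ≫ u' i = y' ≫ u' i' := hy.trans hy'.symm
  unfold via
  rw [← D.φ_comp x (y ≫ g i) (y' ≫ g i') (via_cond wg hy) (pull_compat wg y y' hyy), comp'_comm wg a y y' hyy,
    D'.φ_comp]

theorem via_natural {T T' : Scheme.{u}} (r : T' ⟶ T) {j : κ} {x : T ⟶ V j} (v : Lifts (D.obj j) x)
    {i : ι} (y : T ⟶ U i) (hy : y ≫ u' i = x ≫ v' j) (x₂ : T' ⟶ V j) (hx : r ≫ x = x₂)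
    (v₂ : Lifts (D.obj j) x₂) (hv : v₂.1 = r ≫ v.1) (y₂ : T' ⟶ U i) (hy₂ : r ≫ y = y₂)
    (hy₂' : y₂ ≫ u' i = x₂ ≫ v' j) :
    (via wg a v₂ y₂ hy₂').1 = r ≫ (via wg a v y hy).1 := by
  subst hy₂
  exact D'.φ_natural r (y ≫ g i) x _ ((r ≫ y) ≫ g i) x₂ (Category.assoc _ _ _).symm hx _ _ _
    (comp'_natural wg a r y (r ≫ y) rfl _ _
      (D.φ_natural r x (y ≫ g i) _ x₂ ((r ≫ y) ≫ g i) hx (Category.assoc _ _ _).symm _ v v₂ hv))

variable (u' v') in
/-- Every point of the coarse family is fpqc-locally a point of the fine family. -/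
def LocallyLifts : Prop :=
  ∀ (j : κ) (T : Scheme.{u}) (x : T ⟶ V j), ∃ (K : Type u) (P : K → Scheme.{u}) (c : ∀ k, P k ⟶ T)
    (i : K → ι) (y : ∀ k, P k ⟶ U (i k)), Presieve.ofArrows P c ∈ Scheme.fpqcPrecoverage T ∧
      ∀ k, y k ≫ u' (i k) = (c k ≫ x) ≫ v' j

theorem exists_map (hl : LocallyLifts u' v') (j : κ) :
    ∃ m : (D.obj j).left ⟶ (D'.obj j).left, ∀ (T : Scheme.{u}) (x : T ⟶ V j) (v : Lifts (D.obj j) x)
      (i : ι) (y : T ⟶ U i) (hy : y ≫ u' i = x ≫ v' j), v.1 ≫ m = (via wg a v y hy).1 := by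
  obtain ⟨K, P, c, i, y, hcov, hy⟩ := hl j _ (D.obj j).hom
  let w : ∀ k, Lifts (D.obj j) (c k ≫ (D.obj j).hom) := fun k => ⟨c k, rfl⟩
  let m₀ : ∀ k, P k ⟶ (D'.obj j).left := fun k => (via wg a (w k) (y k) (hy k)).1
  obtain ⟨m, hm, -⟩ := existsUnique_glue hcov m₀ fun k l R r s e => by
    have hyr : ∀ (k : K) (r : R ⟶ P k), (r ≫ y k) ≫ u' (i k) = (r ≫ c k ≫ (D.obj j).hom) ≫ v' j :=
      fun k r => by rw [Category.assoc, hy]; simp only [Category.assoc]
    have e' : r ≫ c k ≫ (D.obj j).hom = s ≫ c l ≫ (D.obj j).hom := by rw [reassoc_of% e]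
    rw [← via_natural wg a r (w k) (y k) (hy k) _ rfl ⟨r ≫ c k, Category.assoc _ _ _⟩ rfl _ rfl (hyr k r),
      ← via_natural wg a s (w l) (y l) (hy l) _ e'.symm ⟨r ≫ c k, Category.assoc _ _ _⟩ e _ rfl
        ((hyr l s).trans (by rw [e'])), via_eq wg a _ _ _ (s ≫ y l) ((hyr l s).trans (by rw [e']))]
  refine ⟨m, fun T x v i₀ y₀ hy₀ => ?_⟩
  have hcov' : Presieve.ofArrows (fun k => pullback v.1 (c k)) (fun k => pullback.fst v.1 (c k)) ∈
      Scheme.fpqcPrecoverage T :=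
    Precoverage.mem_coverings_of_isPullback c hcov v.1 _ (fun k => pullback.snd v.1 (c k))
      fun k => IsPullback.of_hasPullback _ _
  refine hom_ext_of_covering hcov' fun k => ?_
  let r := pullback.fst v.1 (c k)
  let s := pullback.snd v.1 (c k)
  have hrs : r ≫ v.1 = s ≫ c k := pullback.condition
  show r ≫ v.1 ≫ m = r ≫ _
  rw [reassoc_of% hrs, hm]
  have hx : s ≫ c k ≫ (D.obj j).hom = r ≫ x := by rw [← reassoc_of% hrs, v.2]
  have h₀ : (r ≫ y₀) ≫ u' i₀ = (r ≫ x) ≫ v' j := by rw [Category.assoc, hy₀, Category.assoc]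
  have h₁ : (s ≫ y k) ≫ u' (i k) = (r ≫ x) ≫ v' j := by
    rw [Category.assoc, hy, ← hx]; simp only [Category.assoc]
  show s ≫ (via wg a (w k) (y k) (hy k)).1 = _
  rw [← via_natural wg a r v y₀ hy₀ (r ≫ x) rfl ⟨r ≫ v.1, by rw [Category.assoc, v.2]⟩ rfl _ rfl h₀,
    ← via_natural wg a s (w k) (y k) (hy k) (r ≫ x) hx ⟨r ≫ v.1, by rw [Category.assoc, v.2]⟩ hrs _ rfl h₁,
    via_eq wg a _ _ _ (r ≫ y₀) h₀]

include wg in
theorem pull_full (hl : LocallyLifts u' v') :
    (pullDDFam (f := v') (f' := u') (α := α) (p := 𝟙 S) (p' := g) wg).Full := by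
  refine ⟨fun {D D'} a => ?_⟩
  choose m hm using exists_map wg a hl
  have hmh : ∀ j, m j ≫ (D'.obj j).hom = (D.obj j).hom := fun j => by
    obtain ⟨K, P, c, i, y, hcov, hy⟩ := hl j _ (D.obj j).hom
    refine hom_ext_of_covering hcov fun k => ?_
    rw [← Category.assoc]
    have := hm j _ _ ⟨c k, rfl⟩ (i k) (y k) (hy k)
    exact (congrArg (· ≫ (D'.obj j).hom) this).trans (via wg a ⟨c k, rfl⟩ (y k) (hy k)).2
  refine ⟨⟨fun j => Over.homMk (m j) (hmh j), fun T j₀ j₁ x₀ x₁ h v v₂ hv => ?_⟩, ?_⟩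
  · obtain ⟨K, P, c, i, y, hcov, hy⟩ := hl j₀ T x₀
    refine hom_ext_of_covering hcov fun k => ?_
    change v₂.1 = v.1 ≫ m j₀ at hv
    show c k ≫ _ = c k ≫ _ ≫ m j₁
    let vk : Lifts (D.obj j₀) (c k ≫ x₀) := ⟨c k ≫ v.1, by rw [Category.assoc, v.2]⟩
    let vk' : Lifts (D'.obj j₀) (c k ≫ x₀) := ⟨c k ≫ v₂.1, by rw [Category.assoc, v₂.2]⟩
    have hk : (c k ≫ x₀) ≫ v' j₀ = (c k ≫ x₁) ≫ v' j₁ := by simp only [Category.assoc, h]
    rw [← D'.φ_natural (c k) x₀ x₁ h _ _ rfl rfl hk v₂ vk' rfl, ← Category.assoc,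
      ← D.φ_natural (c k) x₀ x₁ h _ _ rfl rfl hk v vk rfl,
      hm j₁ _ _ (D.φ _ _ hk vk) (i k) (y k) ((hy k).trans hk)]
    have e : vk' = via wg a vk (y k) (hy k) := Subtype.ext (by
      show c k ≫ v₂.1 = _
      rw [hv, ← hm j₀ _ _ vk (i k) (y k) (hy k), Category.assoc])
    rw [e]
    unfold via
    rw [D'.φ_comp, D.φ_comp]
  · ext i : 2
    apply Over.OverMorphism.ext
    apply pullback.hom_ext
    · refine (pullback.lift_fst _ _ _).trans ?_
      show pullback.fst (D.obj (α i)).hom (g i) ≫ m (α i) = (a.hom i).left ≫ pullback.fst _ _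
      have hw : pullback.fst (D.obj (α i)).hom (g i) ≫ (D.obj (α i)).hom =
          pullback.snd (D.obj (α i)).hom (g i) ≫ g i := pullback.condition
      let v : Lifts (D.obj (α i)) (pullback.snd (D.obj (α i)).hom (g i) ≫ g i) := ⟨pullback.fst _ _, hw⟩
      have := hm (α i) _ _ v i (pullback.snd _ _) (by rw [Category.assoc, wg, Category.comp_id])
      refine this.trans ?_
      unfold via
      rw [D.φ_self, D'.φ_self]
      show (_ ≫ (a.hom i).left) ≫ pullback.fst _ _ = _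
      refine congrArg (· ≫ pullback.fst _ _) (Eq.trans (congrArg (· ≫ (a.hom i).left) ?_) (Category.id_comp _))
      apply pullback.hom_ext
      · exact (pullback.lift_fst _ _ _).trans (Category.id_comp _).symm
      · exact (pullback.lift_snd _ _ _).trans (Category.id_comp _).symm
    · exact (pullback.lift_snd _ _ _).trans ((Category.comp_id _).trans (Over.w (a.hom i)).symm)

include wg in
theorem pull_faithful (hl : LocallyLifts u' v') :
    (pullDDFam (f := v') (f' := u') (α := α) (p := 𝟙 S) (p' := g) wg).Faithful := by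
  refine ⟨fun {D D' b b'} e => _root_.Desc.SchDDFam.hom_ext (funext fun j => Over.OverMorphism.ext ?_)⟩
  obtain ⟨K, P, c, i, y, hcov, hy⟩ := hl j _ (D.obj j).hom
  refine hom_ext_of_covering hcov fun k => ?_
  let F := pullDDFam (f := v') (f' := u') (α := α) (p := 𝟙 S) (p' := g) wg
  let v : Lifts (D.obj j) (c k ≫ (D.obj j).hom) := ⟨c k, rfl⟩
  let v₁ := D.φ _ (y k ≫ g (i k)) (via_cond wg (hy k)) v
  have key : ∀ b : D ⟶ D', b.push v =
      D'.φ _ _ (via_cond wg (hy k)).symm (comp' wg (F.map b) (y k) v₁) := fun b => by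
    have h1 : comp' wg (F.map b) (y k) v₁ = b.push v₁ := by
      apply Subtype.ext
      show (_ ≫ _) ≫ pullback.fst _ _ = v₁.1 ≫ _
      exact (Category.assoc _ _ _).trans ((congrArg (_ ≫ ·) (pullback.lift_fst _ _ _)).trans
        ((Category.assoc _ _ _).symm.trans (congrArg (· ≫ _) (pullback.lift_fst _ _ _))))
    rw [h1]
    refine Subtype.ext ?_
    rw [b.comm _ _ _ v₁ (b.push v₁) rfl]
    show c k ≫ _ = _ ≫ _
    rw [D.φ_comp, D.φ_self]
  show c k ≫ (b.hom j).left = c k ≫ (b'.hom j).left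
  exact congrArg Subtype.val ((key b).trans (((congrArg (fun a => D'.φ _ _ (via_cond wg (hy k)).symm
    (comp' wg a (y k) v₁)) e)).trans (key b').symm))

/-- The canonical functor to descent data of an fpqc covering family is fully faithful. -/
theorem toDDFam_full_faithful {X : ι → Scheme.{u}} (f : ∀ i, X i ⟶ S)
    (hf : Presieve.ofArrows X f ∈ Scheme.fpqcPrecoverage S) :
    (toDDFam f).Full ∧ (toDDFam f).Faithful := by
  have hcov : ∀ W : Over S, Presieve.ofArrows (fun i => pullback (f i) W.hom) (fun i => pullback.snd (f i) W.hom) ∈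
      Scheme.fpqcPrecoverage W.left := fun W =>
    Precoverage.mem_coverings_of_isPullback f hf W.hom _ (fun i => pullback.fst (f i) W.hom)
      fun i => (IsPullback.of_hasPullback (f i) W.hom).flip
  refine ⟨⟨fun {W W'} a => ?_⟩, ⟨fun {W W' b b'} e => ?_⟩⟩
  · obtain ⟨m, hm, -⟩ := existsUnique_glue (hcov W) (fun i => (a.hom i).left ≫ pullback.snd (f i) W'.hom)
      fun i j R r s hrs => by
      let v : Lifts (((toDDFam f).obj W).obj i) (r ≫ pullback.fst (f i) W.hom) := ⟨r, rfl⟩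
      have h : (r ≫ pullback.fst (f i) W.hom) ≫ f i = (s ≫ pullback.fst (f j) W.hom) ≫ f j := by
        rw [Category.assoc, pullback.condition, reassoc_of% hrs, Category.assoc, pullback.condition]
      have h1 : (canMapFam f W' _ _ h (a.push v)).1 = (canMapFam f W _ _ h v).1 ≫ (a.hom j).left :=
        a.comm _ _ h v (a.push v) rfl
      have h2 : (canMapFam f W _ _ h v).1 = s :=
        pullback.hom_ext (pullback.lift_fst _ _ _) ((pullback.lift_snd _ _ _).trans hrs)
      rw [h2] at h1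
      have h3 := congrArg (· ≫ pullback.snd (f j) W'.hom) h1
      simp only [canMapFam_val, pullback.lift_snd] at h3
      exact ((Category.assoc _ _ _).symm).trans h3
    have hmh : m ≫ W'.hom = W.hom := hom_ext_of_covering (hcov W) fun i => by
      rw [reassoc_of% (hm i)]
      exact ((congrArg ((a.hom i).left ≫ ·) pullback.condition.symm).trans
        ((Category.assoc _ _ _).symm.trans (congrArg (· ≫ f i) (Over.w (a.hom i))))).trans pullback.condition
    refine ⟨Over.homMk m hmh, ?_⟩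
    ext i : 2
    apply Over.OverMorphism.ext
    apply pullback.hom_ext
    · exact (pullback.lift_fst _ _ _).trans ((Category.comp_id _).trans (Over.w (a.hom i)).symm)
    · exact (pullback.lift_snd _ _ _).trans (hm i)
  · refine Over.OverMorphism.ext (hom_ext_of_covering (hcov W) fun i => ?_)
    have := congrArg (fun a => (a.hom i).left ≫ pullback.snd (f i) W'.hom) e
    exact (pullback.lift_snd _ _ _).symm.trans (this.trans (pullback.lift_snd _ _ _))

end Groth.Agent.SchDesc
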