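import Groth.Prelude.Def_DescFam
import Groth.Agent.SchDesc.Glue

/-!
# Pullback of descent data and descent of quotients
-/

set_option autoImplicit false
set_option linter.style.haveILetI false
universe u
open CategoryTheory CategoryTheory.Limits AlgebraicGeometry

namespace Groth.Agent.SchDesc

variable {X S X' S' : Scheme.{u}} {p : X ⟶ S} {p' : X' ⟶ S'}

theorem pull_w {q : X' ⟶ X} {s : S' ⟶ S} (w : q ≫ p = p' ≫ s) {T : Scheme.{u}} {x₀ x₁ : T ⟶ X'}
    (h : x₀ ≫ p' = x₁ ≫ p') : (x₀ ≫ q) ≫ p = (x₁ ≫ q) ≫ p := by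
  rw [Category.assoc, Category.assoc, w, reassoc_of% h]

open _root_.Desc in
/-- Pullback of a descent datum. -/
noncomputable def pull (D : SchDD p) (q : X' ⟶ X) {s : S' ⟶ S} (w : q ≫ p = p' ≫ s) : SchDD p' where
  obj := Over.mk (pullback.snd D.obj.hom q)
  φ T x₀ x₁ h := (liftsPullbackEquiv D.obj q x₀).trans
    ((D.φ (x₀ ≫ q) (x₁ ≫ q) (pull_w w h)).trans (liftsPullbackEquiv D.obj q x₁).symm)
  φ_natural T T' g x₀ x₁ h h' v v' hv' := by
    have hnat : ∀ (y₀ y₁ : T' ⟶ X) (_ : g ≫ x₀ ≫ q = y₀) (_ : g ≫ x₁ ≫ q = y₁) (hy : y₀ ≫ p = y₁ ≫ p)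
        (u : Lifts D.obj (x₀ ≫ q)) (u' : Lifts D.obj y₀), u'.1 = g ≫ u.1 →
        (D.φ y₀ y₁ hy u').1 = g ≫ (D.φ (x₀ ≫ q) (x₁ ≫ q) (pull_w w h) u).1 := by
      rintro _ _ rfl rfl hy u u' hu
      exact D.φ_natural g _ _ _ hy u u' hu
    apply pullback.hom_ext
    · simp only [Equiv.trans_apply, liftsPullbackEquiv, Equiv.coe_fn_mk, Equiv.coe_fn_symm_mk,
        pullback.lift_fst, Category.assoc]
      exact hnat _ _ (Category.assoc _ _ _).symm (Category.assoc _ _ _).symm (pull_w w h') _ _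
        (by simp [hv'])
    · refine Eq.trans (pullback.lift_snd _ _ _) ?_
      rw [Category.assoc]
      exact congrArg (g ≫ ·) (pullback.lift_snd _ _ _).symm
  φ_self T x v := by
    simp [D.φ_self]
  φ_comp T x₀ x₁ x₂ h₀₁ h₁₂ v := by
    simp [D.φ_comp]

theorem move_congr₂ {D : _root_.Desc.SchDD p} {T : Scheme.{u}} {v v' : T ⟶ D.obj.left} (e : v = v')
    {x x' : T ⟶ X} (e' : x = x') {h : v ≫ D.obj.hom ≫ p = x ≫ p} {h' : v' ≫ D.obj.hom ≫ p = x' ≫ p} :
    move D v x h = move D v' x' h' := by subst e e'; rfl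

variable (D : _root_.Desc.SchDD p) (q : X' ⟶ X) {s : S' ⟶ S} (w : q ≫ p = p' ≫ s)

/-- The map to the original scheme. -/
noncomputable def pullFst : (pull D q w).obj.left ⟶ D.obj.left := pullback.fst D.obj.hom q

theorem isPullback_pull : IsPullback (pullFst D q w) (pull D q w).obj.hom D.obj.hom q :=
  IsPullback.of_hasPullback _ _

theorem move_pull {T : Scheme.{u}} (v : T ⟶ (pull D q w).obj.left) (x : T ⟶ X')
    (h : v ≫ (pull D q w).obj.hom ≫ p' = x ≫ p') :
    move (pull D q w) v x h ≫ pullFst D q w = move D (v ≫ pullFst D q w) (x ≫ q) (by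
      simp only [Category.assoc]
      rw [reassoc_of% (isPullback_pull D q w).w, w, reassoc_of% h]) := by
  have hx : (v ≫ (pull D q w).obj.hom) ≫ p' = x ≫ p' := by rw [Category.assoc]; exact h
  rw [← φ_eq_move (pull D q w) (v ≫ (pull D q w).obj.hom) x hx ⟨v, rfl⟩]
  refine (pullback.lift_fst _ _ _).trans ?_
  exact φ_eq_move D _ _ (pull_w w hx) _

/-- A quotient of the restriction to an open of the base gives a quotient on its preimage. -/
theorem quot_of_pull_open [IsFpqc p] (S₀ : S.Opens)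
    (Q : Quot (pull D (p ⁻¹ᵁ S₀).ι (morphismRestrict_ι p S₀).symm) ⊤) :
    Nonempty (Quot D (D.obj.hom ⁻¹ᵁ p ⁻¹ᵁ S₀)) := by
  let q := (p ⁻¹ᵁ S₀).ι
  let D' := pull D q (morphismRestrict_ι p S₀).symm
  let W := D.obj.hom ⁻¹ᵁ p ⁻¹ᵁ S₀
  have hW := (isPullback_morphismRestrict D.obj.hom (p ⁻¹ᵁ S₀)).flip
  let e : (W : Scheme.{u}) ≅ D'.obj.left := hW.isoIsPullback _ _ (isPullback_pull D q _)
  have he₁ : e.hom ≫ pullFst D q _ = W.ι := hW.isoIsPullback_hom_fst _ _ _
  have he₂ : e.hom ≫ D'.obj.hom = D.obj.hom ∣_ (p ⁻¹ᵁ S₀) := hW.isoIsPullback_hom_snd _ _ _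
  let π : (W : Scheme.{u}) ⟶ Q.U := e.hom ≫ (Scheme.topIso _).inv ≫ Q.π
  have h1 : IsPullback (D.obj.hom ∣_ (p ⁻¹ᵁ S₀)) π (p ∣_ S₀) Q.str := by
    refine Q.isPullback.of_iso (Scheme.topIso _ ≪≫ e.symm) (.refl _) (.refl _) (.refl _) ?_ ?_ (by simp) (by simp)
    · simp only [Iso.refl_hom, Category.comp_id, Iso.trans_hom, Iso.symm_hom, Category.assoc]
      rw [← he₂, Iso.inv_hom_id_assoc, Scheme.topIso_hom]
    · simp only [π, Iso.refl_hom, Category.comp_id, Iso.trans_hom, Iso.symm_hom, Category.assoc,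
        Iso.inv_hom_id_assoc]
      exact (Iso.hom_inv_id_assoc _ _).symm
  refine ⟨⟨Q.U, Q.str ≫ S₀.ι, π, ?_, fun t ht => ?_, fun t t' x hx e' => ?_⟩⟩
  · have := h1.paste_horiz (isPullback_morphismRestrict p S₀).flip
    rwa [show (D.obj.hom ∣_ (p ⁻¹ᵁ S₀)) ≫ (p ⁻¹ᵁ S₀).ι = W.ι ≫ D.obj.hom from morphismRestrict_ι _ _] at this
  · show p (D.obj.hom (act D t)) ∈ S₀
    rw [← Scheme.Hom.comp_apply (act D), act_hom, ← Scheme.Hom.comp_apply, ← pullback.condition,
      Scheme.Hom.comp_apply]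
    exact ht
  · let x' := IsOpenImmersion.lift q x (by
      rintro _ ⟨z, rfl⟩
      rw [Scheme.Opens.range_ι]
      show p (x z) ∈ S₀
      rw [← Scheme.Hom.comp_apply, ← hx, Scheme.Hom.comp_apply, Scheme.Hom.comp_apply]
      exact (t z).2)
    have hx' : x' ≫ q = x := IsOpenImmersion.lift_fac _ _ _
    have ht : ∀ {R : Scheme.{u}} (r : R ⟶ (W : Scheme.{u})),
        (r ≫ e.hom ≫ (Scheme.topIso _).inv) ≫ (⊤ : D'.obj.left.Opens).ι = r ≫ e.hom := fun r => by
      rw [Category.assoc, Category.assoc, ← Scheme.topIso_hom, Iso.inv_hom_id, Category.comp_id]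
    have hcond : (t ≫ e.hom) ≫ D'.obj.hom ≫ (p ∣_ S₀) = x' ≫ (p ∣_ S₀) := by
      rw [← cancel_mono S₀.ι]
      simp only [Category.assoc, morphismRestrict_ι]
      rw [reassoc_of% he₂, ← Category.assoc (D.obj.hom ∣_ _), morphismRestrict_ι, reassoc_of% hx']
      simpa only [Category.assoc] using hx
    have h2 := Q.inv (t ≫ e.hom ≫ (Scheme.topIso _).inv) (t' ≫ e.hom ≫ (Scheme.topIso _).inv) x'
      (by rw [ht]; exact hcond) (by
        refine (move_congr D' (ht t) _).trans (Eq.trans ?_ (ht t').symm)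
        apply (isPullback_pull D q (morphismRestrict_ι p S₀).symm).hom_ext
        · rw [move_pull]
          refine ((move_congr₂ (by rw [Category.assoc, he₁]) hx').trans e').trans ?_
          rw [Category.assoc, he₁]
        · rw [move_hom, Category.assoc, he₂, ← cancel_mono q]
          simp only [q, Category.assoc, morphismRestrict_ι]
          rw [show x' ≫ (p ⁻¹ᵁ S₀).ι = x from hx', ← Category.assoc, ← e', move_hom])
    simpa only [π, Category.assoc] using h2

/-- Quotients descend along fpqc covers of the covering scheme. -/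
theorem quot_of_pull_cover [IsFpqc p] [IsFpqc q] {wq : q ≫ p = (q ≫ p) ≫ 𝟙 S}
    (Q : Quot (pull D q wq) ⊤) : Nonempty (Quot D ⊤) := by
  let D' := pull D q wq
  let ε : D'.obj.left ⟶ D.obj.left := pullFst D q wq
  have hε := isPullback_pull D q wq
  haveI : IsFpqc ε := IsFpqc.of_isPullback hε.flip
  let π₀ : D'.obj.left ⟶ Q.U := (Scheme.topIso _).inv ≫ Q.π
  have htop : ∀ {T : Scheme.{u}} (r : T ⟶ D'.obj.left),
      (r ≫ (Scheme.topIso _).inv) ≫ (⊤ : D'.obj.left.Opens).ι = r := fun r => by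
    rw [Category.assoc, ← Scheme.topIso_hom, Iso.inv_hom_id, Category.comp_id]
  have hinv' : ∀ {T : Scheme.{u}} (v : T ⟶ D'.obj.left) (x : T ⟶ X')
      (h : v ≫ D'.obj.hom ≫ q ≫ p = x ≫ q ≫ p), move D' v x h ≫ π₀ = v ≫ π₀ := fun v x h => by
    have := Q.inv (v ≫ (Scheme.topIso _).inv) (move D' v x h ≫ (Scheme.topIso _).inv) x
      (by rw [htop]; exact h) ((move_congr D' (htop v) _).trans (htop _).symm)
    simpa only [π₀, Category.assoc] using this.symm
  let π : D.obj.left ⟶ Q.U := EffectiveEpi.desc ε π₀ (fun {T} g₁ g₂ hg => by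
    have hc : g₁ ≫ D'.obj.hom ≫ q ≫ p = (g₂ ≫ D'.obj.hom) ≫ q ≫ p := by
      rw [← reassoc_of% hε.w, reassoc_of% hg, Category.assoc, reassoc_of% hε.w]
    rw [← hinv' g₁ (g₂ ≫ D'.obj.hom) hc]
    congr 1
    apply hε.hom_ext
    · rw [move_pull]
      refine (move_self D _ _ _ ?_).trans hg
      rw [hg, Category.assoc, hε.w, Category.assoc]
    · rw [move_hom])
  have hπ : ε ≫ π = π₀ := EffectiveEpi.fac _ _ _
  have hpb0 : IsPullback D'.obj.hom π₀ (q ≫ p) Q.str :=
    Q.isPullback.of_iso (Scheme.topIso _) (.refl _) (.refl _) (.refl _) (by simp [← Scheme.topIso_hom]; rfl)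
      (by simp [π₀]) (by simp) (by simp)
  have hinv : ∀ {T : Scheme.{u}} (v : T ⟶ D.obj.left) (x : T ⟶ X) (h : v ≫ D.obj.hom ≫ p = x ≫ p),
      move D v x h ≫ π = v ≫ π := by
    intro T v x h
    let c₁ := pullback.fst (v ≫ D.obj.hom) q
    haveI : IsFpqc c₁ := IsFpqc.of_isPullback (IsPullback.of_hasPullback (v ≫ D.obj.hom) q).flip
    let c₂ := pullback.fst (c₁ ≫ x) q
    haveI : IsFpqc c₂ := IsFpqc.of_isPullback (IsPullback.of_hasPullback (c₁ ≫ x) q).flip
    rw [← cancel_epi c₁, ← cancel_epi c₂]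
    let v' : pullback (c₁ ≫ x) q ⟶ D'.obj.left := hε.lift (c₂ ≫ c₁ ≫ v) (c₂ ≫ pullback.snd _ _) (by
      simp only [Category.assoc]; rw [pullback.condition])
    have hv' : v' ≫ ε = c₂ ≫ c₁ ≫ v := hε.lift_fst _ _ _
    have hc : v' ≫ D'.obj.hom ≫ q ≫ p = pullback.snd (c₁ ≫ x) q ≫ q ≫ p := by
      rw [← reassoc_of% hε.w, reassoc_of% hv', h, ← pullback.condition_assoc, Category.assoc]
    have h3 := hinv' v' _ hc
    have h4 : move D' v' _ hc ≫ ε = c₂ ≫ c₁ ≫ move D v x h := by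
      rw [move_pull, move_comp, move_comp]
      exact move_congr₂ hv' pullback.condition.symm
    calc c₂ ≫ c₁ ≫ move D v x h ≫ π = (move D' v' _ hc ≫ ε) ≫ π := by rw [h4]; simp only [Category.assoc]
      _ = v' ≫ ε ≫ π := by rw [Category.assoc, hπ]; exact h3
      _ = c₂ ≫ c₁ ≫ v ≫ π := by rw [reassoc_of% hv']
  haveI : Epi ε := inferInstance
  have hw : D.obj.hom ≫ p = π ≫ Q.str := by
    rw [← cancel_epi ε, reassoc_of% hπ, ← hpb0.w, reassoc_of% hε.w]
  let u : D.obj.left ⟶ pullback p Q.str := pullback.lift D.obj.hom π hw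
  let cc : pullback (q ≫ p) Q.str ⟶ pullback p Q.str :=
    pullback.lift (pullback.fst _ _ ≫ q) (pullback.snd _ _) (by rw [Category.assoc]; exact pullback.condition)
  have hcc₁ : cc ≫ pullback.fst p Q.str = pullback.fst (q ≫ p) Q.str ≫ q := pullback.lift_fst _ _ _
  have hcc : IsPullback cc (pullback.fst (q ≫ p) Q.str) (pullback.fst p Q.str) q := by
    refine IsPullback.of_right ?_ hcc₁ (IsPullback.of_hasPullback p Q.str).flip
    rw [pullback.lift_snd]
    exact (IsPullback.of_hasPullback (q ≫ p) Q.str).flip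
  haveI : IsFpqc cc := IsFpqc.of_isPullback hcc.flip
  let g' : D'.obj.left ⟶ pullback (q ≫ p) Q.str := pullback.lift D'.obj.hom π₀ hpb0.w
  haveI : IsIso g' := by
    rw [show g' = hpb0.isoPullback.hom from pullback.hom_ext
      ((pullback.lift_fst _ _ _).trans hpb0.isoPullback_hom_fst.symm)
      ((pullback.lift_snd _ _ _).trans hpb0.isoPullback_hom_snd.symm)]
    infer_instance
  have hsq : IsPullback ε g' u cc := by
    refine IsPullback.of_bot (v₂₁ := pullback.fst (q ≫ p) Q.str) (v₂₂ := pullback.fst p Q.str) (h₃₁ := q) ?_ ?_ hcc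
    · simp only [g', u, pullback.lift_fst]
      exact hε
    · apply pullback.hom_ext
      · simp only [u, g', cc, Category.assoc, pullback.lift_fst, pullback.lift_fst_assoc]
        exact hε.w
      · simp only [u, g', cc, Category.assoc, pullback.lift_snd]
        exact hπ
  haveI : IsIso u := IsFpqc.isIso_of_isPullback hsq
  refine ⟨⟨Q.U, Q.str, (⊤ : D.obj.left.Opens).ι ≫ π, ?_, stable_top, fun t t' x hx e => ?_⟩⟩
  · refine (IsPullback.of_hasPullback p Q.str).of_iso ((asIso u).symm ≪≫ (Scheme.topIso _).symm)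
      (.refl _) (.refl _) (.refl _) ?_ ?_ (by simp) (by simp)
    · simp [← Scheme.topIso_hom, u]
      exact pullback.lift_fst _ _ _
    · simp [← Scheme.topIso_hom, u]
      exact pullback.lift_snd _ _ _
  · rw [← Category.assoc, ← Category.assoc, ← e, hinv]

end Groth.Agent.SchDesc
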