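import Groth.Prelude.Def_DescFam

/-!
# Pullback of descent data along endomorphisms over the base
-/

set_option autoImplicit false
set_option linter.style.haveILetI false
set_option backward.isDefEq.respectTransparency false

universe u

open CategoryTheory CategoryTheory.Limits AlgebraicGeometry

noncomputable section

namespace Groth.Agent.SchDesc

open _root_.Desc

variable {X S : Scheme.{u}} (a : X ⟶ S)

/-- Descent data relative to a single morphism. -/
abbrev DDone := SchDDFam (fun _ : PUnit.{u + 1} => a)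

/-- A functor on descent data whose points over `x` are the points of the original datum over `x ≫ c`. -/
structure Twist (c : X ⟶ X) (G : (DDone a) ⥤ (DDone a)) where
  ε : ∀ (D : (DDone a)) ⦃T : Scheme.{u}⦄ (i : PUnit.{u + 1}) (x : T ⟶ X), Lifts ((G.obj D).obj i) x ≃ Lifts (D.obj i) (x ≫ c)
  nat : ∀ (D : (DDone a)) ⦃T T' : Scheme.{u}⦄ (g : T' ⟶ T) (i : PUnit.{u + 1}) (x : T ⟶ X) (x' : T' ⟶ X) (_ : g ≫ x = x')
    (v : Lifts ((G.obj D).obj i) x) (v' : Lifts ((G.obj D).obj i) x'), v'.1 = g ≫ v.1 →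
    (ε D i x' v').1 = g ≫ (ε D i x v).1
  compat : ∀ (D : (DDone a)) ⦃T : Scheme.{u}⦄ (i j : PUnit.{u + 1}) (x₀ x₁ : T ⟶ X) (h : x₀ ≫ a = x₁ ≫ a)
    (h' : (x₀ ≫ c) ≫ a = (x₁ ≫ c) ≫ a) (v : Lifts ((G.obj D).obj i) x₀),
    ε D j x₁ ((G.obj D).φ x₀ x₁ h v) = D.φ (x₀ ≫ c) (x₁ ≫ c) h' (ε D i x₀ v)
  map : ∀ {D D' : (DDone a)} (α : D ⟶ D') ⦃T : Scheme.{u}⦄ (i : PUnit.{u + 1}) (x : T ⟶ X) (v : Lifts ((G.obj D).obj i) x),
    (ε D' i x ((G.map α).push v)).1 = (ε D i x v).1 ≫ (α.hom i).left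

variable {a} {c : X ⟶ X} (hc : c ≫ a = a) {G : (DDone a) ⥤ (DDone a)} (t : Twist a c G)

include hc in
theorem twist_eq {T : Scheme.{u}} (x : T ⟶ X) : (x ≫ c) ≫ a = x ≫ a := by rw [Category.assoc, hc]

/-- The comparison on points. -/
def cmp (D : (DDone a)) {T : Scheme.{u}} (i : PUnit.{u + 1}) (x : T ⟶ X) : Lifts ((G.obj D).obj i) x ≃ Lifts (D.obj i) x :=
  (t.ε D i x).trans (D.φ (i := i) (j := i) (x ≫ c) x (twist_eq hc x))

theorem cmp_nat (D : (DDone a)) {T T' : Scheme.{u}} (g : T' ⟶ T) (i : PUnit.{u + 1}) (x : T ⟶ X) (x' : T' ⟶ X)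
    (e : g ≫ x = x') (v : Lifts ((G.obj D).obj i) x) (v' : Lifts ((G.obj D).obj i) x') (hv : v'.1 = g ≫ v.1) :
    (cmp hc t D i x' v').1 = g ≫ (cmp hc t D i x v).1 :=
  D.φ_natural g (x ≫ c) x (twist_eq hc x) (x' ≫ c) x' (by rw [← e, Category.assoc]) e (twist_eq hc x') _ _
    (t.nat D g i x x' e v v' hv)

theorem cmp_symm_nat (D : (DDone a)) {T T' : Scheme.{u}} (g : T' ⟶ T) (i : PUnit.{u + 1}) (x : T ⟶ X) (x' : T' ⟶ X)
    (e : g ≫ x = x') (w : Lifts (D.obj i) x) (w' : Lifts (D.obj i) x') (hw : w'.1 = g ≫ w.1) :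
    ((cmp hc t D i x').symm w').1 = g ≫ ((cmp hc t D i x).symm w).1 := by
  let v := (cmp hc t D i x).symm w
  let v' : Lifts ((G.obj D).obj i) x' := ⟨g ≫ v.1, by rw [Category.assoc, v.2, e]⟩
  have : (cmp hc t D i x') v' = w' := Subtype.ext (by
    rw [cmp_nat hc t D g i x x' e v v' rfl, Equiv.apply_symm_apply, hw])
  rw [← this, Equiv.symm_apply_apply]

/-- The underlying morphism of the comparison. -/
def compHom (D : (DDone a)) (i : PUnit.{u + 1}) : (G.obj D).obj i ≅ D.obj i where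
  hom := Over.homMk (cmp hc t D i ((G.obj D).obj i).hom ⟨𝟙 _, Category.id_comp _⟩).1 (cmp hc t D i _ _).2
  inv := Over.homMk ((cmp hc t D i (D.obj i).hom).symm ⟨𝟙 _, Category.id_comp _⟩).1
    ((cmp hc t D i _).symm _).2
  hom_inv_id := by
    apply Over.OverMorphism.ext
    have h := cmp_symm_nat hc t D (cmp hc t D i ((G.obj D).obj i).hom ⟨𝟙 _, Category.id_comp _⟩).1 i
      (D.obj i).hom ((G.obj D).obj i).hom (cmp hc t D i _ _).2 ⟨𝟙 _, Category.id_comp _⟩
      (cmp hc t D i ((G.obj D).obj i).hom ⟨𝟙 _, Category.id_comp _⟩) (Category.comp_id _).symm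
    rw [Equiv.symm_apply_apply] at h
    exact h.symm
  inv_hom_id := by
    apply Over.OverMorphism.ext
    have h := cmp_nat hc t D ((cmp hc t D i (D.obj i).hom).symm ⟨𝟙 _, Category.id_comp _⟩).1 i
      ((G.obj D).obj i).hom (D.obj i).hom ((cmp hc t D i _).symm _).2 ⟨𝟙 _, Category.id_comp _⟩
      ((cmp hc t D i (D.obj i).hom).symm ⟨𝟙 _, Category.id_comp _⟩) (Category.comp_id _).symm
    rw [Equiv.apply_symm_apply] at h
    exact h.symm

theorem compHom_point (D : (DDone a)) {T : Scheme.{u}} (i : PUnit.{u + 1}) (x : T ⟶ X) (v : Lifts ((G.obj D).obj i) x) :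
    v.1 ≫ (compHom hc t D i).hom.left = (cmp hc t D i x v).1 :=
  (cmp_nat hc t D v.1 i ((G.obj D).obj i).hom x v.2 ⟨𝟙 _, Category.id_comp _⟩ v (Category.comp_id _).symm).symm

theorem compHom_inv_point (D : (DDone a)) {T : Scheme.{u}} (i : PUnit.{u + 1}) (x : T ⟶ X) (w : Lifts (D.obj i) x) :
    w.1 ≫ (compHom hc t D i).inv.left = ((cmp hc t D i x).symm w).1 :=
  (cmp_symm_nat hc t D w.1 i (D.obj i).hom x w.2 ⟨𝟙 _, Category.id_comp _⟩ w (Category.comp_id _).symm).symm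

include hc in
theorem cmp_φ (D : (DDone a)) {T : Scheme.{u}} (i j : PUnit.{u + 1}) (x₀ x₁ : T ⟶ X) (h : x₀ ≫ a = x₁ ≫ a)
    (v : Lifts ((G.obj D).obj i) x₀) :
    cmp hc t D j x₁ ((G.obj D).φ x₀ x₁ h v) = D.φ x₀ x₁ h (cmp hc t D i x₀ v) := by
  simp only [cmp, Equiv.trans_apply]
  rw [t.compat D i j x₀ x₁ h (by rw [twist_eq hc, twist_eq hc, h]), D.φ_comp, D.φ_comp]

/-- A twisting functor is isomorphic to the identity. -/
def twistIso : G ≅ 𝟭 (DDone a) :=
  NatIso.ofComponents (fun D =>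
    { hom := ⟨fun i => (compHom hc t D i).hom, fun T i j x₀ x₁ h v w hw => by
        have e : w = cmp hc t D i x₀ v := Subtype.ext (hw.trans (compHom_point hc t D i x₀ v))
        subst e
        exact (congrArg Subtype.val (cmp_φ hc t D i j x₀ x₁ h v)).symm.trans
          (compHom_point hc t D j x₁ _).symm⟩
      inv := ⟨fun i => (compHom hc t D i).inv, fun T i j x₀ x₁ h v w hw => by
        have e : w = (cmp hc t D i x₀).symm v := Subtype.ext (hw.trans (compHom_inv_point hc t D i x₀ v))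
        subst e
        refine Eq.trans ?_ (compHom_inv_point hc t D j x₁ _).symm
        exact congrArg Subtype.val ((Equiv.eq_symm_apply _).2 ((cmp_φ hc t D i j x₀ x₁ h _).trans (by
          rw [Equiv.apply_symm_apply]; rfl)))⟩
      hom_inv_id := SchDDFam.hom_ext (funext fun i => (compHom hc t D i).hom_inv_id)
      inv_hom_id := SchDDFam.hom_ext (funext fun i => (compHom hc t D i).inv_hom_id) })
    fun {D D'} α => by
      apply SchDDFam.hom_ext
      funext i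
      apply Over.OverMorphism.ext
      show ((G.map α).hom i).left ≫ (compHom hc t D' i).hom.left = (compHom hc t D i).hom.left ≫ (α.hom i).left
      have h1 := compHom_point hc t D' i _ ((G.map α).push (⟨𝟙 _, Category.id_comp _⟩ : Lifts ((G.obj D).obj i) ((G.obj D).obj i).hom))
      refine Eq.trans ?_ (Eq.trans h1 ?_)
      · exact congrArg (· ≫ _) (Category.id_comp _).symm
      · exact α.comm _ _ (twist_eq hc _) (t.ε D i ((G.obj D).obj i).hom ⟨𝟙 _, Category.id_comp _⟩) _ (t.map α i _ _)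

/-- Pullback along an endomorphism over the base is a twist. -/
def pullTwist (f : X ⟶ X) (w : f ≫ a = a ≫ 𝟙 S) :
    Twist a f (pullDDFam (f := fun _ : PUnit.{u + 1} => a) (f' := fun _ : PUnit.{u + 1} => a) (α := fun j => j)
      (p := 𝟙 S) (p' := fun _ => f) (fun _ => w)) where
  ε D _ i x := liftsPullbackEquiv (D.obj i) f x
  nat D T T' g i x x' e v v' hv := by
    show v'.1 ≫ pullback.fst _ _ = g ≫ v.1 ≫ pullback.fst _ _
    rw [hv, Category.assoc]
  compat D T i j x₀ x₁ h h' v := Equiv.apply_symm_apply _ _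
  map {D D'} α T i x v := by
    simp [SchDDFam.Hom.push, pullDDFam, liftsPullbackEquiv]

variable {X' : Scheme.{u}} {a' : X' ⟶ S}

/-- Pulling back along `f` then along `g` is a twist by `g ≫ f`. -/
def compTwist (f : X' ⟶ X) (g : X ⟶ X') (w : f ≫ a = a' ≫ 𝟙 S) (w' : g ≫ a' = a ≫ 𝟙 S) :
    Twist a (g ≫ f)
      (pullDDFam (f := fun _ : PUnit.{u + 1} => a) (f' := fun _ : PUnit.{u + 1} => a') (α := fun j => j)
          (p := 𝟙 S) (p' := fun _ => f) (fun _ => w) ⋙
        pullDDFam (f := fun _ : PUnit.{u + 1} => a') (f' := fun _ : PUnit.{u + 1} => a) (α := fun j => j)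
          (p := 𝟙 S) (p' := fun _ => g) (fun _ => w')) where
  ε D _ i x := (liftsPullbackEquiv _ g x).trans ((liftsPullbackEquiv (D.obj i) f (x ≫ g)).trans
    { toFun := fun v => ⟨v.1, v.2.trans (Category.assoc _ _ _)⟩
      invFun := fun v => ⟨v.1, v.2.trans (Category.assoc _ _ _).symm⟩
      left_inv := fun _ => rfl
      right_inv := fun _ => rfl })
  nat D T T' h i x x' e v v' hv := by
    show (v'.1 ≫ pullback.fst _ _) ≫ pullback.fst _ _ = h ≫ (v.1 ≫ pullback.fst _ _) ≫ pullback.fst _ _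
    rw [hv]; simp only [Category.assoc]
  compat D T i j x₀ x₁ h h' v := by
    have heq : ∀ (y₀ y₁ : T ⟶ X) (e₀ : (x₀ ≫ g) ≫ f = y₀) (e₁ : (x₁ ≫ g) ≫ f = y₁) (k : y₀ ≫ a = y₁ ≫ a)
        (u : Lifts (D.obj i) ((x₀ ≫ g) ≫ f)) (u' : Lifts (D.obj i) y₀) (_ : u'.1 = u.1)
        (k' : ((x₀ ≫ g) ≫ f) ≫ a = ((x₁ ≫ g) ≫ f) ≫ a),
        (D.φ (j := j) ((x₀ ≫ g) ≫ f) ((x₁ ≫ g) ≫ f) k' u).1 = (D.φ (j := j) y₀ y₁ k u').1 := by
      rintro _ _ rfl rfl k u u' hu k'
      rw [Subtype.ext hu]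
    apply Subtype.ext
    simp only [Equiv.trans_apply, Equiv.coe_fn_mk]
    erw [Equiv.apply_symm_apply]
    erw [Equiv.apply_symm_apply]
    exact heq _ _ (Category.assoc _ _ _) (Category.assoc _ _ _) h' _ _ rfl _
  map {D D'} α T i x v := by
    simp [SchDDFam.Hom.push, pullDDFam, liftsPullbackEquiv]

end Groth.Agent.SchDesc
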