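import Groth.Prelude.Def_Desc
import Groth.Agent.SchDesc.Cover

/-!
# Descent data for schemes: quotients of stable opens
-/

set_option autoImplicit false
set_option linter.style.haveILetI false
universe u
open CategoryTheory CategoryTheory.Limits AlgebraicGeometry

namespace Groth.Agent.SchDesc

variable {X S : Scheme.{u}} {p : X ⟶ S} (D : _root_.Desc.SchDD p)

/-- The action morphism of a descent datum. -/
noncomputable def act : pullback (D.obj.hom ≫ p) p ⟶ D.obj.left :=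
  (D.φ (pullback.fst (D.obj.hom ≫ p) p ≫ D.obj.hom) (pullback.snd (D.obj.hom ≫ p) p)
    (by rw [Category.assoc]; exact pullback.condition) ⟨pullback.fst _ _, rfl⟩).1

theorem act_hom : act D ≫ D.obj.hom = pullback.snd _ _ :=
  (D.φ (pullback.fst (D.obj.hom ≫ p) p ≫ D.obj.hom) (pullback.snd (D.obj.hom ≫ p) p)
    (by rw [Category.assoc]; exact pullback.condition) ⟨pullback.fst _ _, rfl⟩).2

/-- The translate of the point `v` to lie over `x`. -/
noncomputable def move {T : Scheme.{u}} (v : T ⟶ D.obj.left) (x : T ⟶ X)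
    (h : v ≫ D.obj.hom ≫ p = x ≫ p) : T ⟶ D.obj.left :=
  pullback.lift v x h ≫ act D

theorem move_hom {T : Scheme.{u}} (v : T ⟶ D.obj.left) (x : T ⟶ X) (h : v ≫ D.obj.hom ≫ p = x ≫ p) :
    move D v x h ≫ D.obj.hom = x := by
  rw [move, Category.assoc, act_hom, pullback.lift_snd]

theorem φ_eq_move {T : Scheme.{u}} (x₀ x₁ : T ⟶ X) (h : x₀ ≫ p = x₁ ≫ p)
    (v : _root_.Desc.Lifts D.obj x₀) :
    (D.φ x₀ x₁ h v).1 = move D v.1 x₁ (by rw [← Category.assoc, v.2, h]) := by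
  obtain ⟨v, rfl⟩ := v
  have hg : v ≫ D.obj.hom ≫ p = x₁ ≫ p := by rw [← Category.assoc]; exact h
  have key : ∀ (y₀ y₁ : T ⟶ X) (_ : y₀ = pullback.lift v x₁ hg ≫ pullback.fst _ _ ≫ D.obj.hom)
      (_ : y₁ = pullback.lift v x₁ hg ≫ pullback.snd _ _) (hy : y₀ ≫ p = y₁ ≫ p)
      (w : _root_.Desc.Lifts D.obj y₀), w.1 = v → (D.φ y₀ y₁ hy w).1 = move D v x₁ hg := by
    intro y₀ y₁ e₀ e₁ hy w hw
    subst e₀ e₁
    exact D.φ_natural (pullback.lift v x₁ hg) _ _ _ hy ⟨pullback.fst _ _, rfl⟩ w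
      (by rw [hw]; exact (pullback.lift_fst _ _ _).symm)
  exact key _ _ (by rw [pullback.lift_fst_assoc]) (by rw [pullback.lift_snd]) h ⟨v, rfl⟩ rfl

theorem move_self {T : Scheme.{u}} (v : T ⟶ D.obj.left) (x : T ⟶ X) (h : v ≫ D.obj.hom ≫ p = x ≫ p)
    (hx : v ≫ D.obj.hom = x) : move D v x h = v := by
  subst hx
  rw [← φ_eq_move D (v ≫ D.obj.hom) (v ≫ D.obj.hom) rfl ⟨v, rfl⟩, D.φ_self]

theorem move_congr {T : Scheme.{u}} {v v' : T ⟶ D.obj.left} (e : v = v') {x : T ⟶ X}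
    (h : v ≫ D.obj.hom ≫ p = x ≫ p) : move D v x h = move D v' x (e ▸ h) := by subst e; rfl

theorem move_move {T : Scheme.{u}} (v : T ⟶ D.obj.left) (x y : T ⟶ X) (h : v ≫ D.obj.hom ≫ p = x ≫ p)
    (h' : move D v x h ≫ D.obj.hom ≫ p = y ≫ p) (h'' : v ≫ D.obj.hom ≫ p = y ≫ p) :
    move D (move D v x h) y h' = move D v y h'' := by
  have hxy : x ≫ p = y ≫ p := by rw [← h, h'']
  have hvx : (v ≫ D.obj.hom) ≫ p = x ≫ p := by rw [Category.assoc]; exact h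
  have hc : ∀ (v₁ v₂ : T ⟶ D.obj.left) (_ : v₁ = v₂) (h1 : v₁ ≫ D.obj.hom ≫ p = y ≫ p)
      (h2 : v₂ ≫ D.obj.hom ≫ p = y ≫ p), move D v₁ y h1 = move D v₂ y h2 := by
    rintro _ _ rfl _ _; rfl
  let w := D.φ (v ≫ D.obj.hom) x hvx ⟨v, rfl⟩
  calc move D (move D v x h) y h' = move D w.1 y (by rw [← Category.assoc, w.2, hxy]) :=
        hc _ _ (φ_eq_move D _ _ hvx ⟨v, rfl⟩).symm _ _
    _ = (D.φ x y hxy w).1 := (φ_eq_move D x y hxy w).symm
    _ = (D.φ (v ≫ D.obj.hom) y (hvx.trans hxy) ⟨v, rfl⟩).1 :=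
        congrArg Subtype.val (D.φ_comp _ x y hvx hxy ⟨v, rfl⟩)
    _ = move D v y h'' := φ_eq_move D _ _ _ ⟨v, rfl⟩

theorem move_comp {T T' : Scheme.{u}} (g : T' ⟶ T) (v : T ⟶ D.obj.left) (x : T ⟶ X)
    (h : v ≫ D.obj.hom ≫ p = x ≫ p) :
    g ≫ move D v x h = move D (g ≫ v) (g ≫ x) (by simp only [Category.assoc]; rw [h]) := by
  rw [move, move, ← Category.assoc]
  congr 1
  apply pullback.hom_ext <;> simp only [Category.assoc, pullback.lift_fst, pullback.lift_snd]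

/-- An open subset stable under the descent datum. -/
def Stable (W : D.obj.left.Opens) : Prop :=
  ∀ t : ↥(pullback (D.obj.hom ≫ p) p), pullback.fst (D.obj.hom ≫ p) p t ∈ W → act D t ∈ W

theorem Stable.inf {W W' : D.obj.left.Opens} (h : Stable D W) (h' : Stable D W') : Stable D (W ⊓ W') :=
  fun t ht => ⟨h t ht.1, h' t ht.2⟩

variable {D}

theorem Stable.move_mem {W : D.obj.left.Opens} (hW : Stable D W) {T : Scheme.{u}} (v : T ⟶ D.obj.left)
    (x : T ⟶ X) (h : v ≫ D.obj.hom ≫ p = x ≫ p) (t : T) (ht : v t ∈ W) : move D v x h t ∈ W := by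
  rw [move, Scheme.Hom.comp_apply]
  refine hW _ ?_
  rw [← Scheme.Hom.comp_apply, pullback.lift_fst]
  exact ht

theorem Stable.exists_lift {W : D.obj.left.Opens} (hW : Stable D W) {T : Scheme.{u}}
    (t : T ⟶ (W : Scheme.{u})) (x : T ⟶ X) (h : (t ≫ W.ι) ≫ D.obj.hom ≫ p = x ≫ p) :
    ∃ t' : T ⟶ (W : Scheme.{u}), t' ≫ W.ι = move D (t ≫ W.ι) x h :=
  ⟨IsOpenImmersion.lift W.ι _ (by
    rintro _ ⟨z, rfl⟩
    rw [Scheme.Opens.range_ι]
    exact hW.move_mem _ _ _ z (by rw [Scheme.Hom.comp_apply]; exact (t z).2)),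
    IsOpenImmersion.lift_fac _ _ _⟩

variable (D) in
/-- A quotient of a stable open by the descent datum. -/
structure Quot (W : D.obj.left.Opens) where
  /-- the quotient -/
  U : Scheme.{u}
  /-- the structure map -/
  str : U ⟶ S
  /-- the quotient map -/
  π : (W : Scheme.{u}) ⟶ U
  isPullback : IsPullback (W.ι ≫ D.obj.hom) π p str
  stable : Stable D W
  inv : ∀ {T : Scheme.{u}} (t t' : T ⟶ (W : Scheme.{u})) (x : T ⟶ X)
    (h : (t ≫ W.ι) ≫ D.obj.hom ≫ p = x ≫ p), move D (t ≫ W.ι) x h = t' ≫ W.ι → t ≫ π = t' ≫ π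

namespace Quot

variable {W : D.obj.left.Opens} (Q : Quot D W)

theorem isFpqc [IsFpqc p] : IsFpqc Q.π := IsFpqc.of_isPullback Q.isPullback

theorem compat {T : Scheme.{u}} {t t' : T ⟶ (W : Scheme.{u})} (h : t ≫ Q.π = t' ≫ Q.π) :
    (t ≫ W.ι) ≫ D.obj.hom ≫ p = (t' ≫ W.ι ≫ D.obj.hom) ≫ p := by
  have := congrArg (· ≫ Q.str) h
  simp only [Category.assoc, ← Q.isPullback.w] at this
  simpa only [Category.assoc] using this

theorem move_eq {T : Scheme.{u}} {t t' : T ⟶ (W : Scheme.{u})} (h : t ≫ Q.π = t' ≫ Q.π) :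
    move D (t ≫ W.ι) (t' ≫ W.ι ≫ D.obj.hom) (Q.compat h) = t' ≫ W.ι := by
  obtain ⟨t'', ht''⟩ := Q.stable.exists_lift t (t' ≫ W.ι ≫ D.obj.hom) (Q.compat h)
  rw [← ht'']
  congr 1
  apply Q.isPullback.hom_ext
  · rw [← Category.assoc, ht'', move_hom]
  · rw [← h]; exact (Q.inv t t'' _ _ ht''.symm).symm

/-- An invariant morphism factors uniquely through the quotient. -/
theorem existsUnique_desc [IsFpqc p] {Z : Scheme.{u}} (g : (W : Scheme.{u}) ⟶ Z)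
    (hg : ∀ {T : Scheme.{u}} (t t' : T ⟶ (W : Scheme.{u})) (x : T ⟶ X)
      (h : (t ≫ W.ι) ≫ D.obj.hom ≫ p = x ≫ p), move D (t ≫ W.ι) x h = t' ≫ W.ι → t ≫ g = t' ≫ g) :
    ∃! l : Q.U ⟶ Z, Q.π ≫ l = g := by
  haveI := Q.isFpqc
  refine ⟨EffectiveEpi.desc Q.π g (fun t t' h => hg t t' _ _ (Q.move_eq h)), EffectiveEpi.fac _ _ _,
    fun l hl => EffectiveEpi.uniq _ _ _ _ hl⟩

theorem epi [IsFpqc p] : Epi Q.π := by
  haveI := Q.isFpqc
  infer_instance

/-- Points with the same image are related. -/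
theorem mem_iff_of_π_eq {O : D.obj.left.Opens} (hO : Stable D O) {w w' : ↥(W : Scheme.{u})}
    (h : Q.π w = Q.π w') : W.ι w ∈ O → W.ι w' ∈ O := by
  intro hw
  obtain ⟨z, hz₁, hz₂⟩ := Scheme.Pullback.exists_preimage_pullback (f := Q.π) (g := Q.π) w w' h
  have h1 := Q.move_eq (t := pullback.fst Q.π Q.π) (t' := pullback.snd Q.π Q.π) pullback.condition
  have h2 := hO.move_mem _ _ (Q.compat (t := pullback.fst Q.π Q.π) (t' := pullback.snd Q.π Q.π)
    pullback.condition) z (by rw [Scheme.Hom.comp_apply, hz₁]; exact hw)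
  rw [h1, Scheme.Hom.comp_apply, hz₂] at h2
  exact h2

theorem isOpen_image [IsFpqc p] {O : D.obj.left.Opens} (hO : Stable D O) :
    IsOpen (Q.π '' (W.ι ⁻¹' O)) ∧ Q.π ⁻¹' (Q.π '' (W.ι ⁻¹' O)) = W.ι ⁻¹' O := by
  have h2 : Q.π ⁻¹' (Q.π '' (W.ι ⁻¹' O)) = W.ι ⁻¹' O :=
    Set.Subset.antisymm (fun w ⟨w', hw', e⟩ => Q.mem_iff_of_π_eq hO e hw') (Set.subset_preimage_image _ _)
  haveI := Q.isFpqc
  exact ⟨(IsFpqc.isQuotientMap Q.π).isCoinducing.isOpen_preimage.mp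
    (by rw [h2]; exact O.isOpen.preimage W.ι.continuous), h2⟩

/-- Restriction of a quotient to a smaller stable open. -/
theorem restrict [IsFpqc p] {O : D.obj.left.Opens} (hle : O ≤ W) (hO : Stable D O) :
    ∃ Q' : Quot D O, ∃ i : Q'.U ⟶ Q.U, IsOpenImmersion i ∧ Q'.π ≫ i = D.obj.left.homOfLE hle ≫ Q.π := by
  obtain ⟨hopen, hpre⟩ := Q.isOpen_image hO
  let U' : Q.U.Opens := ⟨_, hopen⟩
  let incl := D.obj.left.homOfLE hle
  have hincl : incl ≫ W.ι = O.ι := D.obj.left.homOfLE_ι hle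
  have hmem : ∀ z, Q.π (incl z) ∈ U' := fun z => ⟨incl z, by
    show W.ι (incl z) ∈ O
    rw [← Scheme.Hom.comp_apply, hincl]; exact z.2, rfl⟩
  let π' : (O : Scheme.{u}) ⟶ (U' : Scheme.{u}) := IsOpenImmersion.lift U'.ι (incl ≫ Q.π) (by
    rintro _ ⟨z, rfl⟩
    rw [Scheme.Opens.range_ι]
    exact hmem z)
  have hπ' : π' ≫ U'.ι = incl ≫ Q.π := IsOpenImmersion.lift_fac _ _ _
  have hsq : IsPullback π' incl U'.ι Q.π := by
    refine IsOpenImmersion.isPullback _ _ _ _ hπ'.symm ?_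
    rw [Scheme.Opens.opensRange_ι]
    refine TopologicalSpace.Opens.ext (Set.ext fun w => ⟨fun hw => ?_, ?_⟩)
    · have hw' : w ∈ W.ι ⁻¹' O := hpre ▸ hw
      exact ⟨⟨W.ι w, hw'⟩, W.ι.isOpenEmbedding.injective (by
        rw [← Scheme.Hom.comp_apply, hincl]; rfl)⟩
    · rintro ⟨z, rfl⟩
      exact hmem z
  refine ⟨⟨_, U'.ι ≫ Q.str, π', ?_, hO, fun t t' x h e => ?_⟩, U'.ι, inferInstance, hπ'⟩
  · have := hsq.flip.paste_horiz Q.isPullback
    rwa [← Category.assoc, hincl] at this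
  · rw [← cancel_mono U'.ι, Category.assoc, Category.assoc, hπ', ← Category.assoc, ← Category.assoc]
    refine Q.inv (t ≫ incl) (t' ≫ incl) x (by simpa only [Category.assoc, reassoc_of% hincl] using h) ?_
    simpa only [Category.assoc, hincl] using e

end Quot

end Groth.Agent.SchDesc
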